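import Groth.Agent.Lib.Helper92.LocCohTorsion
import Groth.Agent.Lib.Helper67.Depth

open CategoryTheory CategoryTheory.Limits Opposite
open scoped Pointwise

namespace Groth.Agent.Lib.Helper92.LC

universe u
variable {R : Type u} [CommRing R] (I : Ideal R)

section Basic

variable (i : ℕ) {M : ModuleCat.{u} R}

/-- every element of `H^i_I(M)` is killed by a power of `I`. -/
theorem exists_pow_smul_eq_zero (y : (localCohomology I i).obj M) :
    ∃ t : ℕ, ∀ a ∈ I ^ t, a • y = 0 := by
  obtain ⟨t, x, rfl⟩ := exists_rep I i y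
  refine ⟨t, fun a ha => ?_⟩
  rw [← mk_smul]
  have : a • x = 0 := by
    apply Groth.Agent.Lib.Helper67.ext_smul_eq_zero_of_mem_annihilator_left
    rw [Module.mem_annihilator]
    intro q
    obtain ⟨r, rfl⟩ := Submodule.Quotient.mk_surjective _ q
    rw [← Submodule.Quotient.mk_smul]
    exact (Submodule.Quotient.mk_eq_zero _).2 (Ideal.mul_mem_right _ _ ha)
  rw [this, mk_zero]

theorem Hmap_smul_id (x : R) (y : (localCohomology I i).obj M) :
    Hmap I i (x • 𝟙 M) y = x • y := by
  obtain ⟨t, a, rfl⟩ := exists_rep I i y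
  rw [Hmap_mk, ← Abelian.Ext.smul_eq_comp_mk₀, mk_smul]

end Basic

section SMulSES

variable (M : Type u) [AddCommGroup M] [Module R M] (x : R)

/-- The sequence `0 → M →x M → M/xM → 0`. -/
noncomputable abbrev sesSMul : ShortComplex (ModuleCat.{u} R) :=
  ModuleCat.shortComplexOfCompEqZero (LinearMap.lsmul R M x)
    (Submodule.mkQ (x • (⊤ : Submodule R M))) (by
      ext m
      exact (Submodule.Quotient.mk_eq_zero _).2
        (Submodule.smul_mem_pointwise_smul m x ⊤ Submodule.mem_top))

theorem sesSMul_shortExact (hx : IsSMulRegular M x) : (sesSMul M x).ShortExact := by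
  refine ModuleCat.shortComplex_shortExact _ ?_ (fun a b h => hx h) (Submodule.mkQ_surjective _)
  intro m
  constructor
  · intro hm
    have := (Submodule.Quotient.mk_eq_zero _).1 hm
    obtain ⟨m', -, rfl⟩ := (Submodule.mem_smul_pointwise_iff_exists _ _ _).1 this
    exact ⟨m', rfl⟩
  · rintro ⟨m', rfl⟩
    exact (Submodule.Quotient.mk_eq_zero _).2
      (Submodule.smul_mem_pointwise_smul m' x ⊤ Submodule.mem_top)

theorem sesSMul_f : (sesSMul M x).f = x • 𝟙 (ModuleCat.of R M) := by
  ext m
  rfl

end SMulSES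


section Depth

open LocCoh Groth.Agent.Lib.Helper67

variable [IsNoetherianRing R]

/-- `H^i_I(M) = 0` for `i < depth_I(M)` (finite `M`, `IM ≠ M`). -/
theorem subsingleton_of_lt_idealDepth (n : ℕ) :
    ∀ (M : Type u) [AddCommGroup M] [Module R M] [Module.Finite R M],
      I • (⊤ : Submodule R M) ≠ ⊤ → (n : ℕ∞) ≤ idealDepth I M →
      ∀ i < n, Subsingleton ((localCohomology I i).obj (ModuleCat.of R M)) := by
  induction n with
  | zero => intro M _ _ _ _ _ i hi; omega
  | succ n ih =>
    intro M _ _ _ hIM hdepth i hi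
    have h1 : (1 : ℕ∞) ≤ idealDepth I M := le_trans (by simp) hdepth
    rcases (one_le_idealDepth_iff I M).1 h1 with h | ⟨x, hxI, hreg⟩
    · exact absurd h hIM
    have hIQ := smul_top_quotSMulTop_ne_top hxI hIM
    have hd : (n : ℕ∞) ≤ idealDepth I (QuotSMulTop x M) := by
      have := idealDepth_quotSMulTop_add_one I M hIM x hxI hreg
      rw [← this] at hdepth
      push_cast at hdepth
      exact (ENat.add_le_add_iff_right ENat.one_ne_top).1 hdepth
    have hS := sesSMul_shortExact M x hreg
    have hinj : ∀ y : (localCohomology I i).obj (ModuleCat.of R M), x • y = 0 → y = 0 := by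
      intro y hy
      rw [← Hmap_smul_id, ← sesSMul_f] at hy
      rcases i with _ | i'
      · exact (Hmap_f_zero_injective I hS) (hy.trans (map_zero _).symm)
      · obtain ⟨z, rfl⟩ := exact₁ I i' hS y hy
        have : Subsingleton ((localCohomology I i').obj (sesSMul M x).X₃) :=
          ih (QuotSMulTop x M) hIQ hd i' (by omega)
        rw [Subsingleton.elim z 0, map_zero]
    refine ⟨fun y y' => ?_⟩
    suffices h : ∀ y : (localCohomology I i).obj (ModuleCat.of R M), y = 0 from
      (h y).trans (h y').symm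
    intro y
    obtain ⟨t, ht⟩ := exists_pow_smul_eq_zero I i y
    have hxt := ht (x ^ t) (Ideal.pow_mem_pow hxI t)
    clear ht
    induction t with
    | zero => simpa using hxt
    | succ t iht =>
      apply iht
      apply hinj
      rw [← mul_smul, ← pow_succ']
      exact hxt


/-- `H^n_I(M) ≠ 0` for `n = depth_I(M)` (finite `M`, `IM ≠ M`). -/
theorem nontrivial_of_idealDepth_eq (n : ℕ) :
    ∀ (M : Type u) [AddCommGroup M] [Module R M] [Module.Finite R M],
      I • (⊤ : Submodule R M) ≠ ⊤ → idealDepth I M = (n : ℕ∞) →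
      Nontrivial ((localCohomology I n).obj (ModuleCat.of R M)) := by
  induction n with
  | zero =>
    intro M _ _ _ hIM hdepth
    have h0 : idealDepth I M = 0 := by simpa using hdepth
    obtain ⟨-, p, hp, hIp⟩ := (idealDepth_eq_zero_iff I M).1 h0
    obtain ⟨hpp, m, hm⟩ := (isAssociatedPrime_iff).1 ((AssociatedPrimes.mem_iff).1 hp)
    have hm0 : m ≠ 0 := by
      rintro rfl
      apply hpp.ne_top
      rw [hm]
      rw [Ideal.eq_top_iff_one, Submodule.mem_colon_singleton]
      simp
    have hmem : m ∈ DRing.torsionSub I M := by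
      refine ⟨1, fun a ha => ?_⟩
      rw [pow_one] at ha
      have := hIp ha
      rw [hm, Submodule.mem_colon_singleton] at this
      simpa using this
    let y := (γEquiv I (ModuleCat.of R M)).symm ⟨m, hmem⟩
    refine ⟨⟨y, 0, fun h => hm0 ?_⟩⟩
    have h1 : (γEquiv I (ModuleCat.of R M)) y = ⟨m, hmem⟩ := LinearEquiv.apply_symm_apply _ _
    rw [h, map_zero] at h1
    exact (congrArg Subtype.val h1).symm
  | succ n ih =>
    intro M _ _ _ hIM hdepth
    have h1 : (1 : ℕ∞) ≤ idealDepth I M := by
      rw [hdepth]; push_cast; exact le_add_self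
    rcases (one_le_idealDepth_iff I M).1 h1 with h | ⟨x, hxI, hreg⟩
    · exact absurd h hIM
    have hIQ := smul_top_quotSMulTop_ne_top hxI hIM
    have hd : idealDepth I (QuotSMulTop x M) = (n : ℕ∞) := by
      have := idealDepth_quotSMulTop_add_one I M hIM x hxI hreg
      rw [← this] at hdepth
      push_cast at hdepth
      exact WithTop.add_right_cancel ENat.one_ne_top hdepth
    have hS := sesSMul_shortExact M x hreg
    have hnt : Nontrivial ((localCohomology I n).obj (sesSMul M x).X₃) := ih (QuotSMulTop x M) hIQ hd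
    have hsub : Subsingleton ((localCohomology I n).obj (sesSMul M x).X₂) :=
      subsingleton_of_lt_idealDepth I (n + 1) M hIM (le_of_eq hdepth.symm) n (by omega)
    obtain ⟨z, hz⟩ := exists_ne (0 : (localCohomology I n).obj (sesSMul M x).X₃)
    refine ⟨⟨δ I n hS z, 0, fun h => hz ?_⟩⟩
    obtain ⟨y, rfl⟩ := exact₃ I n hS z h
    rw [Subsingleton.elim y 0, map_zero]

/-- the depth of `M` in `I` is the least `n` with `H^n_I(M) ≠ 0`. -/
theorem idealDepth_eq_iff (M : Type u) [AddCommGroup M] [Module R M] [Module.Finite R M]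
    (hIM : I • (⊤ : Submodule R M) ≠ ⊤) (n : ℕ) :
    idealDepth I M = n ↔
      ((∀ i : ℕ, i < n → Subsingleton ((localCohomology I i).obj (ModuleCat.of R M))) ∧
        Nontrivial ((localCohomology I n).obj (ModuleCat.of R M))) := by
  constructor
  · intro h
    exact ⟨subsingleton_of_lt_idealDepth I n M hIM (le_of_eq h.symm),
      nontrivial_of_idealDepth_eq I n M hIM h⟩
  · rintro ⟨hlt, hnt⟩
    by_cases hle : ((n + 1 : ℕ) : ℕ∞) ≤ idealDepth I M
    · have := subsingleton_of_lt_idealDepth I (n + 1) M hIM hle n (by omega)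
      exact absurd hnt (not_nontrivial _)
    · rw [not_le] at hle
      obtain ⟨d, hd⟩ := ENat.ne_top_iff_exists.1 (ne_top_of_lt hle)
      rw [← hd] at hle ⊢
      have hdn : d ≤ n := by
        have : d < n + 1 := by exact_mod_cast hle
        omega
      have hntd := nontrivial_of_idealDepth_eq I d M hIM hd.symm
      rcases Nat.lt_or_eq_of_le hdn with hlt' | rfl
      · have := hlt d hlt'
        exact absurd hntd (not_nontrivial _)
      · rfl

end Depth

end Groth.Agent.Lib.Helper92.LC
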