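import Groth.Agent.Lib.Helper92.LocCohDT

open CategoryTheory CategoryTheory.Limits Opposite

namespace Groth.Agent.Lib.Helper92.LC

open Groth.Agent.Lib.Helper92.IdealTransform LocCoh

universe u
variable {R : Type u} [CommRing R] (I : Ideal R)

section Nat

variable {M N : Type u} [AddCommGroup M] [Module R M] [AddCommGroup N] [Module R N]

/-- naturality of `θ : D_I(M) → H^1_I(M)`. -/
theorem θ_naturality (e : M →ₗ[R] N) (y : DT I M) :
    θ I N (((idealTransform I).map (ModuleCat.ofHom e)).hom y) =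
      Hmap I 1 (ModuleCat.ofHom e) (θ I M y) := by
  obtain ⟨t, f, rfl⟩ := exists_repL I M y
  rw [map_mkL, θ_mkL, θ_mkL, Hmap_mk, Abelian.Ext.comp_assoc _ _ _ (add_zero 1) (add_zero 0)
    (by omega), Abelian.Ext.mk₀_comp_mk₀]
  rfl

/-- naturality of `η : M → D_I(M)`. -/
theorem toDT_naturality (e : M →ₗ[R] N) (m : M) :
    ((idealTransform I).map (ModuleCat.ofHom e)).hom (toDT I M m) = toDT I N (e m) := by
  rw [toDT_eq_zero, map_mkL, toDT_eq_zero]
  congr 1
  ext x
  simp

end Nat

end Groth.Agent.Lib.Helper92.LC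

namespace Groth.Agent.Lib.Helper92.LC

open Groth.Agent.Lib.Helper92.IdealTransform LocCoh

universe u
variable {R : Type u} [CommRing R] (I : Ideal R)

section Exactness

variable {S : ShortComplex (ModuleCat.{u} R)} (hS : S.ShortExact)

include hS in
theorem DT_map_f_injective : Function.Injective ((idealTransform I).map S.f).hom := by
  rw [injective_iff_map_eq_zero]
  intro y hy
  obtain ⟨t, φ, rfl⟩ := exists_repL I S.X₁ y
  have h1 := map_mkL I S.X₁ (N := S.X₂) S.f.hom t φ
  rw [ModuleCat.ofHom_hom] at h1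
  rw [h1, mkL_eq_zero_iff] at hy
  obtain ⟨k, hk, h0⟩ := hy
  rw [mkL_eq_zero_iff]
  refine ⟨k, hk, ?_⟩
  ext x
  have hinj : Function.Injective S.f.hom := (ModuleCat.mono_iff_injective S.f).1 hS.mono_f
  apply hinj
  have := LinearMap.congr_fun h0 x
  simpa using this

include hS in
theorem DT_exact (y : DT I S.X₂) (hy : ((idealTransform I).map S.g).hom y = 0) :
    ∃ x : DT I S.X₁, ((idealTransform I).map S.f).hom x = y := by
  obtain ⟨t, ψ, rfl⟩ := exists_repL I S.X₂ y
  have h1 := map_mkL I S.X₂ (N := S.X₃) S.g.hom t ψ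
  rw [ModuleCat.ofHom_hom] at h1
  rw [h1, mkL_eq_zero_iff] at hy
  obtain ⟨k, hk, h0⟩ := hy
  have hinj : Function.Injective S.f.hom := (ModuleCat.mono_iff_injective S.f).1 hS.mono_f
  have hex := (ShortComplex.moduleCat_exact_iff S).1 hS.exact
  -- lift `res ψ` through `f`
  have hmem : ∀ x : ↥(I ^ k), res I S.X₂ hk ψ x ∈ LinearMap.range S.f.hom := by
    intro x
    have := LinearMap.congr_fun h0 x
    obtain ⟨x₁, hx₁⟩ := hex (res I S.X₂ hk ψ x) (by simpa using this)
    exact ⟨x₁, hx₁⟩
  let e := LinearEquiv.ofInjective S.f.hom hinj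
  let φ : ↥(I ^ k) →ₗ[R] S.X₁ :=
    e.symm.toLinearMap ∘ₗ (res I S.X₂ hk ψ).codRestrict (LinearMap.range S.f.hom) hmem
  refine ⟨mkL I S.X₁ k φ, ?_⟩
  have h2 := map_mkL I S.X₁ (N := S.X₂) S.f.hom k φ
  rw [ModuleCat.ofHom_hom] at h2
  rw [h2, ← mkL_res I S.X₂ hk ψ]
  congr 1
  ext x
  have : S.f.hom (e.symm ((res I S.X₂ hk ψ).codRestrict (LinearMap.range S.f.hom) hmem x)) =
      ((res I S.X₂ hk ψ).codRestrict (LinearMap.range S.f.hom) hmem x : S.X₂) :=
    LinearEquiv.ofInjective_symm_apply (h := hinj) S.f.hom _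
  exact this


include hS in
/-- `D_I(g)` is surjective as soon as `H^2_I(X₁) = 0`. -/
theorem DT_map_g_surjective (h2 : Subsingleton ((localCohomology I 2).obj S.X₁)) :
    Function.Surjective ((idealTransform I).map S.g).hom := by
  intro y
  have hδ : δ I 1 hS (θ I S.X₃ y) = 0 := Subsingleton.elim _ _
  obtain ⟨w, hw⟩ := exact₃ I 1 hS _ hδ
  obtain ⟨z, rfl⟩ := θ_surjective I S.X₂ w
  have hnat := θ_naturality I (M := S.X₂) (N := S.X₃) S.g.hom z
  rw [ModuleCat.ofHom_hom] at hnat
  have h0 : θ I S.X₃ (y - ((idealTransform I).map S.g).hom z) = 0 := by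
    rw [map_sub, hnat, hw, sub_self]
  obtain ⟨m₃, hm₃⟩ := θ_eq_zero I S.X₃ _ h0
  have hsurj : Function.Surjective S.g.hom := (ModuleCat.epi_iff_surjective S.g).1 hS.epi_g
  obtain ⟨m₂, rfl⟩ := hsurj m₃
  have hnat2 := toDT_naturality I (M := S.X₂) (N := S.X₃) S.g.hom m₂
  rw [ModuleCat.ofHom_hom] at hnat2
  refine ⟨z + toDT I S.X₂ m₂, ?_⟩
  rw [map_add, hnat2, hm₃]
  abel

end Exactness

end Groth.Agent.Lib.Helper92.LC

namespace Groth.Agent.Lib.Helper92.LC

open Groth.Agent.Lib.Helper92.IdealTransform LocCoh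

universe u
variable {R : Type u} [CommRing R] (I : Ideal R)

/-- the injective embedding sequence `0 → M → E → E/M → 0`. -/
theorem exists_injective_ses (M : ModuleCat.{u} R) :
    ∃ (S : ShortComplex (ModuleCat.{u} R)), S.ShortExact ∧ S.X₁ = M ∧ Injective S.X₂ := by
  let ι : M ⟶ Injective.under M := Injective.ι M
  have hι : Function.Injective ι.hom := (ModuleCat.mono_iff_injective ι).1 inferInstance
  refine ⟨sesOfInjective ι.hom, sesOfInjective_shortExact ι.hom hι, rfl, ?_⟩
  exact (inferInstance : Injective (Injective.under M))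

theorem cdLE_one_of_DT_exact
    (h : ∀ (S : ShortComplex (ModuleCat.{u} R)), S.ShortExact →
      Function.Surjective ((idealTransform I).map S.g).hom) :
    LocCoh.CdLE R I 1 := by
  -- `H^{i+2}(M) = 0` for all `M`, by induction on `i`.
  have key : ∀ (i : ℕ) (M : ModuleCat.{u} R), Subsingleton ((localCohomology I (i + 2)).obj M) := by
    intro i
    induction i with
    | zero =>
      intro M
      obtain ⟨S, hS, rfl, hE⟩ := exists_injective_ses M
      have hE1 : Subsingleton ((localCohomology I (0 + 1)).obj S.X₂) :=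
        subsingleton_of_injective I 0 S.X₂
      have hE2 : Subsingleton ((localCohomology I (1 + 1)).obj S.X₂) :=
        subsingleton_of_injective I 1 S.X₂
      have hC : ∀ w : (localCohomology I 1).obj S.X₃, w = 0 := by
        intro w
        obtain ⟨y, rfl⟩ := θ_surjective I S.X₃ w
        obtain ⟨z, rfl⟩ := h S hS y
        have hnat := θ_naturality I (M := S.X₂) (N := S.X₃) S.g.hom z
        rw [ModuleCat.ofHom_hom] at hnat
        rw [hnat, Subsingleton.elim (θ I S.X₂ z) 0, map_zero]
      refine ⟨fun x y => ?_⟩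
      suffices h : ∀ x : (localCohomology I (1 + 1)).obj S.X₁, x = 0 from (h x).trans (h y).symm
      intro x
      obtain ⟨z, rfl⟩ := exact₁ I 1 hS x (Subsingleton.elim _ _)
      rw [hC z, map_zero]
    | succ i ih =>
      intro M
      obtain ⟨S, hS, rfl, hE⟩ := exists_injective_ses M
      have hE2 : Subsingleton ((localCohomology I (i + 2 + 1)).obj S.X₂) :=
        subsingleton_of_injective I (i + 2) S.X₂
      have hC := ih S.X₃
      refine ⟨fun x y => ?_⟩
      suffices h : ∀ x : (localCohomology I (i + 2 + 1)).obj S.X₁, x = 0 from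
        (h x).trans (h y).symm
      intro x
      obtain ⟨z, rfl⟩ := exact₁ I (i + 2) hS x (Subsingleton.elim _ _)
      rw [Subsingleton.elim z 0, map_zero]
  intro M _ _ i hi
  obtain ⟨j, rfl⟩ : ∃ j, i = j + 2 := ⟨i - 2, by omega⟩
  exact key j (ModuleCat.of R M)

theorem idealTransform_exact_iff :
    (PreservesFiniteLimits (LocCoh.idealTransform I) ∧
      PreservesFiniteColimits (LocCoh.idealTransform I)) ↔ LocCoh.CdLE R I 1 := by
  have htfae := (Functor.exact_tfae (LocCoh.idealTransform I)).out 0 3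
  rw [← htfae]
  constructor
  · intro h
    apply cdLE_one_of_DT_exact
    intro S hS
    have := (h S hS).epi_g
    exact (ModuleCat.epi_iff_surjective _).1 this
  · intro hcd S hS
    have hmono : Mono (S.map (idealTransform I)).f :=
      (ModuleCat.mono_iff_injective _).2 (DT_map_f_injective I hS)
    have hepi : Epi (S.map (idealTransform I)).g :=
      (ModuleCat.epi_iff_surjective _).2
        (DT_map_g_surjective I hS (hcd S.X₁ 2 (by omega)))
    refine ShortComplex.ShortExact.mk ?_
    rw [ShortComplex.moduleCat_exact_iff]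
    intro y hy
    exact DT_exact I hS y hy

end Groth.Agent.Lib.Helper92.LC
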