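import Groth.Agent.Lib.Helper92.LocCohLoc
import Groth.Agent.Lib.Helper92.LocCohDTExact
import Mathlib.Algebra.Module.SnakeLemma

open CategoryTheory CategoryTheory.Limits Opposite

namespace Groth.Agent.Lib.Helper92.LC

universe u
variable {R : Type u} [CommRing R]

section Div

variable [IsNoetherianRing R]

/-- In an injective module over a Noetherian ring, every element is divisible by `b^n` up to
`b`-power torsion. -/
theorem exists_div_mod_torsion (N : Type u) [AddCommGroup N] [Module R N] [Module.Injective R N]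
    (b : R) (x : N) (n : ℕ) : ∃ (x' : N) (j : ℕ), b ^ j • (b ^ n • x' - x) = 0 := by
  -- the annihilators of `b^j` stabilise
  let J : ℕ →o Submodule R R :=
    { toFun := fun j => LinearMap.ker (LinearMap.toSpanSingleton R R (b ^ j))
      monotone' := by
        intro j k hjk r hr
        rw [LinearMap.mem_ker, LinearMap.toSpanSingleton_apply] at hr ⊢
        obtain ⟨d, rfl⟩ := Nat.exists_eq_add_of_le hjk
        rw [pow_add, smul_eq_mul, ← mul_assoc, ← smul_eq_mul (a := r), hr, zero_mul] }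
  obtain ⟨j, hj⟩ := monotone_stabilizes_iff_noetherian.2 (inferInstance : IsNoetherian R R) J
  let f : R →ₗ[R] R := LinearMap.toSpanSingleton R R (b ^ (n + j))
  let ψ : R →ₗ[R] N := LinearMap.toSpanSingleton R N (b ^ j • x)
  have hker : LinearMap.ker f ≤ LinearMap.ker ψ := by
    intro r hr
    have h1 : r ∈ J (n + j) := hr
    rw [← hj (n + j) (Nat.le_add_left j n)] at h1
    have h2 : r • b ^ j = 0 := h1
    rw [LinearMap.mem_ker, LinearMap.toSpanSingleton_apply, smul_smul, ← smul_eq_mul, h2, zero_smul]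
  let fbar : (R ⧸ LinearMap.ker f) →ₗ[R] R := (LinearMap.ker f).liftQ f le_rfl
  have hfbar : Function.Injective fbar := by
    rw [← LinearMap.ker_eq_bot]
    exact Submodule.ker_liftQ_eq_bot _ _ _ le_rfl
  obtain ⟨h, hh⟩ := Module.Injective.out fbar hfbar ((LinearMap.ker f).liftQ ψ hker)
  refine ⟨h 1, j, ?_⟩
  have h3 := hh (Submodule.Quotient.mk 1)
  have h4 : fbar (Submodule.Quotient.mk 1) = b ^ (n + j) := by
    change f 1 = _
    simp [f]
  have h5 : ((LinearMap.ker f).liftQ ψ hker) (Submodule.Quotient.mk 1) = b ^ j • x := by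
    change ψ 1 = _
    simp [ψ]
  rw [h4, h5] at h3
  have h6 : h (b ^ (n + j)) = b ^ (n + j) • h 1 := by
    rw [← map_smul, smul_eq_mul, mul_one]
  rw [smul_sub, smul_smul, ← pow_add, add_comm j n, ← h6, h3, sub_self]

end Div

end Groth.Agent.Lib.Helper92.LC

namespace Groth.Agent.Lib.Helper92.LC

universe u
variable {R : Type u} [CommRing R] (I : Ideal R) (i : ℕ)

section ExactForms

variable {S : ShortComplex (ModuleCat.{u} R)} (hS : S.ShortExact)

include hS in
theorem exact_Hmap_f_g : Function.Exact (Hmap I i S.f) (Hmap I i S.g) := by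
  intro y
  constructor
  · exact exact₂ I i hS y
  · rintro ⟨x, rfl⟩
    exact Hmap_g_Hmap_f I i S x

theorem exact_Hmap_g_δ : Function.Exact (Hmap I i S.g) (δ I i hS) := by
  intro z
  constructor
  · exact exact₃ I i hS z
  · rintro ⟨y, rfl⟩
    exact δ_Hmap_g I i hS y

theorem exact_δ_Hmap_f : Function.Exact (δ I i hS) (Hmap I (i + 1) S.f) := by
  intro x
  constructor
  · exact exact₁ I i hS x
  · rintro ⟨z, rfl⟩
    exact Hmap_f_δ I i hS z

/-- naturality of the connecting homomorphism -/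
theorem δ_naturality {S' : ShortComplex (ModuleCat.{u} R)} (hS' : S'.ShortExact) (φ : S ⟶ S')
    (z : (localCohomology I i).obj S.X₃) :
    Hmap I (i + 1) φ.τ₁ (δ I i hS z) = δ I i hS' (Hmap I i φ.τ₃ z) := by
  obtain ⟨t, x, rfl⟩ := exists_rep I i z
  rw [δ_mk, Hmap_mk, Hmap_mk, δ_mk]
  congr 1
  rw [Abelian.Ext.comp_assoc _ _ _ rfl (add_zero 1) (by omega),
    ShortComplex.ShortExact.extClass_naturality hS hS' φ,
    ← Abelian.Ext.comp_assoc _ _ _ (add_zero i) (zero_add 1) (by omega)]

end ExactForms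

section LocSES

variable (b : R) (S : ShortComplex (ModuleCat.{u} R))

/-- localization of a linear map at the powers of `b`, as an `R`-linear map -/
noncomputable abbrev locLin {M N : Type u} [AddCommGroup M] [Module R M] [AddCommGroup N]
    [Module R N] (f : M →ₗ[R] N) :
    LocalizedModule (Submonoid.powers b) M →ₗ[R] LocalizedModule (Submonoid.powers b) N :=
  IsLocalizedModule.map (Submonoid.powers b) (locMap b M) (locMap b N) f

/-- the localized short complex -/
noncomputable abbrev locSC : ShortComplex (ModuleCat.{u} R) :=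
  ModuleCat.shortComplexOfCompEqZero (locLin b S.f.hom) (locLin b S.g.hom) (by
    rw [← IsLocalizedModule.map_comp']
    have : S.g.hom ∘ₗ S.f.hom = 0 := by
      rw [← ModuleCat.hom_comp, S.zero]; rfl
    rw [this, map_zero])

theorem locSC_shortExact (hS : S.ShortExact) : (locSC b S).ShortExact := by
  refine ModuleCat.shortComplex_shortExact _ ?_ ?_ ?_
  · exact LocalizedModule.map_exact (Submonoid.powers b) S.f.hom S.g.hom
      ((ShortComplex.ShortExact.moduleCat_exact_iff_function_exact S).1 hS.exact)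
  · exact IsLocalizedModule.map_injective _ _ _ _ ((ModuleCat.mono_iff_injective S.f).1 hS.mono_f)
  · exact IsLocalizedModule.map_surjective _ _ _ _ ((ModuleCat.epi_iff_surjective S.g).1 hS.epi_g)

/-- the localization morphism of short complexes -/
noncomputable def locHom : S ⟶ locSC b S where
  τ₁ := ModuleCat.ofHom (locMap b S.X₁)
  τ₂ := ModuleCat.ofHom (locMap b S.X₂)
  τ₃ := ModuleCat.ofHom (locMap b S.X₃)
  comm₁₂ := by
    ext x
    exact IsLocalizedModule.map_apply (Submonoid.powers b) (locMap b S.X₁) (locMap b S.X₂)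
      S.f.hom x
  comm₂₃ := by
    ext x
    exact IsLocalizedModule.map_apply (Submonoid.powers b) (locMap b S.X₂) (locMap b S.X₃)
      S.g.hom x

end LocSES

end Groth.Agent.Lib.Helper92.LC

namespace Groth.Agent.Lib.Helper92.LC

universe u
variable {R : Type u} [CommRing R] [IsNoetherianRing R] (a : Ideal R) (b : R)

/-- for injective `E`, `H^0_a(E) → H^0_a(E_b)` is surjective. -/
theorem Hloc_zero_surjective_of_injective (E : ModuleCat.{u} R) [Injective E] :
    Function.Surjective (Hloc a 0 b E) := by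
  intro y
  obtain ⟨n, x, hx⟩ := Hloc_surj a 0 b E y
  have hE : Module.Injective R E := Module.injective_module_of_injective_object R E
  have hN : Module.Injective R (DRing.torsionSub a E) := injective_torsionSub a E
  obtain ⟨x₁, j, hj⟩ := exists_div_mod_torsion (DRing.torsionSub a E) b (γEquiv a E x) n
  refine ⟨(γEquiv a E).symm x₁, ?_⟩
  have h1 : b ^ j • (b ^ n • (γEquiv a E).symm x₁ - x) = 0 := by
    apply (γEquiv a E).injective
    rw [map_smul, map_sub, map_smul, LinearEquiv.apply_symm_apply, hj, map_zero]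
  have h2 : b ^ j • (b ^ n • (Hloc a 0 b E ((γEquiv a E).symm x₁) - y)) = 0 := by
    rw [smul_sub, ← hx, ← map_smul, ← map_sub, ← map_smul, h1, map_zero]
  have h3 := smul_injective_Hloc a 0 b E _ j h2
  have h4 := smul_injective_Hloc a 0 b E _ n h3
  exact sub_eq_zero.1 h4

end Groth.Agent.Lib.Helper92.LC

namespace Groth.Agent.Lib.Helper92.LC

universe u
variable {R : Type u} [CommRing R] (a : Ideal R) (b : R)

section Basic

variable (M : Type u) [AddCommGroup M] [Module R M]

/-- `a ≤ a + Rb` -/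
theorem le_sup_span : a ≤ a ⊔ Ideal.span {b} := le_sup_left

/-- `ℓ_* ∘ c = 0`. -/
theorem Hloc_cmp (i : ℕ) (u : (localCohomology (a ⊔ Ideal.span {b}) i).obj (ModuleCat.of R M)) :
    Hloc a i b M (cmp (le_sup_span a b) i _ u) = 0 := by
  have hbI : b ∈ a ⊔ Ideal.span {b} :=
    Ideal.mem_sup_right (Ideal.subset_span (Set.mem_singleton b))
  have : Subsingleton ((localCohomology (a ⊔ Ideal.span {b}) i).obj
      (ModuleCat.of R (LocalizedModule (Submonoid.powers b) M))) :=
    subsingleton_of_smul_bijective _ i _ b hbI (smul_bijective_localizedModule b M)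
  change Hmap a i (ModuleCat.ofHom (locMap b M)) (cmp (le_sup_span a b) i _ u) = 0
  rw [← cmp_naturality, Subsingleton.elim (Hmap _ i (ModuleCat.ofHom (locMap b M)) u) 0, map_zero]

/-- exactness of `H^0_{a+Rb}(M) → H^0_a(M) → H^0_a(M_b)`. -/
theorem exact_cmp_Hloc_zero :
    Function.Exact (cmp (le_sup_span a b) 0 (ModuleCat.of R M)) (Hloc a 0 b M) := by
  intro y
  constructor
  · intro hy
    have h1 : locMap b M (γ a y) = 0 := by
      have := γ_naturality a (ModuleCat.ofHom (locMap b M)) y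
      rw [ModuleCat.hom_ofHom] at this
      rw [← this]
      change γ a (Hloc a 0 b M y) = 0
      rw [hy, map_zero]
    obtain ⟨⟨_, k, rfl⟩, hk⟩ :=
      (IsLocalizedModule.eq_zero_iff (Submonoid.powers b) (locMap b M)).1 h1
    obtain ⟨n, hn⟩ := γ_mem a y
    have hmem : γ a y ∈ DRing.torsionSub (a ⊔ Ideal.span {b}) (ModuleCat.of R M) := by
      refine ⟨n + k, fun r hr => ?_⟩
      have := Ideal.sup_pow_add_le_pow_sup_pow hr
      obtain ⟨r₁, hr₁, r₂, hr₂, rfl⟩ := Submodule.mem_sup.1 this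
      rw [Ideal.span_singleton_pow, Ideal.mem_span_singleton'] at hr₂
      obtain ⟨c, rfl⟩ := hr₂
      rw [add_smul, hn r₁ hr₁, zero_add, mul_smul]
      have hk' : b ^ k • γ a y = 0 := hk
      rw [hk', smul_zero]
    obtain ⟨y', hy'⟩ := exists_γ_eq (a ⊔ Ideal.span {b}) (γ a y) hmem
    refine ⟨y', ?_⟩
    apply γ_injective a
    rw [γ_cmp, hy']
  · rintro ⟨y', rfl⟩
    exact Hloc_cmp a b M 0 y'

end Basic

end Groth.Agent.Lib.Helper92.LC

namespace Groth.Agent.Lib.Helper92.LC

universe u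
variable {R : Type u} [CommRing R] [IsNoetherianRing R] (a : Ideal R) (b : R)

section Step

variable {S : ShortComplex (ModuleCat.{u} R)} (hS : S.ShortExact)

omit [IsNoetherianRing R] in
theorem Hloc_naturality_g (i : ℕ) (e : (localCohomology a i).obj S.X₂) :
    Hmap a i (locSC b S).g (Hloc a i b S.X₂ e) = Hloc a i b S.X₃ (Hmap a i S.g e) := by
  change Hmap a i (locSC b S).g (Hmap a i (locHom b S).τ₂ e) =
    Hmap a i (locHom b S).τ₃ (Hmap a i S.g e)
  rw [← Hmap_comp, ← Hmap_comp, (locHom b S).comm₂₃]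

omit [IsNoetherianRing R] in
theorem Hloc_naturality_f (i : ℕ) (m : (localCohomology a i).obj S.X₁) :
    Hmap a i (locSC b S).f (Hloc a i b S.X₁ m) = Hloc a i b S.X₂ (Hmap a i S.f m) := by
  change Hmap a i (locSC b S).f (Hmap a i (locHom b S).τ₁ m) =
    Hmap a i (locHom b S).τ₂ (Hmap a i S.f m)
  rw [← Hmap_comp, ← Hmap_comp, (locHom b S).comm₁₂]

omit [IsNoetherianRing R] in
theorem Hloc_δ (i : ℕ) (z : (localCohomology a i).obj S.X₃) :
    Hloc a (i + 1) b S.X₁ (δ a i hS z) =
      δ a i (locSC_shortExact b S hS) (Hloc a i b S.X₃ z) :=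
  δ_naturality a i hS (locSC_shortExact b S hS) (locHom b S) z

variable [Injective S.X₂]

/-- `ℓ_*` is surjective on injectives in every degree. -/
theorem Hloc_surjective_of_injective (i : ℕ) : Function.Surjective (Hloc a i b S.X₂) := by
  rcases i with _ | i
  · exact Hloc_zero_surjective_of_injective a b S.X₂
  · intro y
    have h1 : Subsingleton ((localCohomology a (i + 1)).obj S.X₂) :=
      subsingleton_of_injective a i S.X₂
    have := subsingleton_Hloc a (i + 1) b S.X₂ h1
    exact ⟨0, Subsingleton.elim _ _⟩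

include hS in
/-- exactness at `H^{i+1}_a(M)` from exactness at `H^i_a(N)`. -/
theorem exact_step (i : ℕ)
    (hP : Function.Exact (cmp (le_sup_span a b) i S.X₃) (Hloc a i b S.X₃)) :
    Function.Exact (cmp (le_sup_span a b) (i + 1) S.X₁) (Hloc a (i + 1) b S.X₁) := by
  have hE : Subsingleton ((localCohomology a (i + 1)).obj S.X₂) :=
    subsingleton_of_injective a i S.X₂
  intro y
  constructor
  · intro hy
    obtain ⟨z, rfl⟩ := exact₁ a i hS y (Subsingleton.elim _ _)
    rw [Hloc_δ] at hy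
    obtain ⟨e', he'⟩ := exact₃ a i (locSC_shortExact b S hS) _ hy
    obtain ⟨e, rfl⟩ := Hloc_surjective_of_injective a b i e'
    rw [Hloc_naturality_g] at he'
    have h0 : Hloc a i b S.X₃ (z - Hmap a i S.g e) = 0 := by
      rw [map_sub, he', sub_self]
    obtain ⟨w, hw⟩ := (hP _).1 h0
    refine ⟨δ _ i hS w, ?_⟩
    rw [cmp_δ, hw, map_sub, δ_Hmap_g, sub_zero]
  · rintro ⟨u, rfl⟩
    exact Hloc_cmp a b S.X₁ (i + 1) u

end Step

end Groth.Agent.Lib.Helper92.LC

namespace Groth.Agent.Lib.Helper92.LC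

universe u
variable {R : Type u} [CommRing R] [IsNoetherianRing R] (a : Ideal R) (b : R)

section StepQ

variable {S : ShortComplex (ModuleCat.{u} R)} (hS : S.ShortExact) [Injective S.X₂]

include hS in
/-- the connecting map in degree `i+1` from the one in degree `i`. -/
theorem connecting_step (i : ℕ)
    (dN : (localCohomology a i).obj (ModuleCat.of R (LocalizedModule (Submonoid.powers b) S.X₃)) →ₗ[R]
      (localCohomology (a ⊔ Ideal.span {b}) (i + 1)).obj S.X₃)
    (h1 : Function.Exact (Hloc a i b S.X₃) dN)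
    (h2 : Function.Exact dN (cmp (le_sup_span a b) (i + 1) S.X₃)) :
    ∃ dM : (localCohomology a (i + 1)).obj
        (ModuleCat.of R (LocalizedModule (Submonoid.powers b) S.X₁)) →ₗ[R]
      (localCohomology (a ⊔ Ideal.span {b}) (i + 1 + 1)).obj S.X₁,
      Function.Exact (Hloc a (i + 1) b S.X₁) dM ∧
      Function.Exact dM (cmp (le_sup_span a b) (i + 1 + 1) S.X₁) := by
  have hSb := locSC_shortExact b S hS
  have hEa : ∀ j, Subsingleton ((localCohomology a (j + 1)).obj S.X₂) :=
    fun j => subsingleton_of_injective a j S.X₂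
  have hEI : ∀ j, Subsingleton ((localCohomology (a ⊔ Ideal.span {b}) (j + 1)).obj S.X₂) :=
    fun j => subsingleton_of_injective _ j S.X₂
  have hEb : Subsingleton ((localCohomology a (i + 1)).obj (locSC b S).X₂) :=
    subsingleton_Hloc a (i + 1) b S.X₂ (hEa i)
  -- `δ_C` is surjective
  have hδC : Function.Surjective (δ a i hSb) := by
    intro v
    exact exact₁ a i hSb v (Subsingleton.elim _ _)
  -- kernel condition
  have hker : LinearMap.ker (δ a i hSb) ≤
      LinearMap.ker ((δ (a ⊔ Ideal.span {b}) (i + 1) hS) ∘ₗ dN) := by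
    intro z hz
    obtain ⟨e', rfl⟩ := exact₃ a i hSb z hz
    obtain ⟨e, rfl⟩ := Hloc_surjective_of_injective a b i e'
    rw [Hloc_naturality_g, LinearMap.mem_ker, LinearMap.comp_apply, (h1 _).2 ⟨_, rfl⟩, map_zero]
  let dM := ((LinearMap.ker (δ a i hSb)).liftQ
      ((δ (a ⊔ Ideal.span {b}) (i + 1) hS) ∘ₗ dN) hker) ∘ₗ
    ((δ a i hSb).quotKerEquivOfSurjective hδC).symm.toLinearMap
  have hdM : ∀ z, dM (δ a i hSb z) = δ (a ⊔ Ideal.span {b}) (i + 1) hS (dN z) := by
    intro z
    change ((LinearMap.ker (δ a i hSb)).liftQ _ hker)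
      (((δ a i hSb).quotKerEquivOfSurjective hδC).symm (δ a i hSb z)) = _
    rw [LinearMap.quotKerEquivOfSurjective_symm_apply]
    rfl
  refine ⟨dM, ?_, ?_⟩
  · intro v
    constructor
    · intro hv
      obtain ⟨z, rfl⟩ := hδC v
      rw [hdM] at hv
      obtain ⟨e, he⟩ := exact₃ _ (i + 1) hS _ hv
      rw [Subsingleton.elim e 0, map_zero] at he
      obtain ⟨z₀, rfl⟩ := (h1 z).1 he.symm
      exact ⟨δ a i hS z₀, Hloc_δ a b hS i z₀⟩
    · rintro ⟨y, rfl⟩
      obtain ⟨z, rfl⟩ := exact₁ a i hS y (Subsingleton.elim _ _)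
      rw [Hloc_δ, hdM, (h1 _).2 ⟨_, rfl⟩, map_zero]
  · intro u
    constructor
    · intro hu
      obtain ⟨w, rfl⟩ := exact₁ _ (i + 1) hS u (Subsingleton.elim _ _)
      rw [cmp_δ] at hu
      obtain ⟨e, he⟩ := exact₃ a (i + 1) hS _ hu
      rw [Subsingleton.elim e 0, map_zero] at he
      obtain ⟨z, rfl⟩ := (h2 w).1 he.symm
      exact ⟨δ a i hSb z, hdM z⟩
    · rintro ⟨v, rfl⟩
      obtain ⟨z, rfl⟩ := hδC v
      rw [hdM, cmp_δ, (h2 _).2 ⟨_, rfl⟩, map_zero]

end StepQ

end Groth.Agent.Lib.Helper92.LC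

namespace Groth.Agent.Lib.Helper92.LC

universe u
variable {R : Type u} [CommRing R] [IsNoetherianRing R] (a : Ideal R) (b : R)

section BaseQ

variable {S : ShortComplex (ModuleCat.{u} R)} (hS : S.ShortExact) [Injective S.X₂]

include hS in
/-- the connecting map in degree `0`, by the snake lemma. -/
theorem connecting_zero :
    ∃ dM : (localCohomology a 0).obj
        (ModuleCat.of R (LocalizedModule (Submonoid.powers b) S.X₁)) →ₗ[R]
      (localCohomology (a ⊔ Ideal.span {b}) (0 + 1)).obj S.X₁,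
      Function.Exact (Hloc a 0 b S.X₁) dM ∧
      Function.Exact dM (cmp (le_sup_span a b) (0 + 1) S.X₁) := by
  have hSb := locSC_shortExact b S hS
  have hEI : Subsingleton ((localCohomology (a ⊔ Ideal.span {b}) (0 + 1)).obj S.X₂) :=
    subsingleton_of_injective _ 0 S.X₂
  have h₁ : (cmp (le_sup_span a b) 0 S.X₃).comp (Hmap (a ⊔ Ideal.span {b}) 0 S.g) =
      (Hmap a 0 S.g).comp (cmp (le_sup_span a b) 0 S.X₂) := by
    ext y
    exact cmp_naturality (le_sup_span a b) 0 S.g y
  have h₂ : (Hloc a 0 b S.X₃).comp (Hmap a 0 S.g) =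
      (Hmap a 0 (locSC b S).g).comp (Hloc a 0 b S.X₂) := by
    ext e
    exact (Hloc_naturality_g a b 0 e).symm
  have hπ₁surj : Function.Surjective (δ (a ⊔ Ideal.span {b}) 0 hS) := by
    intro v
    exact exact₁ _ 0 hS v (Subsingleton.elim _ _)
  refine ⟨SnakeLemma.δ' (Hmap (a ⊔ Ideal.span {b}) 0 S.g) (Hmap a 0 S.g) (Hmap a 0 (locSC b S).g)
    (cmp (le_sup_span a b) 0 S.X₂) (Hloc a 0 b S.X₂) (exact_cmp_Hloc_zero a b S.X₂)
    (cmp (le_sup_span a b) 0 S.X₃) (Hloc a 0 b S.X₃) (exact_cmp_Hloc_zero a b S.X₃)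
    h₁ h₂ (Hmap a 0 (locSC b S).f) (exact_Hmap_f_g a 0 hSb)
    (δ (a ⊔ Ideal.span {b}) 0 hS) (exact_Hmap_g_δ _ 0 hS)
    (Hloc_surjective_of_injective a b 0) (cmp_zero_injective (le_sup_span a b)), ?_, ?_⟩
  · refine SnakeLemma.exact_δ'_right _ _ _ _ _ _ _ _ _ _ _ (Hmap a 0 S.f) (exact_Hmap_f_g a 0 hS)
      _ _ _ _ _ _ (Hloc a 0 b S.X₁) ?_ (Hmap_f_zero_injective a hSb)
    ext m
    exact (Hloc_naturality_f a b 0 m).symm
  · refine SnakeLemma.exact_δ'_left _ _ _ _ _ _ _ _ _ _ _ _ _ _ _ (δ a 0 hS)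
      (exact_Hmap_g_δ a 0 hS) _ _ (cmp (le_sup_span a b) (0 + 1) S.X₁) ?_ hπ₁surj
    ext w
    exact cmp_δ (le_sup_span a b) 0 hS w

end BaseQ

end Groth.Agent.Lib.Helper92.LC

namespace Groth.Agent.Lib.Helper92.LC

universe u
variable {R : Type u} [CommRing R] [IsNoetherianRing R] (a : Ideal R) (b : R)

/-- The long exact sequence relating `H_{a+Rb}`, `H_a` and `H_a((-)_b)`. -/
theorem les_sup_span (i : ℕ) : ∀ (M : ModuleCat.{u} R),
    Function.Exact (cmp (le_sup_span a b) i M) (Hloc a i b M) ∧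
    ∃ d : (localCohomology a i).obj
        (ModuleCat.of R (LocalizedModule (Submonoid.powers b) M)) →ₗ[R]
      (localCohomology (a ⊔ Ideal.span {b}) (i + 1)).obj M,
      Function.Exact (Hloc a i b M) d ∧
      Function.Exact d (cmp (le_sup_span a b) (i + 1) M) := by
  induction i with
  | zero =>
    intro M
    obtain ⟨S, hS, rfl, hE⟩ := exists_injective_ses M
    exact ⟨exact_cmp_Hloc_zero a b S.X₁, connecting_zero a b hS⟩
  | succ i ih =>
    intro M
    obtain ⟨S, hS, rfl, hE⟩ := exists_injective_ses M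
    obtain ⟨hP, d, h1, h2⟩ := ih S.X₃
    exact ⟨exact_step a b hS i hP, connecting_step a b hS i d h1 h2⟩

/-- `coker(H^i_a(M) → H^i_a(M_b)) ≅ ker(H^{i+1}_{a+Rb}(M) → H^{i+1}_a(M))`. -/
theorem nonempty_coker_equiv_ker (i : ℕ) (M : ModuleCat.{u} R) :
    Nonempty (((localCohomology a i).obj
        (ModuleCat.of R (LocalizedModule (Submonoid.powers b) M)) ⧸
        LinearMap.range (Hloc a i b M)) ≃ₗ[R]
      LinearMap.ker (cmp (le_sup_span a b) (i + 1) M)) := by
  obtain ⟨-, d, h1, h2⟩ := les_sup_span a b i M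
  have e1 : LinearMap.range (Hloc a i b M) = LinearMap.ker d := h1.linearMap_ker_eq.symm
  have e2 : LinearMap.range d = LinearMap.ker (cmp (le_sup_span a b) (i + 1) M) :=
    h2.linearMap_ker_eq.symm
  exact ⟨(Submodule.quotEquivOfEq _ _ e1).trans
    (d.quotKerEquivRange.trans (LinearEquiv.ofEq _ _ e2))⟩

end Groth.Agent.Lib.Helper92.LC
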