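import Groth.Prelude.Def_W4bk5brsh16IT
import Mathlib.Algebra.Category.ModuleCat.FilteredColimits
import Mathlib.CategoryTheory.Limits.ConcreteCategory.Basic
import Mathlib.RingTheory.Filtration
import Mathlib.Tactic

/-!
# Concrete description of the ideal transform `D_I(M) = colim_n Hom_R(I^n, M)` (helper92)

* `mk I t f` : the class in `(idealTransform I).obj M` of `f : ModuleCat.of R ↥(I^t) ⟶ M`;
  `mkL I M t f` the same for a linear map `f : ↥(I^t) →ₗ[R] M` (valued in `LocCoh.DT I M`).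
* `exists_rep`, `exists_repL`, `mk_eq_mk_iff`, `mkL_eq_mkL_iff`, `mkL_eq_zero_iff`.
* `map_mk`, `map_mkL`, `mk_incl`, `mkL_restrict`, `toDT_eq`, `smul_mkL_of_mem`.
* `ker_toDT` (= Γ_I(M)), `mkL_eq_zero_of_torsion`, `torsionSub_DT_eq_bot`,
  `exists_extend_of_AR` (Artin–Rees extension lemma), `map_bijective_of_torsion`.
-/

namespace Groth.Agent.Lib.Helper92.IdealTransform

open CategoryTheory CategoryTheory.Limits Opposite LocCoh

universe u
variable {R : Type u} [CommRing R] (I : Ideal R)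

instance presForget : PreservesFilteredColimitsOfSize.{0, 0} (forget (ModuleCat.{u} R)) :=
  preservesSmallestFilteredColimits_of_preservesFilteredColimits.{u, u} _

/-- inclusion `I^s → I^t` for `t ≤ s`. -/
def incl {s t : ℕ} (h : t ≤ s) : ModuleCat.of R ↥(I ^ s) ⟶ ModuleCat.of R ↥(I ^ t) :=
  ModuleCat.ofHom (Submodule.inclusion (Ideal.pow_le_pow_right h))

/-- The class in `D_I(M)` of `f : I^t → M`. -/
noncomputable def mk {M : ModuleCat.{u} R} (t : ℕ) (f : ModuleCat.of R ↥(I ^ t) ⟶ M) :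
    (idealTransform I).obj M :=
  ((colimit.ι (transformDiagram I) (op (op t))).app M).hom f

/-- The evaluated diagram. -/
abbrev evDiag (M : ModuleCat.{u} R) : ℕᵒᵖᵒᵖ ⥤ ModuleCat.{u} R :=
  transformDiagram I ⋙ (evaluation _ _).obj M

/-- `D_I(M) ≅ colim_n Hom(I^n, M)`. -/
noncomputable abbrev isoEv (M : ModuleCat.{u} R) :
    (idealTransform I).obj M ≅ colimit (evDiag I M) :=
  colimitObjIsoColimitCompEvaluation (transformDiagram I) M

theorem isoEv_inv_ι (M : ModuleCat.{u} R) (t : ℕ)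
    (f : ModuleCat.of R ↥(I ^ t) ⟶ M) :
    (isoEv I M).inv.hom ((colimit.ι (evDiag I M) (op (op t))).hom f) = mk I t f := by
  have := colimitObjIsoColimitCompEvaluation_ι_inv (transformDiagram I) (op (op t)) M
  have h2 := congrArg (fun g => g.hom f) this
  exact h2

theorem isoEv_hom_mk (M : ModuleCat.{u} R) (t : ℕ)
    (f : ModuleCat.of R ↥(I ^ t) ⟶ M) :
    (isoEv I M).hom.hom (mk I t f) = (colimit.ι (evDiag I M) (op (op t))).hom f := by
  have := colimitObjIsoColimitCompEvaluation_ι_app_hom (transformDiagram I) (op (op t)) M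
  have h2 := congrArg (fun g => g.hom f) this
  exact h2

theorem exists_rep {M : ModuleCat.{u} R} (x : (idealTransform I).obj M) :
    ∃ (t : ℕ) (f : ModuleCat.of R ↥(I ^ t) ⟶ M), mk I t f = x := by
  obtain ⟨j, y, hy⟩ := Concrete.colimit_exists_rep (evDiag I M) ((isoEv I M).hom.hom x)
  refine ⟨j.unop.unop, y, ?_⟩
  have h1 := isoEv_inv_ι I M j.unop.unop y
  rw [← h1]
  have : (colimit.ι (evDiag I M) (op (op j.unop.unop))).hom y = (isoEv I M).hom.hom x := hy
  rw [this]
  change ((isoEv I M).hom ≫ (isoEv I M).inv).hom x = x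
  rw [Iso.hom_inv_id]; rfl

theorem mk_eq_mk_iff {M : ModuleCat.{u} R} {s t : ℕ} (f : ModuleCat.of R ↥(I ^ s) ⟶ M)
    (g : ModuleCat.of R ↥(I ^ t) ⟶ M) :
    mk I s f = mk I t g ↔
      ∃ (k : ℕ) (hs : s ≤ k) (ht : t ≤ k), incl I hs ≫ f = incl I ht ≫ g := by
  constructor
  · intro h
    have h' : (colimit.ι (evDiag I M) (op (op s))).hom f =
        (colimit.ι (evDiag I M) (op (op t))).hom g := by
      rw [← isoEv_hom_mk, ← isoEv_hom_mk, h]
    obtain ⟨k, a, b, hab⟩ := (Concrete.colimit_rep_eq_iff_exists (evDiag I M)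
      (i := op (op s)) (j := op (op t)) f g).1 h'
    refine ⟨k.unop.unop, leOfHom a.unop.unop, leOfHom b.unop.unop, ?_⟩
    exact hab
  · rintro ⟨k, hs, ht, h⟩
    rw [← isoEv_inv_ι, ← isoEv_inv_ι]
    congr 1
    refine (Concrete.colimit_rep_eq_iff_exists (evDiag I M)
      (i := op (op s)) (j := op (op t)) f g).2
      ⟨op (op k), (homOfLE hs).op.op, (homOfLE ht).op.op, ?_⟩
    exact h

theorem mk_add {M : ModuleCat.{u} R} (t : ℕ) (f g : ModuleCat.of R ↥(I ^ t) ⟶ M) :
    mk I t (f + g) = mk I t f + mk I t g :=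
  map_add ((colimit.ι (transformDiagram I) (op (op t))).app M).hom f g

theorem mk_zero {M : ModuleCat.{u} R} (t : ℕ) :
    mk I t (0 : ModuleCat.of R ↥(I ^ t) ⟶ M) = 0 :=
  map_zero ((colimit.ι (transformDiagram I) (op (op t))).app M).hom

theorem mk_smul {M : ModuleCat.{u} R} (t : ℕ) (r : R) (f : ModuleCat.of R ↥(I ^ t) ⟶ M) :
    mk I t (r • f) = r • mk I t f :=
  map_smul ((colimit.ι (transformDiagram I) (op (op t))).app M).hom r f

theorem map_mk {M N : ModuleCat.{u} R} (φ : M ⟶ N) (t : ℕ) (f : ModuleCat.of R ↥(I ^ t) ⟶ M) :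
    ((idealTransform I).map φ).hom (mk I t f) = mk I t (f ≫ φ) := by
  have := (colimit.ι (transformDiagram I) (op (op t))).naturality φ
  have h2 := congrArg (fun g => g.hom f) this
  exact h2.symm

theorem mk_incl {M : ModuleCat.{u} R} {s t : ℕ} (h : t ≤ s) (f : ModuleCat.of R ↥(I ^ t) ⟶ M) :
    mk I s (incl I h ≫ f) = mk I t f := by
  have := colimit.w (transformDiagram I) (homOfLE h).op.op
  have h1 := congrArg (fun g => (g.app M).hom f) this
  exact h1

section Linear

variable (M : Type u) [AddCommGroup M] [Module R M]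

/-- `m ↦ (r ↦ r • m)` on an ideal. -/
def smulMap (J : Ideal R) (m : M) : ↥J →ₗ[R] M := ((LinearMap.lsmul R M).domRestrict J).flip m

@[simp] theorem smulMap_apply (J : Ideal R) (m : M) (x : J) : smulMap M J m x = (x : R) • m := rfl

/-- The class in `D_I(M)` of a linear map `f : I^t → M`. -/
noncomputable def mkL (t : ℕ) (f : ↥(I ^ t) →ₗ[R] M) : DT I M := mk I t (ModuleCat.ofHom f)

theorem exists_repL (x : DT I M) : ∃ (t : ℕ) (f : ↥(I ^ t) →ₗ[R] M), mkL I M t f = x := by
  obtain ⟨t, f, hf⟩ := exists_rep I x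
  exact ⟨t, f.hom, hf⟩

/-- restriction of `f : I^t → M` to `I^s`, `t ≤ s`. -/
def res {s t : ℕ} (h : t ≤ s) (f : ↥(I ^ t) →ₗ[R] M) : ↥(I ^ s) →ₗ[R] M :=
  f ∘ₗ Submodule.inclusion (Ideal.pow_le_pow_right h)

@[simp] theorem res_apply {s t : ℕ} (h : t ≤ s) (f : ↥(I ^ t) →ₗ[R] M) (x : ↥(I ^ s)) :
    res I M h f x = f ⟨x.1, Ideal.pow_le_pow_right h x.2⟩ := rfl

theorem mkL_res {s t : ℕ} (h : t ≤ s) (f : ↥(I ^ t) →ₗ[R] M) :
    mkL I M s (res I M h f) = mkL I M t f :=
  mk_incl I h (ModuleCat.ofHom f)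

theorem mkL_eq_mkL_iff {s t : ℕ} (f : ↥(I ^ s) →ₗ[R] M) (g : ↥(I ^ t) →ₗ[R] M) :
    mkL I M s f = mkL I M t g ↔
      ∃ (k : ℕ) (hs : s ≤ k) (ht : t ≤ k), res I M hs f = res I M ht g := by
  unfold mkL
  rw [mk_eq_mk_iff]
  constructor
  · rintro ⟨k, hs, ht, h⟩
    exact ⟨k, hs, ht, congrArg ModuleCat.Hom.hom h⟩
  · rintro ⟨k, hs, ht, h⟩
    exact ⟨k, hs, ht, ModuleCat.hom_ext h⟩

theorem mkL_add (t : ℕ) (f g : ↥(I ^ t) →ₗ[R] M) :
    mkL I M t (f + g) = mkL I M t f + mkL I M t g :=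
  mk_add I t (ModuleCat.ofHom f) (ModuleCat.ofHom g)

theorem mkL_zero (t : ℕ) : mkL I M t 0 = 0 := mk_zero I t

theorem mkL_smul (t : ℕ) (r : R) (f : ↥(I ^ t) →ₗ[R] M) :
    mkL I M t (r • f) = r • mkL I M t f :=
  mk_smul I t r (ModuleCat.ofHom f)

theorem mkL_eq_zero_iff {t : ℕ} (f : ↥(I ^ t) →ₗ[R] M) :
    mkL I M t f = 0 ↔ ∃ (k : ℕ) (h : t ≤ k), res I M h f = 0 := by
  rw [← mkL_zero I M t, mkL_eq_mkL_iff]
  constructor
  · rintro ⟨k, hs, _, h⟩
    exact ⟨k, hs, by rw [h]; rfl⟩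
  · rintro ⟨k, hs, h⟩
    exact ⟨k, hs, hs, by rw [h]; rfl⟩

theorem map_mkL {N : Type u} [AddCommGroup N] [Module R N] (e : M →ₗ[R] N) (t : ℕ)
    (f : ↥(I ^ t) →ₗ[R] M) :
    ((idealTransform I).map (ModuleCat.ofHom e)).hom (mkL I M t f) = mkL I N t (e ∘ₗ f) :=
  map_mk I (ModuleCat.ofHom e) t (ModuleCat.ofHom f)

theorem toDT_eq_zero (m : M) : toDT I M m = mkL I M 0 (smulMap M (I ^ 0) m) := rfl

theorem toDT_eq (m : M) (t : ℕ) : toDT I M m = mkL I M t (smulMap M (I ^ t) m) := by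
  rw [toDT_eq_zero, ← mkL_res I M (Nat.zero_le t)]
  rfl

theorem smul_mkL_of_mem {t : ℕ} (f : ↥(I ^ t) →ₗ[R] M) (a : R) (ha : a ∈ I ^ t) :
    a • mkL I M t f = toDT I M (f ⟨a, ha⟩) := by
  rw [← mkL_smul, toDT_eq I M _ t]
  congr 1
  ext x
  simp only [LinearMap.smul_apply, smulMap_apply]
  rw [← map_smul, ← map_smul]
  congr 1
  ext
  simp [mul_comm]

end Linear


section Torsion

variable (M : Type u) [AddCommGroup M] [Module R M]

/-- The kernel of `η_M : M → D_I(M)` is the `I`-power torsion (no Noetherian hypothesis needed). -/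
theorem ker_toDT : LinearMap.ker (toDT I M) = DRing.torsionSub I M := by
  ext m
  rw [LinearMap.mem_ker, toDT_eq_zero, mkL_eq_zero_iff]
  constructor
  · rintro ⟨k, hk, h⟩
    refine ⟨k, fun a ha => ?_⟩
    have := LinearMap.congr_fun h ⟨a, ha⟩
    simpa using this
  · rintro ⟨k, hk⟩
    refine ⟨k, Nat.zero_le k, ?_⟩
    ext x
    simpa using hk x.1 x.2

/-- A finitely generated submodule of the `I`-power torsion is killed by one power of `I`. -/
theorem exists_pow_smul_eq_zero_of_fg (N : Submodule R M) (hN : N.FG)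
    (h : N ≤ DRing.torsionSub I M) : ∃ n, ∀ a ∈ I ^ n, ∀ y ∈ N, a • y = 0 := by
  classical
  obtain ⟨S, hS⟩ := hN
  have h1 : ∀ y ∈ S, ∃ n : ℕ, ∀ a ∈ I ^ n, a • y = 0 :=
    fun y hy => h (hS ▸ Submodule.subset_span hy)
  choose! n hn using h1
  refine ⟨S.sup n, fun a ha y hy => ?_⟩
  rw [← hS] at hy
  induction hy using Submodule.span_induction with
  | mem y hy => exact hn y hy a (Ideal.pow_le_pow_right (Finset.le_sup hy) ha)
  | zero => simp
  | add x y _ _ hx hy => rw [smul_add, hx, hy, add_zero]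
  | smul r x _ hx => rw [smul_comm, hx, smul_zero]

/-- If `I^n` kills the values of `f : I^t → M` then `f` vanishes on `I^(t+n)`. -/
theorem res_eq_zero_of_smul_eq_zero {t n : ℕ} (f : ↥(I ^ t) →ₗ[R] M)
    (h : ∀ a ∈ I ^ n, ∀ y, a • f y = 0) : res I M (Nat.le_add_right t n) f = 0 := by
  have key : ∀ x ∈ I ^ n * I ^ t, ∃ hx' : x ∈ I ^ t, f ⟨x, hx'⟩ = 0 := by
    intro x hx
    refine Submodule.mul_induction_on hx ?_ ?_
    · intro a ha y hy
      refine ⟨Ideal.mul_mem_left _ _ hy, ?_⟩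
      have : (⟨a * y, Ideal.mul_mem_left _ _ hy⟩ : ↥(I ^ t)) = a • ⟨y, hy⟩ := rfl
      rw [this, map_smul]; exact h a ha _
    · intro x y hx hy
      obtain ⟨hx', hx0⟩ := hx
      obtain ⟨hy', hy0⟩ := hy
      refine ⟨add_mem hx' hy', ?_⟩
      have : (⟨x + y, add_mem hx' hy'⟩ : ↥(I ^ t)) = ⟨x, hx'⟩ + ⟨y, hy'⟩ := rfl
      rw [this, map_add, hx0, hy0, add_zero]
  ext ⟨x, hx⟩
  have hx' : x ∈ I ^ n * I ^ t := by rwa [← pow_add, add_comm]
  obtain ⟨_, h0⟩ := key x hx'
  simpa using h0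

variable [IsNoetherianRing R]

/-- A map `I^t → M` with `I`-power-torsion values is zero in `D_I(M)`. -/
theorem mkL_eq_zero_of_torsion {t : ℕ} (f : ↥(I ^ t) →ₗ[R] M)
    (h : ∀ x, f x ∈ DRing.torsionSub I M) : mkL I M t f = 0 := by
  have hfg : (LinearMap.range f).FG := by
    rw [LinearMap.range_eq_map]
    exact (Module.Finite.fg_top).map f
  obtain ⟨n, hn⟩ := exists_pow_smul_eq_zero_of_fg I M (LinearMap.range f) hfg
    (by rintro _ ⟨x, rfl⟩; exact h x)
  rw [mkL_eq_zero_iff]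
  exact ⟨t + n, Nat.le_add_right t n,
    res_eq_zero_of_smul_eq_zero I M f fun a ha y => hn a ha _ ⟨y, rfl⟩⟩

/-- `D_I` of an `I`-power-torsion module vanishes. -/
theorem subsingleton_DT_of_isPowerTorsion (hM : LocCoh.IsPowerTorsion I M) :
    Subsingleton (DT I M) := by
  refine ⟨fun x y => ?_⟩
  obtain ⟨s, f, rfl⟩ := exists_repL I M x
  obtain ⟨t, g, rfl⟩ := exists_repL I M y
  rw [mkL_eq_zero_of_torsion I M f fun x => hM _, mkL_eq_zero_of_torsion I M g fun x => hM _]

/-- `D_I(M)` has no nonzero `I`-power-torsion element. -/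
theorem torsionSub_DT_eq_bot : DRing.torsionSub I (DT I M) = ⊥ := by
  classical
  rw [eq_bot_iff]
  rintro x ⟨n, hn⟩
  obtain ⟨t, f, rfl⟩ := exists_repL I M x
  rw [Submodule.mem_bot]
  -- generators of `I^n`
  obtain ⟨S, hS⟩ : (I ^ n).FG := IsNoetherian.noetherian _
  have h1 : ∀ a ∈ S, ∃ (k : ℕ) (h : t ≤ k), res I M h (a • f) = 0 := by
    intro a ha
    have := hn a (hS ▸ Submodule.subset_span ha)
    rwa [← mkL_smul, mkL_eq_zero_iff] at this
  choose! k hk hk0 using h1
  have h2 : ∀ a ∈ I ^ n, ∀ y : ↥(I ^ (t + S.sup k)),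
      a • res I M (Nat.le_add_right t (S.sup k)) f y = 0 := by
    intro a ha y
    rw [← hS] at ha
    induction ha using Submodule.span_induction with
    | mem a ha =>
      have hle : k a ≤ t + S.sup k := (Finset.le_sup ha).trans (Nat.le_add_left _ _)
      have := LinearMap.congr_fun (hk0 a ha) ⟨y.1, Ideal.pow_le_pow_right hle y.2⟩
      simpa using this
    | zero => simp
    | add a b _ _ ha hb => rw [add_smul, ha, hb, add_zero]
    | smul r a _ ha => rw [smul_assoc, ha, smul_zero]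
  rw [← mkL_res I M (Nat.le_add_right t (S.sup k)) f, mkL_eq_zero_iff]
  exact ⟨t + S.sup k + n, Nat.le_add_right _ _, res_eq_zero_of_smul_eq_zero I M _ h2⟩

end Torsion

section AR

theorem mem_smul_top_pi {s : ℕ} (J : Ideal R) (c : Fin s → R) :
    c ∈ J • (⊤ : Submodule R (Fin s → R)) ↔ ∀ i, c i ∈ J := by
  classical
  constructor
  · intro hc
    refine Submodule.smul_induction_on hc ?_ ?_
    · intro b hb v _ i
      exact Ideal.mul_mem_right _ _ hb
    · intro x y hx hy i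
      exact add_mem (hx i) (hy i)
  · intro hc
    have : c = ∑ i, c i • (Pi.single i (1 : R) : Fin s → R) := by
      ext j
      simp [Finset.sum_apply, Pi.single_apply]
    rw [this]
    exact Submodule.sum_mem _ fun i _ => Submodule.smul_mem_smul (hc i) Submodule.mem_top

variable {M : Type u} [AddCommGroup M] [Module R M]

/-- every element of `I^(t+k)` is a combination of generators of `I^t` with coefficients in `I^k`. -/
theorem exists_coeffs {s : ℕ} (a : Fin s → R) (t k : ℕ)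
    (ha : Ideal.span (Set.range a) = I ^ t) (x : R) (hx : x ∈ I ^ (t + k)) :
    ∃ c : Fin s → R, (∀ i, c i ∈ I ^ k) ∧ ∑ i, c i * a i = x := by
  have h1 : Submodule.map (Fintype.linearCombination R a)
      (I ^ k • (⊤ : Submodule R (Fin s → R))) = I ^ (t + k) := by
    rw [Submodule.map_smul'', Submodule.map_top, Fintype.range_linearCombination]
    change I ^ k • Ideal.span (Set.range a) = _
    rw [ha, smul_eq_mul, ← pow_add, add_comm]
  rw [← h1] at hx
  obtain ⟨c, hc, rfl⟩ := hx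
  exact ⟨c, (mem_smul_top_pi _ c).1 hc, by simp [Fintype.linearCombination_apply]⟩

theorem sum_mem_pow_add {s : ℕ} (a : Fin s → R) (t k : ℕ)
    (ha : Ideal.span (Set.range a) = I ^ t) (c : Fin s → R) (hc : ∀ i, c i ∈ I ^ k) :
    ∑ i, c i * a i ∈ I ^ (t + k) := by
  refine Ideal.sum_mem _ fun i _ => ?_
  rw [add_comm, pow_add]
  exact Ideal.mul_mem_mul (hc i) (ha ▸ Ideal.subset_span ⟨i, rfl⟩)

/-- Artin–Rees extension lemma. -/
theorem exists_extend_of_AR [IsNoetherianRing R] {s : ℕ} (a : Fin s → R) (t : ℕ)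
    (ha : Ideal.span (Set.range a) = I ^ t)
    (G : (Fin s → R) →ₗ[R] M) (N : ℕ)
    (hG : ∀ b ∈ I ^ N, ∀ z : Fin s → R, (∑ i, z i * a i = 0) → b • G z = 0) :
    ∃ (k : ℕ) (g : ↥(I ^ (t + k)) →ₗ[R] M), ∀ (c : Fin s → R) (_ : ∀ i, c i ∈ I ^ k)
      (h : ∑ i, c i * a i ∈ I ^ (t + k)), g ⟨∑ i, c i * a i, h⟩ = G c := by
  classical
  let π : (Fin s → R) →ₗ[R] R := Fintype.linearCombination R a
  have hπ : ∀ c, π c = ∑ i, c i * a i := fun c => by
    simp [π, Fintype.linearCombination_apply]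
  let Z := LinearMap.ker π
  obtain ⟨c0, hc0⟩ := Ideal.exists_pow_inf_eq_pow_smul I Z
  let k := c0 + N
  have hAR : I ^ k • (⊤ : Submodule R (Fin s → R)) ⊓ Z ≤ I ^ N • Z := by
    rw [hc0 k (Nat.le_add_right _ _)]
    have : k - c0 = N := by omega
    rw [this]
    exact Submodule.smul_mono le_rfl inf_le_right
  have hGZ : ∀ z ∈ I ^ N • Z, G z = 0 := by
    intro z hz
    refine Submodule.smul_induction_on hz ?_ ?_
    · intro b hb z hz
      rw [map_smul]
      exact hG b hb z (by rw [← hπ]; exact hz)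
    · intro x y hx hy
      rw [map_add, hx, hy, add_zero]
  let P : Submodule R (Fin s → R) := I ^ k • ⊤
  have hπP : ∀ c : P, π c.1 ∈ I ^ (t + k) := fun c => by
    rw [hπ]
    exact sum_mem_pow_add I a t k ha c.1 ((mem_smul_top_pi _ _).1 c.2)
  let p : P →ₗ[R] ↥(I ^ (t + k)) := (π.domRestrict P).codRestrict _ hπP
  have hp : Function.Surjective p := by
    rintro ⟨x, hx⟩
    obtain ⟨c, hc, hcx⟩ := exists_coeffs I a t k ha x hx
    refine ⟨⟨c, (mem_smul_top_pi _ _).2 hc⟩, ?_⟩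
    ext
    change π c = x
    rw [hπ, hcx]
  have hker : LinearMap.ker p ≤ LinearMap.ker (G.domRestrict P) := by
    intro c hc
    rw [LinearMap.mem_ker] at hc ⊢
    apply hGZ; apply hAR
    refine ⟨c.2, ?_⟩
    have := congrArg Subtype.val hc
    exact this
  let g : ↥(I ^ (t + k)) →ₗ[R] M := (Submodule.liftQ _ (G.domRestrict P) hker) ∘ₗ
    (LinearMap.quotKerEquivOfSurjective p hp).symm.toLinearMap
  refine ⟨k, g, fun c hc h => ?_⟩
  have : (⟨∑ i, c i * a i, h⟩ : ↥(I ^ (t + k))) = p ⟨c, (mem_smul_top_pi _ _).2 hc⟩ := by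
    ext
    change _ = π c
    rw [hπ]
  rw [this]
  change (Submodule.liftQ _ (G.domRestrict P) hker)
    ((LinearMap.quotKerEquivOfSurjective p hp).symm (p _)) = _
  rw [LinearMap.quotKerEquivOfSurjective_symm_apply]
  rfl

end AR

section Bij

variable [IsNoetherianRing R] {M M' : Type u} [AddCommGroup M] [Module R M]
  [AddCommGroup M'] [Module R M']

/-- If the values of `f : I^t → M'` are `I`-power torsion modulo a submodule `N`, some restriction
of `f` takes values in `N`. -/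
theorem exists_res_mem (N : Submodule R M') (hN : LocCoh.IsPowerTorsion I (M' ⧸ N)) {t : ℕ}
    (f : ↥(I ^ t) →ₗ[R] M') : ∃ n, ∀ x, res I M' (Nat.le_add_right t n) f x ∈ N := by
  have hfg : (LinearMap.range (N.mkQ ∘ₗ f)).FG := by
    rw [LinearMap.range_eq_map]
    exact (Module.Finite.fg_top).map _
  obtain ⟨n, hn⟩ := exists_pow_smul_eq_zero_of_fg I _ (LinearMap.range (N.mkQ ∘ₗ f)) hfg
    (fun y _ => hN y)
  have h1 := res_eq_zero_of_smul_eq_zero I _ (N.mkQ ∘ₗ f) (n := n)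
    (fun a ha y => hn a ha _ ⟨y, rfl⟩)
  refine ⟨n, fun x => ?_⟩
  have := LinearMap.congr_fun h1 x
  simpa [Submodule.Quotient.mk_eq_zero] using this

theorem map_bijective_of_torsion (e : M →ₗ[R] M')
    (hker : LinearMap.ker e ≤ DRing.torsionSub I M)
    (hcoker : LocCoh.IsPowerTorsion I (M' ⧸ LinearMap.range e)) :
    Function.Bijective ((idealTransform I).map (ModuleCat.ofHom e)).hom := by
  classical
  constructor
  · rw [injective_iff_map_eq_zero]
    intro x hx
    obtain ⟨t, f, rfl⟩ := exists_repL I M x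
    rw [map_mkL, mkL_eq_zero_iff] at hx
    obtain ⟨k, hk, h0⟩ := hx
    rw [← mkL_res I M hk f]
    apply mkL_eq_zero_of_torsion
    intro y
    apply hker
    rw [LinearMap.mem_ker]
    have := LinearMap.congr_fun h0 y
    simpa using this
  · intro y
    obtain ⟨t0, f0, rfl⟩ := exists_repL I M' y
    obtain ⟨n, hn⟩ := exists_res_mem I (LinearMap.range e) hcoker f0
    rw [← mkL_res I M' (Nat.le_add_right t0 n) f0]
    generalize res I M' (Nat.le_add_right t0 n) f0 = f at hn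
    generalize t0 + n = t at f hn
    obtain ⟨s, a, ha⟩ : ∃ (s : ℕ) (a : Fin s → R), Ideal.span (Set.range a) = I ^ t :=
      (Submodule.fg_iff_exists_fin_generating_family).1 (IsNoetherian.noetherian (I ^ t))
    have hamem : ∀ i, a i ∈ I ^ t := fun i => ha ▸ Ideal.subset_span ⟨i, rfl⟩
    choose m hm using fun i => hn ⟨a i, hamem i⟩
    let G : (Fin s → R) →ₗ[R] M := Fintype.linearCombination R m
    have hGe : ∀ (c : Fin s → R) (h : ∑ i, c i * a i ∈ I ^ t),
        e (G c) = f ⟨∑ i, c i * a i, h⟩ := by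
      intro c h
      have h1 : (⟨∑ i, c i * a i, h⟩ : ↥(I ^ t)) = ∑ i, c i • ⟨a i, hamem i⟩ := by
        ext
        simp
      rw [h1, map_sum]
      simp only [G, Fintype.linearCombination_apply, map_sum, map_smul, hm]
    let π : (Fin s → R) →ₗ[R] R := Fintype.linearCombination R a
    have hπ : ∀ c, π c = ∑ i, c i * a i := fun c => by
      simp [π, Fintype.linearCombination_apply]
    have hZfg : (Submodule.map G (LinearMap.ker π)).FG :=
      (IsNoetherian.noetherian (LinearMap.ker π)).map G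
    obtain ⟨N, hN⟩ := exists_pow_smul_eq_zero_of_fg I M _ hZfg (by
      rintro _ ⟨z, hz, rfl⟩
      apply hker
      replace hz : π z = 0 := hz
      rw [LinearMap.mem_ker]
      rw [hπ] at hz
      rw [hGe z (hz ▸ zero_mem _)]
      have : (⟨∑ i, z i * a i, hz ▸ zero_mem _⟩ : ↥(I ^ t)) = 0 := by
        ext; exact hz
      rw [this, map_zero])
    obtain ⟨k, g, hg⟩ := exists_extend_of_AR I a t ha G N (fun b hb z hz =>
      hN b hb _ ⟨z, show π z = 0 by rw [hπ]; exact hz, rfl⟩)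
    refine ⟨mkL I M (t + k) g, ?_⟩
    rw [map_mkL, ← mkL_res I M' (Nat.le_add_right t k) f]
    congr 1
    ext ⟨x, hx⟩
    obtain ⟨c, hc, rfl⟩ := exists_coeffs I a t k ha x hx
    simp only [LinearMap.comp_apply, res_apply]
    rw [hg c hc hx, hGe]

end Bij

section Nat

variable {M M' : Type u} [AddCommGroup M] [Module R M] [AddCommGroup M'] [Module R M']

/-- `D_I(e)` as a linear map. -/
noncomputable abbrev mapL (e : M →ₗ[R] M') : DT I M →ₗ[R] DT I M' :=
  ((idealTransform I).map (ModuleCat.ofHom e)).hom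

/-- naturality of `η`. -/
theorem mapL_toDT (e : M →ₗ[R] M') (m : M) : mapL I e (toDT I M m) = toDT I M' (e m) := by
  rw [toDT_eq_zero, toDT_eq_zero]
  unfold mapL
  rw [map_mkL]
  congr 1
  ext x
  simp

theorem mapL_comp {M'' : Type u} [AddCommGroup M''] [Module R M''] (e : M →ₗ[R] M')
    (e' : M' →ₗ[R] M'') : mapL I (e' ∘ₗ e) = mapL I e' ∘ₗ mapL I e := by
  unfold mapL
  rw [ModuleCat.ofHom_comp, Functor.map_comp]
  rfl

theorem toDT_injective_DT [IsNoetherianRing R] : Function.Injective (toDT I (DT I M)) := by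
  rw [← LinearMap.ker_eq_bot, ker_toDT, torsionSub_DT_eq_bot]

theorem mapL_bijective_of_bijective [IsNoetherianRing R] (e : M →ₗ[R] M')
    (he : Function.Bijective e) : Function.Bijective (mapL I e) := by
  refine map_bijective_of_torsion I e ?_ ?_
  · rw [LinearMap.ker_eq_bot.2 he.1]; exact bot_le
  · intro m
    obtain ⟨x, rfl⟩ := Submodule.Quotient.mk_surjective _ m
    refine ⟨0, fun a _ => ?_⟩
    rw [← Submodule.Quotient.mk_smul, Submodule.Quotient.mk_eq_zero,
      LinearMap.range_eq_top.2 he.2]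
    exact Submodule.mem_top

end Nat

end Groth.Agent.Lib.Helper92.IdealTransform
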