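import Groth.Agent.Lib.Helper92.LocCohLES
import Mathlib.Algebra.Homology.DerivedCategory.Ext.ExactSequences
import Mathlib.Algebra.Homology.DerivedCategory.Ext.EnoughInjectives

open CategoryTheory CategoryTheory.Limits Opposite

namespace Groth.Agent.Lib.Helper92.LC

open Groth.Agent.Lib.Helper92.OldExt

universe u
variable {R : Type u} [CommRing R] (I : Ideal R) (i : ℕ)

section Desc

variable {M : ModuleCat.{u} R}

/-- `mk` as a linear map. -/
noncomputable def mkLin (t : ℕ) : Abelian.Ext.{u} (Q I t) M i →ₗ[R] (localCohomology I i).obj M where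
  toFun := mk I i t
  map_add' := mk_add I i t
  map_smul' := mk_smul I i t

@[simp] theorem mkLin_apply (t : ℕ) (x : Abelian.Ext.{u} (Q I t) M i) :
    mkLin I i t x = mk I i t x := rfl

/-- restriction along `R/I^s → R/I^t` as a linear map -/
noncomputable def resLin {s t : ℕ} (h : t ≤ s) :
    Abelian.Ext.{u} (Q I t) M i →ₗ[R] Abelian.Ext.{u} (Q I s) M i :=
  Abelian.Ext.precompOfLinear (Abelian.Ext.mk₀ (proj I h)) R M (zero_add i)

@[simp] theorem resLin_apply {s t : ℕ} (h : t ≤ s) (x : Abelian.Ext.{u} (Q I t) M i) :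
    resLin I i h x = (Abelian.Ext.mk₀ (proj I h)).comp x (zero_add i) := rfl

theorem mk_resLin {s t : ℕ} (h : t ≤ s) (x : Abelian.Ext.{u} (Q I t) M i) :
    mk I i s (resLin I i h x) = mk I i t x := mk_proj I i h x

theorem resLin_resLin {r s t : ℕ} (h : t ≤ s) (h' : s ≤ r) (x : Abelian.Ext.{u} (Q I t) M i) :
    resLin I i h' (resLin I i h x) = resLin I i (h.trans h') x := by
  simp only [resLin_apply]
  rw [← Abelian.Ext.comp_assoc_of_second_deg_zero, Abelian.Ext.mk₀_comp_mk₀, proj_comp]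

variable {N : Type u} [AddCommGroup N] [Module R N]

/-- A compatible family of linear maps on representatives. -/
def Compat (f : ∀ t, Abelian.Ext.{u} (Q I t) M i →ₗ[R] N) : Prop :=
  ∀ (s t : ℕ) (h : t ≤ s) (x : Abelian.Ext.{u} (Q I t) M i), f s (resLin I i h x) = f t x

variable {f : ∀ t, Abelian.Ext.{u} (Q I t) M i →ₗ[R] N}

theorem compat_wd (hf : Compat I i f) {s t : ℕ} {x : Abelian.Ext.{u} (Q I s) M i}
    {y : Abelian.Ext.{u} (Q I t) M i} (h : mk I i s x = mk I i t y) : f s x = f t y := by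
  obtain ⟨k, hs, ht, hk⟩ := (mk_eq_mk_iff I i x y).1 h
  rw [← hf k s hs, ← hf k t ht]
  exact congrArg (f k) hk

/-- the induced map on local cohomology (as a function). -/
noncomputable def descFun (f : ∀ t, Abelian.Ext.{u} (Q I t) M i →ₗ[R] N)
    (y : (localCohomology I i).obj M) : N :=
  f (exists_rep I i y).choose (exists_rep I i y).choose_spec.choose

theorem descFun_mk (hf : Compat I i f) (t : ℕ) (x : Abelian.Ext.{u} (Q I t) M i) :
    descFun I i f (mk I i t x) = f t x :=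
  compat_wd I i hf (exists_rep I i (mk I i t x)).choose_spec.choose_spec

/-- The linear map out of `H^i_I(M)` induced by a compatible family. -/
noncomputable def desc (hf : Compat I i f) : (localCohomology I i).obj M →ₗ[R] N where
  toFun := descFun I i f
  map_add' y y' := by
    obtain ⟨s, x, rfl⟩ := exists_rep I i y
    obtain ⟨t, x', rfl⟩ := exists_rep I i y'
    rw [← mk_resLin I i (le_max_left s t) x, ← mk_resLin I i (le_max_right s t) x', ← mk_add,
      descFun_mk I i hf, descFun_mk I i hf, descFun_mk I i hf, map_add]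
  map_smul' r y := by
    obtain ⟨s, x, rfl⟩ := exists_rep I i y
    rw [← mk_smul, descFun_mk I i hf, descFun_mk I i hf, map_smul, RingHom.id_apply]

@[simp] theorem desc_mk (hf : Compat I i f) (t : ℕ) (x : Abelian.Ext.{u} (Q I t) M i) :
    desc I i hf (mk I i t x) = f t x := descFun_mk I i hf t x

theorem hom_ext {g g' : (localCohomology I i).obj M →ₗ[R] N}
    (h : ∀ t (x : Abelian.Ext.{u} (Q I t) M i), g (mk I i t x) = g' (mk I i t x)) : g = g' := by
  ext y
  obtain ⟨t, x, rfl⟩ := exists_rep I i y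
  exact h t x

end Desc


section LES

variable {S : ShortComplex (ModuleCat.{u} R)} (hS : S.ShortExact)

/-- post-composition with the extension class, on representatives -/
noncomputable def δRep (t : ℕ) :
    Abelian.Ext.{u} (Q I t) S.X₃ i →ₗ[R] (localCohomology I (i + 1)).obj S.X₁ :=
  mkLin I (i + 1) t ∘ₗ Abelian.Ext.postcompOfLinear hS.extClass R (Q I t) rfl

theorem δRep_apply (t : ℕ) (x : Abelian.Ext.{u} (Q I t) S.X₃ i) :
    δRep I i hS t x = mk I (i + 1) t (x.comp hS.extClass rfl) := rfl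

theorem δRep_compat : Compat I i (δRep I i hS) := by
  intro s t h x
  rw [δRep_apply, δRep_apply, resLin_apply,
    Abelian.Ext.comp_assoc _ _ _ (zero_add i) rfl (by omega)]
  exact mk_proj I (i + 1) h _

/-- The connecting homomorphism `H^i_I(X₃) → H^{i+1}_I(X₁)` of a short exact sequence. -/
noncomputable def δ : (localCohomology I i).obj S.X₃ →ₗ[R] (localCohomology I (i + 1)).obj S.X₁ :=
  desc I i (δRep_compat I i hS)

@[simp] theorem δ_mk (t : ℕ) (x : Abelian.Ext.{u} (Q I t) S.X₃ i) :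
    δ I i hS (mk I i t x) = mk I (i + 1) t (x.comp hS.extClass rfl) :=
  desc_mk I i (δRep_compat I i hS) t x

/-- `H^i(f)` as a linear map -/
noncomputable abbrev Hmap {M N : ModuleCat.{u} R} (φ : M ⟶ N) :
    (localCohomology I i).obj M →ₗ[R] (localCohomology I i).obj N :=
  ((localCohomology I i).map φ).hom

theorem Hmap_mk {M N : ModuleCat.{u} R} (φ : M ⟶ N) (t : ℕ) (x : Abelian.Ext.{u} (Q I t) M i) :
    Hmap I i φ (mk I i t x) = mk I i t (x.comp (Abelian.Ext.mk₀ φ) (add_zero i)) :=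
  map_mk I i φ t x

theorem Hmap_g_Hmap_f (S : ShortComplex (ModuleCat.{u} R)) (x : (localCohomology I i).obj S.X₁) :
    Hmap I i S.g (Hmap I i S.f x) = 0 := by
  obtain ⟨t, a, rfl⟩ := exists_rep I i x
  rw [Hmap_mk, Hmap_mk, Abelian.Ext.comp_assoc _ _ _ (add_zero i) (add_zero 0) (by omega),
    Abelian.Ext.mk₀_comp_mk₀, S.zero, Abelian.Ext.mk₀_zero, Abelian.Ext.comp_zero, mk_zero]

theorem δ_Hmap_g (y : (localCohomology I i).obj S.X₂) : δ I i hS (Hmap I i S.g y) = 0 := by
  obtain ⟨t, a, rfl⟩ := exists_rep I i y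
  rw [Hmap_mk, δ_mk, Abelian.Ext.comp_assoc _ _ _ (add_zero i) (zero_add 1) (by omega),
    hS.comp_extClass, Abelian.Ext.comp_zero, mk_zero]

theorem Hmap_f_δ (z : (localCohomology I i).obj S.X₃) : Hmap I (i + 1) S.f (δ I i hS z) = 0 := by
  obtain ⟨t, a, rfl⟩ := exists_rep I i z
  rw [δ_mk, Hmap_mk, Abelian.Ext.comp_assoc _ _ _ rfl (add_zero 1) (by omega),
    hS.extClass_comp, Abelian.Ext.comp_zero, mk_zero]

include hS in
/-- exactness at `H^i(X₂)` -/
theorem exact₂ (y : (localCohomology I i).obj S.X₂) (hy : Hmap I i S.g y = 0) :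
    ∃ x, Hmap I i S.f x = y := by
  obtain ⟨t, a, rfl⟩ := exists_rep I i y
  rw [Hmap_mk, mk_eq_zero_iff] at hy
  obtain ⟨k, hk, h0⟩ := hy
  rw [← Abelian.Ext.comp_assoc _ _ _ (zero_add i) (add_zero i) (by omega)] at h0
  obtain ⟨b, hb⟩ := Abelian.Ext.covariant_sequence_exact₂ _ hS _ h0
  refine ⟨mk I i k b, ?_⟩
  rw [Hmap_mk, hb, mk_proj]

/-- exactness at `H^i(X₃)` -/
theorem exact₃ (z : (localCohomology I i).obj S.X₃) (hz : δ I i hS z = 0) :
    ∃ y, Hmap I i S.g y = z := by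
  obtain ⟨t, a, rfl⟩ := exists_rep I i z
  rw [δ_mk, mk_eq_zero_iff] at hz
  obtain ⟨k, hk, h0⟩ := hz
  rw [← Abelian.Ext.comp_assoc _ _ _ (zero_add i) rfl (by omega)] at h0
  obtain ⟨b, hb⟩ := Abelian.Ext.covariant_sequence_exact₃ _ hS _ rfl h0
  refine ⟨mk I i k b, ?_⟩
  rw [Hmap_mk, hb, mk_proj]

/-- exactness at `H^{i+1}(X₁)` -/
theorem exact₁ (x : (localCohomology I (i + 1)).obj S.X₁) (hx : Hmap I (i + 1) S.f x = 0) :
    ∃ z, δ I i hS z = x := by
  obtain ⟨t, a, rfl⟩ := exists_rep I (i + 1) x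
  rw [Hmap_mk, mk_eq_zero_iff] at hx
  obtain ⟨k, hk, h0⟩ := hx
  rw [← Abelian.Ext.comp_assoc _ _ _ (zero_add (i + 1)) (add_zero (i + 1)) (by omega)] at h0
  obtain ⟨b, hb⟩ := Abelian.Ext.covariant_sequence_exact₁ _ hS _ h0 rfl
  refine ⟨mk I i k b, ?_⟩
  rw [δ_mk, hb, mk_proj]

include hS in
/-- `H^0(f)` is injective -/
theorem Hmap_f_zero_injective : Function.Injective (Hmap I 0 S.f) := by
  rw [injective_iff_map_eq_zero]
  intro x hx
  obtain ⟨t, a, rfl⟩ := exists_rep I 0 x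
  rw [Hmap_mk, mk_eq_zero_iff] at hx
  obtain ⟨k, hk, h0⟩ := hx
  rw [← Abelian.Ext.comp_assoc _ _ _ (zero_add 0) (add_zero 0) (by omega)] at h0
  have := hS.mono_f
  have h1 : (Abelian.Ext.mk₀ (proj I hk)).comp a (zero_add 0) = 0 :=
    Abelian.Ext.postcomp_mk₀_injective_of_mono (Q I k) S.f
      (h0.trans (map_zero ((Abelian.Ext.mk₀ S.f).postcomp (Q I k) (add_zero 0))).symm)
  rw [← mk_proj I 0 hk a, h1, mk_zero]

end LES

section Vanishing

theorem subsingleton_of_injective (M : ModuleCat.{u} R) [Injective M] :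
    Subsingleton ((localCohomology I (i + 1)).obj M) := by
  refine ⟨fun x y => ?_⟩
  obtain ⟨s, a, rfl⟩ := exists_rep I (i + 1) x
  obtain ⟨t, b, rfl⟩ := exists_rep I (i + 1) y
  rw [Abelian.Ext.eq_zero_of_injective a, Abelian.Ext.eq_zero_of_injective b, mk_zero, mk_zero]

end Vanishing

end Groth.Agent.Lib.Helper92.LC
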