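import Groth.Agent.Lib.Helper92.FiltExt
import Groth.Agent.Lib.Helper92.LocCohLES2

open CategoryTheory CategoryTheory.Limits Opposite

namespace Groth.Agent.Lib.Helper92.LC

open Groth.Agent.Lib.Helper92.FiltExt

universe u
variable {R : Type u} [CommRing R] [IsNoetherianRing R] (I : Ideal R) (i : ℕ)
  {J : Type u} [SmallCategory J] [IsFiltered J] {K : J ⥤ ModuleCat.{u} R} {c : Cocone K}

theorem H_rep (h : IsFiltColim K c) (y : (localCohomology I i).obj c.pt) :
    ∃ (j : J) (yj : (localCohomology I i).obj (K.obj j)), Hmap I i (c.ι.app j) yj = y := by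
  obtain ⟨t, x, rfl⟩ := exists_rep I i y
  obtain ⟨j, xj, rfl⟩ := (propA_propB h i (Q I t)).1 x
  exact ⟨j, mk I i t xj, Hmap_mk I i _ t xj⟩

theorem H_eqz (h : IsFiltColim K c) (j : J) (yj : (localCohomology I i).obj (K.obj j))
    (hy : Hmap I i (c.ι.app j) yj = 0) :
    ∃ (k : J) (f : j ⟶ k), Hmap I i (K.map f) yj = 0 := by
  obtain ⟨t, x, rfl⟩ := exists_rep I i yj
  rw [Hmap_mk, mk_eq_zero_iff] at hy
  obtain ⟨s, hs, h0⟩ := hy
  rw [← Abelian.Ext.comp_assoc _ _ _ (zero_add i) (add_zero i) (by omega)] at h0
  obtain ⟨k, f, hk⟩ := (propA_propB h i (Q I s)).2 j _ h0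
  refine ⟨k, f, ?_⟩
  rw [Hmap_mk, mk_eq_zero_iff]
  refine ⟨s, hs, ?_⟩
  rw [← Abelian.Ext.comp_assoc _ _ _ (zero_add i) (add_zero i) (by omega)]
  exact hk

end Groth.Agent.Lib.Helper92.LC

namespace Groth.Agent.Lib.Helper92.LC

open Groth.Agent.Lib.Helper92.FiltExt

universe u
variable {R : Type u} [CommRing R] [IsNoetherianRing R] (I : Ideal R) (i : ℕ)
  {J : Type u} [SmallCategory J] [IsFiltered J]

/-- local cohomology commutes with small filtered colimits. -/
theorem preservesColimit_localCohomology (K : J ⥤ ModuleCat.{u} R) :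
    PreservesColimit K (localCohomology I i) := by
  apply preservesColimit_of_preserves_colimit_cocone (colimit.isColimit K)
  have h := isFiltColim_of_isColimit K (colimit.cocone K) (colimit.isColimit K)
  have hbij : Function.Bijective
      ((colimit.isColimit (K ⋙ localCohomology I i)).desc
        ((localCohomology I i).mapCocone (colimit.cocone K))).hom := by
    constructor
    · rw [injective_iff_map_eq_zero]
      intro z hz
      obtain ⟨j, yj, rfl⟩ := Concrete.colimit_exists_rep (K ⋙ localCohomology I i) z
      have h1 : ((colimit.isColimit (K ⋙ localCohomology I i)).desc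
          ((localCohomology I i).mapCocone (colimit.cocone K))).hom
          ((colimit.ι (K ⋙ localCohomology I i) j).hom yj) =
          Hmap I i ((colimit.cocone K).ι.app j) yj := by
        have := (colimit.isColimit (K ⋙ localCohomology I i)).fac
          ((localCohomology I i).mapCocone (colimit.cocone K)) j
        exact congrArg (fun g => g.hom yj) this
      have h2 : Hmap I i ((colimit.cocone K).ι.app j) yj = 0 := by
        rw [← h1]; exact hz
      obtain ⟨k, f, hk⟩ := H_eqz I i h j yj h2
      have h3 := colimit.w (K ⋙ localCohomology I i) f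
      have h4 := congrArg (fun g => g.hom yj) h3
      change (colimit.ι (K ⋙ localCohomology I i) j).hom yj = 0
      rw [← h4]
      change (colimit.ι (K ⋙ localCohomology I i) k).hom (Hmap I i (K.map f) yj) = 0
      rw [hk, map_zero]
    · intro y
      obtain ⟨j, yj, rfl⟩ := H_rep I i h y
      refine ⟨(colimit.ι (K ⋙ localCohomology I i) j).hom yj, ?_⟩
      have := (colimit.isColimit (K ⋙ localCohomology I i)).fac
        ((localCohomology I i).mapCocone (colimit.cocone K)) j
      exact congrArg (fun g => g.hom yj) this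
  have : IsIso ((colimit.isColimit (K ⋙ localCohomology I i)).desc
      ((localCohomology I i).mapCocone (colimit.cocone K))) :=
    (ConcreteCategory.isIso_iff_bijective _).2 hbij
  exact IsColimit.ofPointIso (colimit.isColimit (K ⋙ localCohomology I i))

end Groth.Agent.Lib.Helper92.LC
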