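import Groth.Agent.Lib.Helper92.LocCohDepth
import Groth.Agent.Lib.Helper92.LocCohColim
import Groth.Agent.Lib.Helper92.IdealTransform
import Mathlib.RingTheory.KrullDimension.Regular
import Mathlib.RingTheory.KrullDimension.Module

open CategoryTheory CategoryTheory.Limits Opposite
open scoped Pointwise

namespace Groth.Agent.Lib.Helper92.LC

universe u
variable {R : Type u} [CommRing R] (I : Ideal R)

section Basics

theorem subsingleton_of_subsingleton (i : ℕ) (M : ModuleCat.{u} R) [Subsingleton M] :
    Subsingleton ((localCohomology I i).obj M) := by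
  refine ⟨fun y y' => ?_⟩
  suffices h : ∀ y : (localCohomology I i).obj M, y = 0 from (h y).trans (h y').symm
  intro y
  have h1 := Hmap_smul_id I i (M := M) (0 : R) y
  have h2 : (0 : R) • 𝟙 M = 𝟙 M := by
    ext m
    exact Subsingleton.elim _ _
  rw [h2, zero_smul] at h1
  rw [← h1]
  change y = ((localCohomology I i).map (𝟙 M)).hom y
  rw [CategoryTheory.Functor.map_id]
  rfl

variable [IsNoetherianRing R] (M : Type u) [AddCommGroup M] [Module R M]

/-- `Γ_I(M/Γ_I(M)) = 0`. -/
theorem torsionSub_quotient_torsionSub :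
    DRing.torsionSub I (M ⧸ DRing.torsionSub I M) = ⊥ := by
  rw [eq_bot_iff]
  rintro q ⟨n, hn⟩
  obtain ⟨m, rfl⟩ := Submodule.mkQ_surjective _ q
  rw [Submodule.mem_bot]
  refine (Submodule.Quotient.mk_eq_zero _).2 ?_
  -- `I^n m ⊆ Γ_I(M)`
  have h1 : (I ^ n) • (Submodule.span R {m}) ≤ DRing.torsionSub I M := by
    rw [Submodule.smul_le]
    intro a ha y hy
    obtain ⟨c, rfl⟩ := Submodule.mem_span_singleton.1 hy
    rw [smul_comm]
    apply Submodule.smul_mem
    have := hn a ha
    rw [Submodule.mkQ_apply, ← Submodule.Quotient.mk_smul] at this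
    exact (Submodule.Quotient.mk_eq_zero _).1 this
  have hfg : ((I ^ n) • (Submodule.span R {m})).FG :=
    Submodule.FG.smul (IsNoetherian.noetherian _) (Submodule.fg_span_singleton m)
  obtain ⟨k, hk⟩ := IdealTransform.exists_pow_smul_eq_zero_of_fg I M _ hfg h1
  refine ⟨k + n, fun c hc => ?_⟩
  rw [pow_add] at hc
  refine Submodule.mul_induction_on hc ?_ ?_
  · intro b hb a ha
    rw [mul_smul]
    exact hk b hb _ (Submodule.smul_mem_smul ha (Submodule.mem_span_singleton_self m))
  · intro x y hx hy
    rw [add_smul, hx, hy, add_zero]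

end Basics

end Groth.Agent.Lib.Helper92.LC

namespace Groth.Agent.Lib.Helper92.LC

open Groth.Agent.Lib.Helper67

universe u
variable {R : Type u} [CommRing R] [IsNoetherianRing R] (I : Ideal R)

omit [IsNoetherianRing R] in
theorem lt_of_add_one_lt (a : WithBot ℕ∞) (i : ℕ) (h : a + 1 < ((i + 1 : ℕ) : WithBot ℕ∞)) :
    a < (i : WithBot ℕ∞) := by
  induction a using WithBot.recBotCoe with
  | bot => exact WithBot.bot_lt_coe _
  | coe b =>
    induction b using ENat.recTopCoe with
    | top =>
      exfalso
      have : ((⊤ : ℕ∞) : WithBot ℕ∞) + 1 = ((⊤ : ℕ∞) : WithBot ℕ∞) := by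
        rw [← WithBot.coe_one, ← WithBot.coe_add, top_add]
      rw [this] at h
      have h2 : ((⊤ : ℕ∞) : WithBot ℕ∞) < (((i + 1 : ℕ) : ℕ∞) : WithBot ℕ∞) := h
      rw [WithBot.coe_lt_coe] at h2
      exact absurd h2 (not_lt.2 le_top)
    | coe n =>
      have h2 : (((n + 1 : ℕ) : ℕ∞) : WithBot ℕ∞) < (((i + 1 : ℕ) : ℕ∞) : WithBot ℕ∞) := by
        push_cast
        exact h
      rw [WithBot.coe_lt_coe, Nat.cast_lt] at h2
      have : n < i := by omega
      exact_mod_cast this

/-- if `Γ_I(M) = 0` and `M ≠ 0` is finite, `I` contains an `M`-regular element. -/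
theorem exists_regular_of_torsionSub_eq_bot (M : Type u) [AddCommGroup M] [Module R M]
    [Module.Finite R M] [Nontrivial M] (h : DRing.torsionSub I M = ⊥) :
    ∃ r ∈ I, IsSMulRegular M r := by
  by_contra hcon
  push Not at hcon
  obtain ⟨p, hp, hIp⟩ := (forall_not_isSMulRegular_iff I M).1 hcon
  obtain ⟨hpp, m, hm⟩ := (isAssociatedPrime_iff).1 ((AssociatedPrimes.mem_iff).1 hp)
  have hm0 : m ≠ 0 := by
    rintro rfl
    apply hpp.ne_top
    rw [hm, Ideal.eq_top_iff_one, Submodule.mem_colon_singleton]
    simp
  have hmem : m ∈ DRing.torsionSub I M := by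
    refine ⟨1, fun a ha => ?_⟩
    rw [pow_one] at ha
    have := hIp ha
    rw [hm, Submodule.mem_colon_singleton] at this
    simpa using this
  rw [h] at hmem
  exact hm0 hmem

/-- Grothendieck vanishing for finite modules: `H^i_I(M) = 0` for `i > dim Supp M`. -/
theorem subsingleton_of_supportDim_lt_of_finite (i : ℕ) :
    ∀ (M : Type u) [AddCommGroup M] [Module R M] [Module.Finite R M],
      Module.supportDim R M < (i : WithBot ℕ∞) →
      Subsingleton ((localCohomology I i).obj (ModuleCat.of R M)) := by
  induction i with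
  | zero =>
    intro M _ _ _ hdim
    have hsub : Subsingleton M := by
      by_contra hne
      rw [not_subsingleton_iff_nontrivial] at hne
      have hne' : Nonempty (Module.support R M) := Module.nonempty_support_of_nontrivial.to_subtype
      have h0 : (0 : WithBot ℕ∞) ≤ Module.supportDim R M := Order.krullDim_nonneg
      exact absurd hdim (not_lt.2 (by exact_mod_cast h0))
    exact subsingleton_of_subsingleton I 0 (ModuleCat.of R M)
  | succ i ih =>
    intro M _ _ _ hdim
    -- reduce to `M' = M/Γ_I(M)`
    let Γ := DRing.torsionSub I M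
    let M' := M ⧸ Γ
    have hS := sesOfInjective_shortExact Γ.subtype (Submodule.injective_subtype _)
    have hΓ : Subsingleton ((localCohomology I (i + 1)).obj (sesOfInjective Γ.subtype).X₁) :=
      subsingleton_of_isPowerTorsion I i _ (isPowerTorsion_torsionSub I M)
    suffices hM' : Subsingleton ((localCohomology I (i + 1)).obj (sesOfInjective Γ.subtype).X₃) by
      refine ⟨fun y y' => ?_⟩
      suffices h : ∀ y : (localCohomology I (i + 1)).obj (sesOfInjective Γ.subtype).X₂, y = 0 from
        (h y).trans (h y').symm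
      intro y
      obtain ⟨w, rfl⟩ := exact₂ I (i + 1) hS y (Subsingleton.elim _ _)
      rw [Subsingleton.elim w 0, map_zero]
    -- X₃ = M / range (subtype) ≅ M'
    let N := M ⧸ LinearMap.range Γ.subtype
    change Subsingleton ((localCohomology I (i + 1)).obj (ModuleCat.of R N))
    have hNdim : Module.supportDim R N ≤ Module.supportDim R M :=
      Module.supportDim_le_of_surjective _ (Submodule.mkQ_surjective _)
    have hNΓ : DRing.torsionSub I N = ⊥ := by
      have : LinearMap.range Γ.subtype = Γ := Submodule.range_subtype Γ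
      show DRing.torsionSub I (M ⧸ LinearMap.range Γ.subtype) = ⊥
      rw [this]
      exact torsionSub_quotient_torsionSub I M
    rcases subsingleton_or_nontrivial N with hsub | hnt
    · exact subsingleton_of_subsingleton I (i + 1) (ModuleCat.of R N)
    obtain ⟨r, hrI, hreg⟩ := exists_regular_of_torsionSub_eq_bot I N hNΓ
    have hS' := sesSMul_shortExact N r hreg
    have hQdim : Module.supportDim R (QuotSMulTop r N) < (i : WithBot ℕ∞) := by
      have h1 := Module.supportDim_quotSMulTop_succ_le_of_notMem_minimalPrimes (M := N) (x := r)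
        (fun _ => hreg.notMem_of_mem_minimalPrimes)
      have h2 : Module.supportDim R (QuotSMulTop r N) + 1 < ((i + 1 : ℕ) : WithBot ℕ∞) :=
        lt_of_le_of_lt (h1.trans hNdim) hdim
      exact lt_of_add_one_lt _ _ h2
    have hQ : Subsingleton ((localCohomology I i).obj (sesSMul N r).X₃) := ih _ hQdim
    have hinj : ∀ y : (localCohomology I (i + 1)).obj (ModuleCat.of R N), r • y = 0 → y = 0 := by
      intro y hy
      rw [← Hmap_smul_id, ← sesSMul_f] at hy
      obtain ⟨z, rfl⟩ := exact₁ I i hS' y hy
      rw [Subsingleton.elim z 0, map_zero]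
    refine ⟨fun y y' => ?_⟩
    suffices h : ∀ y : (localCohomology I (i + 1)).obj (ModuleCat.of R N), y = 0 from
      (h y).trans (h y').symm
    intro y
    obtain ⟨t, ht⟩ := exists_pow_smul_eq_zero I (i + 1) y
    have hxt := ht (r ^ t) (Ideal.pow_mem_pow hrI t)
    clear ht
    induction t with
    | zero => simpa using hxt
    | succ t iht =>
      apply iht
      apply hinj
      rw [← mul_smul, ← pow_succ']
      exact hxt

end Groth.Agent.Lib.Helper92.LC

namespace Groth.Agent.Lib.Helper92.LC

open Groth.Agent.Lib.Helper92.FiltExt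

universe u
variable {R : Type u} [CommRing R] [IsNoetherianRing R] (I : Ideal R)

section FGReduction

variable (M : Type u) [AddCommGroup M] [Module R M]

/-- the directed poset of finitely generated submodules -/
abbrev FGSub (R : Type u) [CommRing R] (M : Type u) [AddCommGroup M] [Module R M] : Type u :=
  {N : Submodule R M // N.FG}

instance : IsDirected (FGSub R M) (· ≤ ·) :=
  ⟨fun a b => ⟨⟨a.1 ⊔ b.1, a.2.sup b.2⟩, le_sup_left, le_sup_right⟩⟩

instance : Nonempty (FGSub R M) := ⟨⟨⊥, Submodule.fg_bot⟩⟩

/-- the diagram of finitely generated submodules -/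
def fgDiagram (R : Type u) [CommRing R] (M : Type u) [AddCommGroup M] [Module R M] :
    FGSub R M ⥤ ModuleCat.{u} R where
  obj N := ModuleCat.of R N.1
  map f := ModuleCat.ofHom (Submodule.inclusion (leOfHom f))
  map_id _ := rfl
  map_comp _ _ := rfl

/-- the cocone with vertex `M` -/
def fgCocone (R : Type u) [CommRing R] (M : Type u) [AddCommGroup M] [Module R M] :
    Cocone (fgDiagram R M) where
  pt := ModuleCat.of R M
  ι := { app := fun N => ModuleCat.ofHom N.1.subtype
         naturality := fun _ _ _ => rfl }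

omit [IsNoetherianRing R] in
theorem fgCocone_isFiltColim : IsFiltColim (fgDiagram R M) (fgCocone R M) where
  rep m := ⟨⟨Submodule.span R {m}, Submodule.fg_span_singleton m⟩,
    ⟨m, Submodule.mem_span_singleton_self m⟩, rfl⟩
  eqz j mj h := by
    refine ⟨j, 𝟙 j, ?_⟩
    have : mj = 0 := Subtype.ext h
    rw [this, map_zero]

/-- every class in `H^i_I(M)` comes from a finitely generated submodule. -/
theorem exists_fg_rep (i : ℕ) (y : (localCohomology I i).obj (ModuleCat.of R M)) :
    ∃ (N : Submodule R M) (_ : N.FG) (yN : (localCohomology I i).obj (ModuleCat.of R N)),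
      Hmap I i (ModuleCat.ofHom N.subtype) yN = y := by
  obtain ⟨N, yN, h⟩ := H_rep I i (fgCocone_isFiltColim (R := R) M) y
  exact ⟨N.1, N.2, yN, h⟩

end FGReduction

/-- Grothendieck vanishing: `H^i_I(M) = 0` for `i > dim Supp M`, any module `M`. -/
theorem subsingleton_of_supportDim_lt (i : ℕ) (M : Type u) [AddCommGroup M] [Module R M]
    (hdim : Module.supportDim R M < (i : WithBot ℕ∞)) :
    Subsingleton ((localCohomology I i).obj (ModuleCat.of R M)) := by
  refine ⟨fun y y' => ?_⟩
  suffices h : ∀ y : (localCohomology I i).obj (ModuleCat.of R M), y = 0 from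
    (h y).trans (h y').symm
  intro y
  obtain ⟨N, hN, yN, rfl⟩ := exists_fg_rep I M i y
  have : Module.Finite R N := Module.Finite.iff_fg.2 hN
  have hsub : Subsingleton ((localCohomology I i).obj (ModuleCat.of R N)) :=
    subsingleton_of_supportDim_lt_of_finite I i N
      (lt_of_le_of_lt (Module.supportDim_le_of_injective N.subtype (Submodule.injective_subtype N))
        hdim)
  rw [Subsingleton.elim yN 0, map_zero]

/-- `cd(R, I) ≤ dim R`. -/
theorem cdLE_of_ringKrullDim_le (d : ℕ) (hd : ringKrullDim R ≤ d) : LocCoh.CdLE R I d := by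
  intro M _ _ i hi
  apply subsingleton_of_supportDim_lt
  refine lt_of_le_of_lt ((Module.supportDim_le_ringKrullDim R M).trans hd) ?_
  exact_mod_cast hi

end Groth.Agent.Lib.Helper92.LC
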