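import Groth.Agent.Lib.Helper92.LocCohLES2
import Groth.Prelude.Def_DRing3

open CategoryTheory CategoryTheory.Limits Opposite

namespace Groth.Agent.Lib.Helper92.LC

open Groth.Agent.Lib.Helper92.OldExt

universe u
variable {R : Type u} [CommRing R] (I : Ideal R)

section H0

variable {M : ModuleCat.{u} R}

/-- the class of `1` in `R/I^t`. -/
def one (t : ℕ) : (Q I t : Type u) := Submodule.Quotient.mk (1 : R)

/-- evaluation at 1 on `Ext^0(R/I^t, M)`. -/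
noncomputable def ev₀ (t : ℕ) : Abelian.Ext.{u} (Q I t) M 0 →ₗ[R] M :=
  (LinearMap.applyₗ (one I t)) ∘ₗ (ModuleCat.homLinearEquiv (S := R)).toLinearMap ∘ₗ
    (Abelian.Ext.linearEquiv₀ (R := R)).toLinearMap

theorem ev₀_mk₀ (t : ℕ) (φ : Q I t ⟶ M) : ev₀ I t (Abelian.Ext.mk₀ φ) = φ.hom (one I t) := by
  unfold ev₀
  simp only [LinearMap.comp_apply, LinearEquiv.coe_coe]
  have : Abelian.Ext.linearEquiv₀ (R := R) (Abelian.Ext.mk₀ φ) = φ := by
    apply (Abelian.Ext.linearEquiv₀ (R := R)).symm.injective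
    simp
  rw [this]
  rfl

theorem ev₀_compat : Compat I 0 (ev₀ (M := M) I) := by
  intro s t h x
  obtain ⟨φ, rfl⟩ : ∃ φ, Abelian.Ext.mk₀ φ = x :=
    ⟨_, Abelian.Ext.mk₀_linearEquiv₀_apply (R := R) x⟩
  rw [resLin_apply, Abelian.Ext.mk₀_comp_mk₀, ev₀_mk₀, ev₀_mk₀]
  rfl

/-- `H^0_I(M) → M`. -/
noncomputable def γ : (localCohomology I 0).obj M →ₗ[R] M := desc I 0 (ev₀_compat I)

theorem γ_mk (t : ℕ) (φ : Q I t ⟶ M) : γ I (mk I 0 t (Abelian.Ext.mk₀ φ)) = φ.hom (one I t) := by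
  unfold γ
  rw [desc_mk, ev₀_mk₀]

theorem exists_rep₀ (y : (localCohomology I 0).obj M) :
    ∃ (t : ℕ) (φ : Q I t ⟶ M), mk I 0 t (Abelian.Ext.mk₀ φ) = y := by
  obtain ⟨t, x, rfl⟩ := exists_rep I 0 y
  exact ⟨t, _, by rw [Abelian.Ext.mk₀_linearEquiv₀_apply (R := R) x]⟩

theorem hom_eq_zero_of_one {t : ℕ} (φ : Q I t ⟶ M) (h : φ.hom (one I t) = 0) : φ = 0 := by
  apply ModuleCat.hom_ext
  apply LinearMap.ext
  intro y
  obtain ⟨r, rfl⟩ := Submodule.Quotient.mk_surjective _ y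
  have : (Submodule.Quotient.mk r : R ⧸ I ^ t) = r • one I t := by
    unfold one
    rw [← Submodule.Quotient.mk_smul, smul_eq_mul, mul_one]
  rw [this, map_smul, h, smul_zero]
  rfl

theorem γ_injective : Function.Injective (γ (M := M) I) := by
  rw [injective_iff_map_eq_zero]
  intro y hy
  obtain ⟨t, φ, rfl⟩ := exists_rep₀ I y
  rw [γ_mk] at hy
  rw [hom_eq_zero_of_one I φ hy, Abelian.Ext.mk₀_zero, mk_zero]

theorem γ_mem (y : (localCohomology I 0).obj M) : γ I y ∈ DRing.torsionSub I M := by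
  obtain ⟨t, φ, rfl⟩ := exists_rep₀ I y
  rw [γ_mk]
  refine ⟨t, fun a ha => ?_⟩
  rw [← map_smul]
  have : a • one I t = 0 := by
    unfold one
    rw [← Submodule.Quotient.mk_smul, smul_eq_mul, mul_one]
    exact (Submodule.Quotient.mk_eq_zero _).2 ha
  rw [this, map_zero]

theorem exists_γ_eq (m : M) (hm : m ∈ DRing.torsionSub I M) : ∃ y, γ I y = m := by
  obtain ⟨t, ht⟩ := hm
  let φ : Q I t ⟶ M := ModuleCat.ofHom
    (Submodule.liftQ (I ^ t) (LinearMap.toSpanSingleton R M m) (by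
      intro a ha
      rw [LinearMap.mem_ker, LinearMap.toSpanSingleton_apply]
      exact ht a ha))
  refine ⟨mk I 0 t (Abelian.Ext.mk₀ φ), ?_⟩
  rw [γ_mk]
  change (LinearMap.toSpanSingleton R M m) 1 = m
  simp

/-- `H^0_I(M) ≃ Γ_I(M)`. -/
noncomputable def γEquiv (M : ModuleCat.{u} R) :
    (localCohomology I 0).obj M ≃ₗ[R] DRing.torsionSub I M :=
  LinearEquiv.ofBijective ((γ I).codRestrict _ (γ_mem I))
    ⟨fun x y h => γ_injective I (congrArg Subtype.val h),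
     fun m => by
      obtain ⟨y, hy⟩ := exists_γ_eq I m.1 m.2
      exact ⟨y, Subtype.ext hy⟩⟩

theorem γ_naturality {N : ModuleCat.{u} R} (ψ : M ⟶ N) (y : (localCohomology I 0).obj M) :
    γ I (Hmap I 0 ψ y) = ψ.hom (γ I y) := by
  obtain ⟨t, φ, rfl⟩ := exists_rep₀ I y
  rw [Hmap_mk, Abelian.Ext.mk₀_comp_mk₀, γ_mk, γ_mk]
  rfl

end H0

end Groth.Agent.Lib.Helper92.LC
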