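import Groth.Agent.Lib.Helper92.LocCohH0
import Groth.Agent.Lib.Helper92.IdealTransform
import Mathlib.Algebra.Module.Injective
import Mathlib.Algebra.Category.ModuleCat.Injective

set_option linter.unusedSectionVars false

open CategoryTheory CategoryTheory.Limits Opposite

namespace Groth.Agent.Lib.Helper92.LC

universe u
variable {R : Type u} [CommRing R] (I : Ideal R)

section InjTorsion

variable [IsNoetherianRing R] (E : Type u) [AddCommGroup E] [Module R E]

open Groth.Agent.Lib.Helper92.IdealTransform in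
/-- Over a Noetherian ring, `Γ_I(E)` is injective when `E` is. -/
theorem injective_torsionSub [Module.Injective R E] :
    Module.Injective R (DRing.torsionSub I E) := by
  apply Module.Baer.injective
  intro 𝔞 g
  -- the range of `g` is killed by some `I^n`
  have hfg : (Submodule.map (DRing.torsionSub I E).subtype (LinearMap.range g)).FG := by
    apply Submodule.FG.map
    rw [LinearMap.range_eq_map]
    exact (Module.Finite.fg_top).map g
  obtain ⟨n, hn⟩ := exists_pow_smul_eq_zero_of_fg I E _ hfg (by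
    rintro _ ⟨y, -, rfl⟩
    exact y.2)
  have hn' : ∀ b ∈ I ^ n, ∀ a : 𝔞, b • g a = 0 := by
    intro b hb a
    apply Subtype.ext
    exact hn b hb _ ⟨g a, ⟨a, rfl⟩, rfl⟩
  -- Artin-Rees
  obtain ⟨c, hc⟩ := Ideal.exists_pow_inf_eq_pow_smul I (𝔞 : Submodule R R)
  obtain ⟨k, hk⟩ : ∃ k, k = c + n := ⟨_, rfl⟩
  have hAR : I ^ k ⊓ 𝔞 ≤ I ^ n • 𝔞 := by
    have h1 := hc k (by omega)
    have h2 : k - c = n := by omega
    rw [h2] at h1
    have h3 : ∀ m : ℕ, I ^ m • (⊤ : Submodule R R) = I ^ m := fun m => by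
      rw [smul_eq_mul]; exact Ideal.mul_top _
    rw [h3] at h1
    rw [h1]
    exact Submodule.smul_mono le_rfl inf_le_right
  have hkill : ∀ x ∈ I ^ n • 𝔞, ∃ hx : x ∈ 𝔞, g ⟨x, hx⟩ = 0 := by
    intro x hx
    refine Submodule.smul_induction_on hx ?_ ?_
    · intro b hb a ha
      refine ⟨𝔞.mul_mem_left b ha, ?_⟩
      have : (⟨b • a, 𝔞.mul_mem_left b ha⟩ : 𝔞) = b • ⟨a, ha⟩ := rfl
      rw [this, map_smul]
      exact hn' b hb _
    · rintro x y ⟨hx, hx0⟩ ⟨hy, hy0⟩
      refine ⟨add_mem hx hy, ?_⟩
      have : (⟨x + y, add_mem hx hy⟩ : 𝔞) = ⟨x, hx⟩ + ⟨y, hy⟩ := rfl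
      rw [this, map_add, hx0, hy0, add_zero]
  -- the quotient map
  let N : Submodule R 𝔞 := Submodule.comap 𝔞.subtype (I ^ k)
  let f : (𝔞 ⧸ N) →ₗ[R] (R ⧸ I ^ k) := Submodule.mapQ N (I ^ k) 𝔞.subtype le_rfl
  have hf : Function.Injective f := by
    rw [← LinearMap.ker_eq_bot, eq_bot_iff]
    intro x hx
    obtain ⟨a, rfl⟩ := Submodule.Quotient.mk_surjective _ x
    rw [LinearMap.mem_ker] at hx
    change Submodule.Quotient.mk (a : R) = (0 : R ⧸ I ^ k) at hx
    rw [Submodule.Quotient.mk_eq_zero] at hx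
    rw [Submodule.mem_bot, Submodule.Quotient.mk_eq_zero]
    exact hx
  let g₁ : (𝔞 ⧸ N) →ₗ[R] E := Submodule.liftQ N ((DRing.torsionSub I E).subtype ∘ₗ g) (by
    intro a ha
    rw [LinearMap.mem_ker, LinearMap.comp_apply]
    obtain ⟨ha', h0⟩ := hkill a.1 (hAR ⟨ha, a.2⟩)
    have : (⟨a.1, ha'⟩ : 𝔞) = a := rfl
    rw [this] at h0
    rw [h0, map_zero])
  obtain ⟨h, hh⟩ := Module.Injective.out f hf g₁
  have hmem : ∀ r : R, h (Submodule.Quotient.mk r) ∈ DRing.torsionSub I E := by
    intro r
    refine ⟨k, fun b hb => ?_⟩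
    rw [← map_smul, ← Submodule.Quotient.mk_smul]
    have : (Submodule.Quotient.mk (b • r) : R ⧸ I ^ k) = 0 :=
      (Submodule.Quotient.mk_eq_zero _).2 (Ideal.mul_mem_right _ _ hb)
    rw [this, map_zero]
  refine ⟨(h ∘ₗ (I ^ k).mkQ).codRestrict (DRing.torsionSub I E) hmem, fun x hx => ?_⟩
  apply Subtype.ext
  change h (Submodule.Quotient.mk x) = (g ⟨x, hx⟩ : E)
  have := hh (Submodule.Quotient.mk ⟨x, hx⟩)
  exact this

end InjTorsion

section TorsionVanishing

/-- The short exact sequence `0 → A → B → B/A → 0` attached to an injective linear map. -/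
noncomputable abbrev sesOfInjective {A B : Type u} [AddCommGroup A] [Module R A] [AddCommGroup B]
    [Module R B] (e : A →ₗ[R] B) : ShortComplex (ModuleCat.{u} R) :=
  ModuleCat.shortComplexOfCompEqZero e (LinearMap.range e).mkQ
    (LinearMap.range_mkQ_comp e)

theorem sesOfInjective_shortExact {A B : Type u} [AddCommGroup A] [Module R A] [AddCommGroup B]
    [Module R B] (e : A →ₗ[R] B) (he : Function.Injective e) :
    (sesOfInjective e).ShortExact :=
  ModuleCat.shortComplex_shortExact _ (LinearMap.exact_map_mkQ_range e) he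
    (Submodule.mkQ_surjective _)

variable [IsNoetherianRing R]

theorem isPowerTorsion_torsionSub (E : Type u) [AddCommGroup E] [Module R E] :
    LocCoh.IsPowerTorsion I (DRing.torsionSub I E) := by
  rintro ⟨e, n, hn⟩
  exact ⟨n, fun a ha => Subtype.ext (hn a ha)⟩

theorem isPowerTorsion_quotient {B : Type u} [AddCommGroup B] [Module R B]
    (hB : LocCoh.IsPowerTorsion I B) (N : Submodule R B) : LocCoh.IsPowerTorsion I (B ⧸ N) := by
  intro x
  obtain ⟨b, rfl⟩ := Submodule.Quotient.mk_surjective _ x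
  obtain ⟨n, hn⟩ := hB b
  exact ⟨n, fun a ha => by rw [← Submodule.Quotient.mk_smul, hn a ha, Submodule.Quotient.mk_zero]⟩

/-- A torsion module embeds in a torsion injective module with torsion cokernel. -/
theorem exists_embedding (T : Type u) [AddCommGroup T] [Module R T]
    (hT : LocCoh.IsPowerTorsion I T) :
    ∃ (E' : ModuleCat.{u} R) (j : T →ₗ[R] E'), Function.Injective j ∧ Injective E' ∧
      LocCoh.IsPowerTorsion I E' ∧ LocCoh.IsPowerTorsion I (E' ⧸ LinearMap.range j) := by
  let E₀ : ModuleCat.{u} R := Injective.under (ModuleCat.of R T)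
  let ι : ModuleCat.of R T ⟶ E₀ := Injective.ι _
  have hι : Function.Injective ι.hom := (ModuleCat.mono_iff_injective ι).1 inferInstance
  have hE₀inj : Injective (ModuleCat.of R E₀) :=
    (inferInstance : Injective (Injective.under (ModuleCat.of R T)))
  have hE₀ : Module.Injective R E₀ := Module.injective_module_of_injective_object R E₀
  have := injective_torsionSub I E₀
  have hmem : ∀ t : T, ι.hom t ∈ DRing.torsionSub I E₀ := by
    intro t
    obtain ⟨n, hn⟩ := hT t
    exact ⟨n, fun a ha => by rw [← map_smul, hn a ha, map_zero]⟩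
  refine ⟨ModuleCat.of R (DRing.torsionSub I E₀), ι.hom.codRestrict _ hmem, ?_,
    Module.injective_object_of_injective_module R _, isPowerTorsion_torsionSub I E₀,
    isPowerTorsion_quotient I (isPowerTorsion_torsionSub I E₀) _⟩
  intro x y hxy
  exact hι (congrArg Subtype.val hxy)

/-- **Torsion modules are `Γ_I`-acyclic**: `H^{i+1}_I(T) = 0` for an `I`-power-torsion module. -/
theorem subsingleton_of_isPowerTorsion (i : ℕ) (T : Type u) [AddCommGroup T] [Module R T]
    (hT : LocCoh.IsPowerTorsion I T) :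
    Subsingleton ((localCohomology I (i + 1)).obj (ModuleCat.of R T)) := by
  induction i generalizing T with
  | zero =>
    obtain ⟨E', j, hj, hE', htE', htC⟩ := exists_embedding I T hT
    have hS := sesOfInjective_shortExact j hj
    have hsub : Subsingleton ((localCohomology I (0 + 1)).obj (sesOfInjective j).X₂) :=
      subsingleton_of_injective I 0 E'
    suffices h : ∀ x : (localCohomology I (0 + 1)).obj (ModuleCat.of R T), x = 0 from
      ⟨fun x y => (h x).trans (h y).symm⟩
    intro x
    obtain ⟨z, rfl⟩ := exact₁ I 0 hS x (Subsingleton.elim _ _)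
    -- `z` comes from `H^0(E')`
    obtain ⟨e, he⟩ := Submodule.mkQ_surjective (LinearMap.range j) (γ I z)
    obtain ⟨n, hn⟩ := htE' e
    obtain ⟨y', hy'⟩ := exists_γ_eq I (M := (sesOfInjective j).X₂) e ⟨n, hn⟩
    have : Hmap I 0 (sesOfInjective j).g y' = z := by
      apply γ_injective I
      rw [γ_naturality, hy']
      exact he
    rw [← this, δ_Hmap_g]
  | succ i ih =>
    obtain ⟨E', j, hj, hE', htE', htC⟩ := exists_embedding I T hT
    have hS := sesOfInjective_shortExact j hj
    have hsub : Subsingleton ((localCohomology I (i + 1 + 1)).obj (sesOfInjective j).X₂) :=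
      subsingleton_of_injective I (i + 1) E'
    have hC : Subsingleton ((localCohomology I (i + 1)).obj (sesOfInjective j).X₃) := ih _ htC
    suffices h : ∀ x : (localCohomology I (i + 1 + 1)).obj (ModuleCat.of R T), x = 0 from
      ⟨fun x y => (h x).trans (h y).symm⟩
    intro x
    obtain ⟨z, rfl⟩ := exact₁ I (i + 1) hS x (Subsingleton.elim _ _)
    rw [Subsingleton.elim z 0, map_zero]

end TorsionVanishing

end Groth.Agent.Lib.Helper92.LC
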