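import Groth.Agent.Lib.Helper92.LocCohTopSurj
import Mathlib.RingTheory.Ideal.AssociatedPrime.Finiteness

open CategoryTheory CategoryTheory.Limits Opposite
open scoped Pointwise

namespace Groth.Agent.Lib.Helper92.LC

universe u

section NonzeroMap
variable (R : Type u) [CommRing R] [IsNoetherianRing R]

theorem smul_quot_mk {R : Type u} [CommRing R] (J : Ideal R) (a x : R) :
    a • (Ideal.Quotient.mk J x) = Ideal.Quotient.mk J (a * x) := rfl

/-- a finite module over a Noetherian ring admits a nonzero map to `R ⧸ p` for every prime `p`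
of its support. -/
theorem exists_linearMap_ne_zero (p : PrimeSpectrum R)
    (M : Type u) [AddCommGroup M] [Module R M] [Module.Finite R M] :
    p ∈ Module.support R M → ∃ ψ : M →ₗ[R] R ⧸ p.asIdeal, ψ ≠ 0 := by
  induction ‹Module.Finite R M› using
    IsNoetherianRing.induction_on_isQuotientEquivQuotientPrime R with
  | subsingleton N =>
    intro hp
    rw [Module.support_eq_empty] at hp
    exact absurd hp (Set.notMem_empty _)
  | quotient N q e =>
    intro hp
    have hqp : q.asIdeal ≤ p.asIdeal := by
      rw [e.support_eq, Module.support_eq_zeroLocus, Ideal.annihilator_quotient] at hp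
      exact hp
    refine ⟨(Submodule.mapQ q.asIdeal p.asIdeal LinearMap.id
      (by rw [Submodule.comap_id]; exact hqp)) ∘ₗ e.toLinearMap, ?_⟩
    intro h
    have h1 := LinearMap.congr_fun h (e.symm 1)
    simp only [LinearMap.coe_comp, LinearEquiv.coe_coe, Function.comp_apply,
      LinearEquiv.apply_symm_apply, LinearMap.zero_apply] at h1
    have h2 : (Ideal.Quotient.mk p.asIdeal 1 : R ⧸ p.asIdeal) = 0 := h1
    rw [Ideal.Quotient.eq_zero_iff_mem] at h2
    exact p.isPrime.ne_top ((Ideal.eq_top_iff_one _).2 h2)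
  | exact N₁ N₂ N₃ f g hf hg hfg h₁ h₃ =>
    intro hp
    by_cases h3 : p ∈ Module.support R N₃
    · obtain ⟨ψ, hψ⟩ := h₃ h3
      refine ⟨ψ ∘ₗ g, ?_⟩
      intro h
      apply hψ
      ext x
      obtain ⟨y, rfl⟩ := hg x
      exact LinearMap.congr_fun h y
    · have h1 : p ∈ Module.support R N₁ := by
        rw [Module.support_of_exact hfg hf hg] at hp
        exact hp.resolve_right h3
      obtain ⟨ψ, hψ⟩ := h₁ h1
      rw [Module.mem_support_iff_of_finite] at h3
      obtain ⟨s, hs, hsp⟩ := Set.not_subset.1 h3
      have hmem : ∀ x : N₂, ∃ y : N₁, f y = s • x := by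
        intro x
        have : g (s • x) = 0 := by
          rw [map_smul]
          exact Module.mem_annihilator.1 hs _
        exact (hfg (s • x)).1 this
      choose σ hσ using hmem
      have hσf : ∀ y, σ (f y) = s • y := fun y => hf (by rw [hσ, map_smul])
      let σ' : N₂ →ₗ[R] N₁ :=
        { toFun := σ
          map_add' := fun x y => hf (by rw [map_add, hσ, hσ, hσ, smul_add])
          map_smul' := fun r x => hf (by
            rw [map_smul, hσ, hσ, RingHom.id_apply, smul_comm]) }
      refine ⟨ψ ∘ₗ σ', ?_⟩
      intro h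
      apply hψ
      ext y
      have h4 := LinearMap.congr_fun h (f y)
      have h5 : ψ (σ (f y)) = 0 := h4
      rw [hσf, map_smul] at h5
      obtain ⟨r, hr⟩ := Ideal.Quotient.mk_surjective (ψ y)
      rw [LinearMap.zero_apply, ← hr]
      rw [← hr, smul_quot_mk, Ideal.Quotient.eq_zero_iff_mem] at h5
      rw [Ideal.Quotient.eq_zero_iff_mem]
      exact (p.isPrime.mem_or_mem h5).resolve_left hsp

end NonzeroMap

section Dim
variable {R : Type u} [CommRing R]

/-- a set of primes none of which is a minimal prime of maximal dimension has dimension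
`< dim R`. -/
theorem krullDim_lt_of_not_minimal (d : ℕ) (hd : ringKrullDim R = d) (Z : Set (PrimeSpectrum R))
    (hZ : ∀ z ∈ Z, z.asIdeal ∈ minimalPrimes R → ringKrullDim (R ⧸ z.asIdeal) ≠ d) :
    Order.krullDim Z < (d : WithBot ℕ∞) := by
  rw [Order.krullDim_lt_coe_iff]
  intro l
  obtain ⟨p, hp, hp'⟩ := Ideal.exists_minimalPrimes_le (J := l.head.1.asIdeal) bot_le
  let p' : PrimeSpectrum R := ⟨p, hp.1.1⟩
  have hle : p' ≤ l.head.1 := hp'
  rcases lt_or_eq_of_le hle with hlt | heq
  · have h1 := Order.LTSeries.length_le_krullDim ((l.map Subtype.val (fun _ _ h => h)).cons p' hlt)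
    rw [← ringKrullDim, hd] at h1
    have h2 : ((l.map Subtype.val (fun _ _ h => h)).cons p' hlt).length = l.length + 1 := by
      change 0 + l.length + 1 = l.length + 1
      omega
    rw [h2] at h1
    have : l.length + 1 ≤ d := by exact_mod_cast h1
    omega
  · have hmin : l.head.1.asIdeal ∈ minimalPrimes R := by
      rw [← heq]
      exact hp
    have hne := hZ l.head.1 l.head.2 hmin
    have hle' : ringKrullDim (R ⧸ l.head.1.asIdeal) ≤ d := hd ▸ ringKrullDim_quotient_le _
    have hlt' : ringKrullDim (R ⧸ l.head.1.asIdeal) < d := lt_of_le_of_ne hle' hne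
    rw [ringKrullDim_quotient, Order.krullDim_lt_coe_iff] at hlt'
    have hmem : ∀ x : Z, l.head ≤ x →
        x.1 ∈ PrimeSpectrum.zeroLocus (l.head.1.asIdeal : Set R) := by
      intro x hx
      rw [PrimeSpectrum.mem_zeroLocus]
      exact hx
    let l' : LTSeries (PrimeSpectrum.zeroLocus (R := R) (l.head.1.asIdeal : Set R)) :=
      { length := l.length
        toFun := fun k => ⟨(l k).1, hmem (l k) (LTSeries.head_le l k)⟩
        step := fun k => l.step k }
    exact hlt' l'

end Dim

section Top
variable {R : Type u} [CommRing R] [IsNoetherianRing R] (I : Ideal R)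

/-- if the top local cohomology of a finite module `M` vanishes, then so does that of `R ⧸ p`
for each `p ∈ Supp M`. -/
theorem subsingleton_top_of_mem_support (d : ℕ) (hd : ringKrullDim R = d)
    (M : Type u) [AddCommGroup M] [Module R M] [Module.Finite R M]
    (hvan : Subsingleton ((localCohomology I d).obj (ModuleCat.of R M)))
    (p : PrimeSpectrum R) (hp : p ∈ Module.support R M) :
    Subsingleton ((localCohomology I d).obj (ModuleCat.of R (R ⧸ p.asIdeal))) := by
  obtain ⟨ψ, hψ⟩ := exists_linearMap_ne_zero R p M hp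
  have hS₁ := LinearMap.shortExact_shortComplexKer (LinearMap.surjective_rangeRestrict ψ)
  have hS₂ := sesOfInjective_shortExact (LinearMap.range ψ).subtype
    (Submodule.injective_subtype _)
  have hK : Subsingleton ((localCohomology I (d + 1)).obj
      (LinearMap.shortComplexKer ψ.rangeRestrict).X₁) :=
    cdLE_of_ringKrullDim_le I d (le_of_eq hd) _ (d + 1) (Nat.lt_succ_self d)
  have hQ : Subsingleton ((localCohomology I d).obj
      (sesOfInjective (LinearMap.range ψ).subtype).X₃) := by
    apply subsingleton_of_supportDim_lt I d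
    apply krullDim_lt_of_not_minimal d hd
    intro z hz hzmin
    exfalso
    obtain ⟨m, hm⟩ : ∃ m, ψ m ≠ 0 := by
      by_contra h
      exact hψ (LinearMap.ext fun m => by
        by_contra h'
        exact h ⟨m, h'⟩)
    obtain ⟨r, hr⟩ := Ideal.Quotient.mk_surjective (ψ m)
    have hrp : r ∉ p.asIdeal := fun h =>
      hm (by rw [← hr]; exact Ideal.Quotient.eq_zero_iff_mem.2 h)
    have hann : ∀ a ∈ p.asIdeal ⊔ Ideal.span {r},
        a ∈ Module.annihilator R ((R ⧸ p.asIdeal) ⧸ LinearMap.range (LinearMap.range ψ).subtype) := by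
      intro a ha
      rw [Module.mem_annihilator]
      intro x
      obtain ⟨x, rfl⟩ := Submodule.mkQ_surjective _ x
      obtain ⟨x, rfl⟩ := Ideal.Quotient.mk_surjective x
      rw [← map_smul]
      refine (Submodule.Quotient.mk_eq_zero _).2 ?_
      rw [Submodule.range_subtype]
      obtain ⟨b, hb, c, hc, rfl⟩ := Submodule.mem_sup.1 ha
      obtain ⟨c, rfl⟩ := Ideal.mem_span_singleton'.1 hc
      rw [add_smul]
      refine Submodule.add_mem _ ?_ ?_
      · have : b • (Ideal.Quotient.mk p.asIdeal x) = 0 := by
          rw [smul_quot_mk, Ideal.Quotient.eq_zero_iff_mem]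
          exact Ideal.mul_mem_right _ _ hb
        rw [this]
        exact Submodule.zero_mem _
      · have : (c * r) • (Ideal.Quotient.mk p.asIdeal x) = (c * x) • ψ m := by
          rw [← hr, smul_quot_mk, smul_quot_mk]
          congr 1
          ring
        rw [this, ← map_smul]
        exact ⟨_, rfl⟩
    have hz' := Module.annihilator_le_of_mem_support hz
    have hpz : p.asIdeal ≤ z.asIdeal := fun a ha => hz' (hann a (Submodule.mem_sup_left ha))
    have hrz : r ∈ z.asIdeal :=
      hz' (hann r (Submodule.mem_sup_right (Ideal.mem_span_singleton_self r)))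
    have : z.asIdeal ≤ p.asIdeal := hzmin.2 ⟨p.isPrime, bot_le⟩ hpz
    exact hrp (this hrz)
  refine ⟨fun y y' => ?_⟩
  suffices h : ∀ y : (localCohomology I d).obj (ModuleCat.of R (R ⧸ p.asIdeal)), y = 0 from
    (h y).trans (h y').symm
  intro y
  obtain ⟨w, rfl⟩ := exact₂ I d hS₂ y (Subsingleton.elim _ _)
  obtain ⟨v, rfl⟩ := exact₃ I d hS₁ w (Subsingleton.elim _ _)
  rw [Subsingleton.elim v 0, map_zero, map_zero]

end Top

end Groth.Agent.Lib.Helper92.LC
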