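import Groth.Agent.Lib.Helper92.LocCohGV
import Mathlib.RingTheory.KrullDimension.NonZeroDivisors

open CategoryTheory CategoryTheory.Limits Opposite
open scoped Pointwise

namespace Groth.Agent.Lib.Helper92.LC

universe u v
variable {R : Type u} [CommRing R]

/-- if `f` avoids the minimal primes of maximal dimension and lies in every prime of `Supp N`,
then `dim Supp N < dim R`. -/
theorem supportDim_lt_of_mem (d : ℕ) (hd : ringKrullDim R = d) (f : R)
    (hf : ∀ p ∈ minimalPrimes R, ringKrullDim (R ⧸ p) = d → f ∉ p)
    (N : Type v) [AddCommGroup N] [Module R N]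
    (hN : ∀ q ∈ Module.support R N, f ∈ q.asIdeal) :
    Module.supportDim R N < (d : WithBot ℕ∞) := by
  rw [Module.supportDim, Order.krullDim_lt_coe_iff]
  intro l
  obtain ⟨p, hp, hp'⟩ := Ideal.exists_minimalPrimes_le (J := l.head.1.asIdeal) bot_le
  let p' : PrimeSpectrum R := ⟨p, hp.1.1⟩
  have hle : p' ≤ l.head.1 := hp'
  rcases lt_or_eq_of_le hle with hlt | heq
  · have h1 := Order.LTSeries.length_le_krullDim ((l.map Subtype.val (fun _ _ h => h)).cons p' hlt)
    rw [← ringKrullDim, hd] at h1
    have h2 : ((l.map Subtype.val (fun _ _ h => h)).cons p' hlt).length = l.length + 1 := by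
      change 0 + l.length + 1 = l.length + 1
      omega
    rw [h2] at h1
    have : l.length + 1 ≤ d := by exact_mod_cast h1
    omega
  · have hfp : f ∈ p := by
      have := hN l.head.1 l.head.2
      rw [← heq] at this
      exact this
    have hne : ringKrullDim (R ⧸ p) ≠ d := fun h => hf p hp h hfp
    have hle' : ringKrullDim (R ⧸ p) ≤ d := hd ▸ ringKrullDim_quotient_le p
    have hlt' : ringKrullDim (R ⧸ p) < d := lt_of_le_of_ne hle' hne
    rw [ringKrullDim_quotient, Order.krullDim_lt_coe_iff] at hlt'
    have hmem : ∀ x : Module.support R N, l.head ≤ x → x.1 ∈ PrimeSpectrum.zeroLocus (p : Set R) := by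
      intro x hx
      rw [PrimeSpectrum.mem_zeroLocus]
      have h2 : p' ≤ x.1 := heq ▸ hx
      exact h2
    let l' : LTSeries (PrimeSpectrum.zeroLocus (R := R) (p : Set R)) :=
      { length := l.length
        toFun := fun k => ⟨(l k).1, hmem (l k) (LTSeries.head_le l k)⟩
        step := fun k => l.step k }
    exact hlt' l'

end Groth.Agent.Lib.Helper92.LC

namespace Groth.Agent.Lib.Helper92.LC

universe u
variable {R : Type u} [CommRing R] [IsNoetherianRing R] (I : Ideal R)

/-- multiplication by `f` is surjective on the top local cohomology `H^d_I(M)` (`d = dim R`,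
`M` finite) when `f` avoids the minimal primes of maximal dimension. -/
theorem smul_surjective_top (d : ℕ) (hd : ringKrullDim R = d) (f : R)
    (hf : ∀ p ∈ minimalPrimes R, ringKrullDim (R ⧸ p) = d → f ∉ p)
    (M : Type u) [AddCommGroup M] [Module R M] [Module.Finite R M] :
    Function.Surjective (fun x : (localCohomology I d).obj (ModuleCat.of R M) => f • x) := by
  let φ : M →ₗ[R] M := LinearMap.lsmul R M f
  have hS₁ := LinearMap.shortExact_shortComplexKer (LinearMap.surjective_rangeRestrict φ)
  have hS₂ := sesOfInjective_shortExact (LinearMap.range φ).subtype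
    (Submodule.injective_subtype _)
  -- vanishing inputs
  have hK : Subsingleton ((localCohomology I (d + 1)).obj
      (LinearMap.shortComplexKer φ.rangeRestrict).X₁) :=
    cdLE_of_ringKrullDim_le I d (le_of_eq hd) _ (d + 1) (Nat.lt_succ_self d)
  have hQ : Subsingleton ((localCohomology I d).obj
      (sesOfInjective (LinearMap.range φ).subtype).X₃) := by
    apply subsingleton_of_supportDim_lt I d
    apply supportDim_lt_of_mem d hd f hf
    intro q hq
    apply Module.annihilator_le_of_mem_support hq
    rw [Module.mem_annihilator]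
    intro x
    obtain ⟨m, rfl⟩ := Submodule.mkQ_surjective _ x
    rw [← map_smul]
    refine (Submodule.Quotient.mk_eq_zero _).2 ?_
    rw [Submodule.range_subtype]
    exact ⟨m, rfl⟩
  intro y
  obtain ⟨w, rfl⟩ := exact₂ I d hS₂ y (Subsingleton.elim _ _)
  obtain ⟨v, rfl⟩ := exact₃ I d hS₁ w (Subsingleton.elim _ _)
  refine ⟨v, ?_⟩
  change f • v = _
  rw [← Hmap_smul_id]
  have hcomp : f • 𝟙 (ModuleCat.of R M) =
      (LinearMap.shortComplexKer φ.rangeRestrict).g ≫
        (sesOfInjective (LinearMap.range φ).subtype).f := by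
    ext m
    rfl
  rw [hcomp]
  change _ = ((localCohomology I d).map _ ≫ (localCohomology I d).map _).hom v
  rw [← Functor.map_comp]

end Groth.Agent.Lib.Helper92.LC
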