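import Groth.Agent.Lib.Helper92.LocCohDepth
import Groth.Prelude.Def_DualLC

open CategoryTheory CategoryTheory.Limits Opposite

namespace Groth.Agent.Lib.Helper92.LC

open Groth.Agent.Lib.Helper92.OldExt

universe u
variable {R : Type u} [CommRing R] {I I' : Ideal R} (h : I ≤ I') (i : ℕ)

/-- the surjection `R/I^t → R/I'^t` -/
def qmap (t : ℕ) : Q I t ⟶ Q I' t :=
  ModuleCat.ofHom (Submodule.mapQ (I ^ t) (I' ^ t) LinearMap.id
    (by simpa using Ideal.pow_right_mono h t))

/-- the comparison map `H^i_{I'}(M) → H^i_I(M)` as a linear map -/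
noncomputable abbrev cmp (M : ModuleCat.{u} R) :
    (localCohomology I' i).obj M →ₗ[R] (localCohomology I i).obj M :=
  ((Dual2.HmapOfLE h i).app M).hom

theorem cmp_mkOld {M : ModuleCat.{u} R} (t : ℕ)
    (x : ((Ext R (ModuleCat.{u} R) i).obj (op (Q I' t))).obj M) :
    cmp h i M (mkOld I' i t x) =
      mkOld I i t ((((Ext R (ModuleCat.{u} R) i).map (qmap h t).op).app M).hom x) := by
  have := ι_colimMap (Functor.whiskerRight (NatTrans.op (Dual2.quotMapOfLE h))
    (Ext R (ModuleCat.{u} R) i)) (op (op t))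
  have h2 := congrArg (fun g => (g.app M).hom x) this
  exact h2

theorem cmp_mk {M : ModuleCat.{u} R} (t : ℕ) (x : Abelian.Ext.{u} (Q I' t) M i) :
    cmp h i M (mk I' i t x) = mk I i t ((Abelian.Ext.mk₀ (qmap h t)).comp x (zero_add i)) := by
  unfold mk
  rw [cmp_mkOld]
  congr 1
  apply (Φ (R := R) (Q I t) M i).injective
  rw [Φ_naturality_left, LinearEquiv.apply_symm_apply, LinearEquiv.apply_symm_apply]

theorem cmp_naturality {M N : ModuleCat.{u} R} (φ : M ⟶ N) (y : (localCohomology I' i).obj M) :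
    cmp h i N (Hmap I' i φ y) = Hmap I i φ (cmp h i M y) := by
  have := (Dual2.HmapOfLE h i).naturality φ
  exact congrArg (fun g => g.hom y) this

theorem cmp_δ {S : ShortComplex (ModuleCat.{u} R)} (hS : S.ShortExact)
    (z : (localCohomology I' i).obj S.X₃) :
    cmp h (i + 1) S.X₁ (δ I' i hS z) = δ I i hS (cmp h i S.X₃ z) := by
  obtain ⟨t, x, rfl⟩ := exists_rep I' i z
  rw [δ_mk, cmp_mk, cmp_mk, δ_mk]
  congr 1
  rw [Abelian.Ext.comp_assoc _ _ _ (zero_add i) rfl (by omega)]

end Groth.Agent.Lib.Helper92.LC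

namespace Groth.Agent.Lib.Helper92.LC

open Groth.Agent.Lib.Helper92.OldExt

universe u
variable {R : Type u} [CommRing R] {I I' : Ideal R} (h : I ≤ I')

section DegreeZero

variable {M : ModuleCat.{u} R}

theorem one_qmap (t : ℕ) : (qmap h t).hom (one I t) = one I' t := rfl

theorem γ_cmp (y : (localCohomology I' 0).obj M) : γ I (cmp h 0 M y) = γ I' y := by
  obtain ⟨t, φ, rfl⟩ := exists_rep₀ I' y
  rw [cmp_mk, Abelian.Ext.mk₀_comp_mk₀, γ_mk, γ_mk]
  rfl

theorem cmp_zero_injective : Function.Injective (cmp h 0 M) := by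
  intro y y' hyy
  apply γ_injective I'
  rw [← γ_cmp h, ← γ_cmp h, hyy]

theorem cmp_zero_surjective (hΓ : DRing.torsionSub I M ≤ DRing.torsionSub I' M) :
    Function.Surjective (cmp h 0 M) := by
  intro y
  obtain ⟨y', hy'⟩ := exists_γ_eq I' (γ I y) (hΓ (γ_mem I y))
  refine ⟨y', ?_⟩
  apply γ_injective I
  rw [γ_cmp, hy']

end DegreeZero

section ClassComparison

/-- Comparison theorem: if a class `P` of modules has enough injectives inside the class
(with cokernels in the class) and `Γ_I = Γ_{I'}` on the class, then the comparison maps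
`H^i_{I'}(T) → H^i_I(T)` are bijective for all `T` in the class. -/
theorem cmp_bijective_of_class (P : ModuleCat.{u} R → Prop)
    (hemb : ∀ T, P T → ∃ S : ShortComplex (ModuleCat.{u} R),
      S.ShortExact ∧ S.X₁ = T ∧ Injective S.X₂ ∧ P S.X₂ ∧ P S.X₃)
    (hΓ : ∀ T, P T → DRing.torsionSub I T ≤ DRing.torsionSub I' T) (i : ℕ) :
    ∀ T, P T → Function.Bijective (cmp h i T) := by
  induction i with
  | zero => exact fun T hT => ⟨cmp_zero_injective h, cmp_zero_surjective h (hΓ T hT)⟩
  | succ i ih =>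
    intro T hT
    obtain ⟨S, hS, rfl, hE, hPE, hPC⟩ := hemb T hT
    have hE' : Subsingleton ((localCohomology I' (i + 1)).obj S.X₂) :=
      subsingleton_of_injective I' i S.X₂
    have hE1 : Subsingleton ((localCohomology I (i + 1)).obj S.X₂) :=
      subsingleton_of_injective I i S.X₂
    constructor
    · rw [injective_iff_map_eq_zero]
      intro x' hx'
      obtain ⟨z', rfl⟩ := exact₁ I' i hS x' (Subsingleton.elim _ _)
      rw [cmp_δ] at hx'
      obtain ⟨y, hy⟩ := exact₃ I i hS _ hx'
      obtain ⟨y', rfl⟩ := (ih S.X₂ hPE).2 y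
      rw [← cmp_naturality] at hy
      have := (ih S.X₃ hPC).1 hy
      rw [← this, δ_Hmap_g]
    · intro x
      obtain ⟨z, rfl⟩ := exact₁ I i hS x (Subsingleton.elim _ _)
      obtain ⟨z', rfl⟩ := (ih S.X₃ hPC).2 z
      exact ⟨δ I' i hS z', cmp_δ h i hS z'⟩

end ClassComparison

end Groth.Agent.Lib.Helper92.LC

namespace Groth.Agent.Lib.Helper92.LC

open Groth.Agent.Lib.Helper92.OldExt

universe u
variable {R : Type u} [CommRing R] (I : Ideal R)

section XTorsion

variable (x : R)

theorem torsionSub_le_sup_of_isPowerTorsion (T : Type u) [AddCommGroup T] [Module R T]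
    (hT : LocCoh.IsPowerTorsion (Ideal.span {x}) T) :
    DRing.torsionSub I T ≤ DRing.torsionSub (I ⊔ Ideal.span {x}) T := by
  rintro m ⟨n, hn⟩
  obtain ⟨k, hk⟩ := hT m
  refine ⟨n + k, fun a ha => ?_⟩
  have := Ideal.sup_pow_add_le_pow_sup_pow ha
  obtain ⟨a₁, ha₁, a₂, ha₂, rfl⟩ := Submodule.mem_sup.1 this
  rw [add_smul, hn a₁ ha₁, hk a₂ ha₂, add_zero]

/-- For an `x`-power-torsion module `T`, `H^i_{I + xR}(T) → H^i_I(T)` is bijective. -/
theorem cmp_bijective_of_isPowerTorsion [IsNoetherianRing R] (i : ℕ) (T : ModuleCat.{u} R)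
    (hT : LocCoh.IsPowerTorsion (Ideal.span {x}) T) :
    Function.Bijective (cmp (le_sup_left : I ≤ I ⊔ Ideal.span {x}) i T) := by
  refine cmp_bijective_of_class _ (fun T => LocCoh.IsPowerTorsion (Ideal.span {x}) T) ?_ ?_ i T hT
  · intro T hT
    obtain ⟨E', j, hj, hE', htE', htC⟩ := exists_embedding (Ideal.span {x}) T hT
    exact ⟨sesOfInjective j, sesOfInjective_shortExact j hj, rfl, hE', htE', htC⟩
  · intro T hT
    exact torsionSub_le_sup_of_isPowerTorsion I x T hT

end XTorsion

section Invertible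

/-- If `x ∈ I` acts bijectively on `N`, then `H^i_I(N) = 0`. -/
theorem subsingleton_of_smul_bijective (i : ℕ) (N : ModuleCat.{u} R) (x : R) (hx : x ∈ I)
    (hbij : Function.Bijective (fun n : N => x • n)) :
    Subsingleton ((localCohomology I i).obj N) := by
  have hiso : IsIso (x • 𝟙 N) := by
    rw [ConcreteCategory.isIso_iff_bijective]
    exact hbij
  have hinj : ∀ y : (localCohomology I i).obj N, x • y = 0 → y = 0 := by
    intro y hy
    rw [← Hmap_smul_id] at hy
    have h1 : Hmap I i (inv (x • 𝟙 N)) (Hmap I i (x • 𝟙 N) y) = y := by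
      change ((localCohomology I i).map (x • 𝟙 N) ≫ (localCohomology I i).map (inv (x • 𝟙 N))).hom y = y
      rw [← Functor.map_comp, IsIso.hom_inv_id, CategoryTheory.Functor.map_id]
      rfl
    rw [← h1, hy, map_zero]
  refine ⟨fun y y' => ?_⟩
  suffices h : ∀ y : (localCohomology I i).obj N, y = 0 from (h y).trans (h y').symm
  intro y
  obtain ⟨t, ht⟩ := exists_pow_smul_eq_zero I i y
  have hxt := ht (x ^ t) (Ideal.pow_mem_pow hx t)
  clear ht
  induction t with
  | zero => simpa using hxt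
  | succ t iht =>
    apply iht
    apply hinj
    rw [← mul_smul, ← pow_succ']
    exact hxt

end Invertible

end Groth.Agent.Lib.Helper92.LC

namespace Groth.Agent.Lib.Helper92.LC

universe u
variable {R : Type u} [CommRing R] (I : Ideal R)

section LocSES

variable (x : R) (M : Type u) [AddCommGroup M] [Module R M]

theorem isPowerTorsion_span_singleton {T : Type u} [AddCommGroup T] [Module R T]
    (hT : ∀ m : T, ∃ k : ℕ, x ^ k • m = 0) : LocCoh.IsPowerTorsion (Ideal.span {x}) T := by
  intro m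
  obtain ⟨k, hk⟩ := hT m
  refine ⟨k, fun a ha => ?_⟩
  rw [Ideal.span_singleton_pow, Ideal.mem_span_singleton'] at ha
  obtain ⟨b, rfl⟩ := ha
  rw [mul_smul, hk, smul_zero]

/-- the localization map `M → M_x` -/
noncomputable abbrev locMap : M →ₗ[R] LocalizedModule (Submonoid.powers x) M :=
  LocalizedModule.mkLinearMap (Submonoid.powers x) M

/-- `0 → ker → M → im → 0` for `M → M_x`. -/
noncomputable abbrev sesLoc₁ : ShortComplex (ModuleCat.{u} R) :=
  ModuleCat.shortComplexOfCompEqZero (LinearMap.ker (locMap x M)).subtype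
    (locMap x M).rangeRestrict (by
      ext m
      exact m.2)

theorem sesLoc₁_shortExact : (sesLoc₁ x M).ShortExact := by
  refine ModuleCat.shortComplex_shortExact _ ?_ (Submodule.injective_subtype _)
    (LinearMap.surjective_rangeRestrict _)
  intro m
  constructor
  · intro hm
    have : locMap x M m = 0 := congrArg Subtype.val hm
    exact ⟨⟨m, this⟩, rfl⟩
  · rintro ⟨⟨m', hm'⟩, rfl⟩
    exact Subtype.ext hm'

/-- `0 → im → M_x → M_x/im → 0` for `M → M_x`. -/
noncomputable abbrev sesLoc₂ : ShortComplex (ModuleCat.{u} R) :=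
  sesOfInjective (LinearMap.range (locMap x M)).subtype

theorem sesLoc₂_shortExact : (sesLoc₂ x M).ShortExact :=
  sesOfInjective_shortExact _ (Submodule.injective_subtype _)

theorem isPowerTorsion_ker_locMap :
    LocCoh.IsPowerTorsion (Ideal.span {x}) (LinearMap.ker (locMap x M)) := by
  apply isPowerTorsion_span_singleton
  rintro ⟨m, hm⟩
  obtain ⟨⟨_, k, rfl⟩, hc⟩ :=
    (IsLocalizedModule.eq_zero_iff (Submonoid.powers x) (locMap x M)).1 hm
  exact ⟨k, Subtype.ext hc⟩

theorem isPowerTorsion_coker_locMap :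
    LocCoh.IsPowerTorsion (Ideal.span {x}) (sesLoc₂ x M).X₃ := by
  apply isPowerTorsion_span_singleton
  intro q
  obtain ⟨l, rfl⟩ := Submodule.mkQ_surjective _ q
  obtain ⟨⟨m, ⟨_, k, rfl⟩⟩, hm⟩ := IsLocalizedModule.surj (Submonoid.powers x) (locMap x M) l
  refine ⟨k, ?_⟩
  rw [← map_smul]
  refine (Submodule.Quotient.mk_eq_zero _).2 ?_
  rw [Submodule.range_subtype]
  exact ⟨m, hm.symm⟩

theorem smul_bijective_localizedModule :
    Function.Bijective (fun n : LocalizedModule (Submonoid.powers x) M => x • n) := by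
  have := IsLocalizedModule.map_units (locMap x M) ⟨x, Submonoid.mem_powers x⟩
  exact (Module.End.isUnit_iff _).1 this

end LocSES

section CD

variable [IsNoetherianRing R]

theorem cdLE_sup_span_singleton (r : ℕ) (hI : LocCoh.CdLE R I r) (x : R) :
    LocCoh.CdLE R (I ⊔ Ideal.span {x}) (r + 1) := by
  intro M _ _ i hi
  obtain ⟨i', rfl⟩ : ∃ i', i = i' + 1 := ⟨i - 1, by omega⟩
  have hxI : x ∈ I ⊔ Ideal.span {x} :=
    Ideal.mem_sup_right (Ideal.subset_span (Set.mem_singleton x))
  -- vanishing for x-torsion modules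
  have htors : ∀ (j : ℕ) (T : ModuleCat.{u} R), r < j →
      LocCoh.IsPowerTorsion (Ideal.span {x}) T →
      Subsingleton ((localCohomology (I ⊔ Ideal.span {x}) j).obj T) := by
    intro j T hj hT
    have hbij := cmp_bijective_of_isPowerTorsion I x j T hT
    have : Subsingleton ((localCohomology I j).obj T) := hI T j hj
    exact hbij.1.subsingleton
  have hS₁ := sesLoc₁_shortExact x M
  have hS₂ := sesLoc₂_shortExact x M
  have hK := htors (i' + 1) (sesLoc₁ x M).X₁ (by omega) (isPowerTorsion_ker_locMap x M)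
  have hT := htors i' (sesLoc₂ x M).X₃ (by omega) (isPowerTorsion_coker_locMap x M)
  have hL : Subsingleton ((localCohomology (I ⊔ Ideal.span {x}) (i' + 1)).obj (sesLoc₂ x M).X₂) :=
    subsingleton_of_smul_bijective _ (i' + 1) _ x hxI (smul_bijective_localizedModule x M)
  have hMbar : ∀ w : (localCohomology (I ⊔ Ideal.span {x}) (i' + 1)).obj (sesLoc₁ x M).X₃,
      w = 0 := by
    intro w
    obtain ⟨z, rfl⟩ := exact₁ _ i' hS₂ w (Subsingleton.elim _ _)
    rw [Subsingleton.elim z 0, map_zero]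
  refine ⟨fun y y' => ?_⟩
  suffices h : ∀ y : (localCohomology (I ⊔ Ideal.span {x}) (i' + 1)).obj (sesLoc₁ x M).X₂,
      y = 0 from (h y).trans (h y').symm
  intro y
  obtain ⟨w, rfl⟩ := exact₂ _ (i' + 1) hS₁ y (hMbar _)
  rw [Subsingleton.elim w 0, map_zero]

end CD

end Groth.Agent.Lib.Helper92.LC

namespace Groth.Agent.Lib.Helper92.LC

universe u
variable {R : Type u} [CommRing R]

theorem cdLE_bot : LocCoh.CdLE R (⊥ : Ideal R) 0 := by
  intro M _ _ i hi
  obtain ⟨i', rfl⟩ : ∃ i', i = i' + 1 := ⟨i - 1, by omega⟩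
  refine ⟨fun y y' => ?_⟩
  suffices h : ∀ y : (localCohomology (⊥ : Ideal R) (i' + 1)).obj (ModuleCat.of R M), y = 0 from
    (h y).trans (h y').symm
  intro y
  obtain ⟨t, a, rfl⟩ := exists_rep _ (i' + 1) y
  rw [mk_eq_zero_iff]
  refine ⟨t + 1, Nat.le_succ t, ?_⟩
  have hproj : Module.Projective R (R ⧸ (⊥ : Ideal R) ^ (t + 1)) := by
    have hb : (⊥ : Ideal R) ^ (t + 1) = ⊥ := by
      rw [Ideal.bot_pow]; omega
    exact Module.Projective.of_equiv (Submodule.quotEquivOfEqBot _ hb).symm
  have : Projective (Q (⊥ : Ideal R) (t + 1)) :=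
    (IsProjective.iff_projective (R := R) _).1 hproj
  exact Abelian.Ext.eq_zero_of_projective _

theorem cdLE_span_finset [IsNoetherianRing R] (s : Finset R) :
    LocCoh.CdLE R (Ideal.span (s : Set R)) s.card := by
  classical
  induction s using Finset.induction_on with
  | empty =>
    rw [Finset.coe_empty, Ideal.span_empty, Finset.card_empty]
    exact cdLE_bot
  | insert a s ha ih =>
    rw [Finset.card_insert_of_notMem ha, Finset.coe_insert, Ideal.span_insert, sup_comm]
    exact cdLE_sup_span_singleton _ _ ih a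

end Groth.Agent.Lib.Helper92.LC
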