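import Mathlib.RingTheory.Artinian.Module
import Mathlib.RingTheory.Ideal.Operations
import Mathlib.RingTheory.Nilpotent.Lemmas
import Mathlib.Order.Irreducible
import Mathlib.RingTheory.Noetherian.Basic
import Mathlib.RingTheory.Finiteness.Ideal

/-!
# Prime avoidance for Artinian modules

A light version of Macdonald's secondary representation theory: if `A` is an Artinian module with
`I A = A` for a finitely generated ideal `I`, then there is `x ∈ I`, avoiding any given finite set
of primes not containing `I`, with `x A = A`.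
-/

namespace Groth.Agent.Lib.Helper92.ArtAvoid

universe u v
variable {R : Type u} [CommRing R] {A : Type v} [AddCommGroup A] [Module R A]

/-- `x` acts surjectively on the submodule `S`. -/
def SurjOn (x : R) (S : Submodule R A) : Prop := ∀ s ∈ S, ∃ s' ∈ S, x • s' = s

/-- `x` acts nilpotently on `S`. -/
def NilOn (x : R) (S : Submodule R A) : Prop := ∃ k : ℕ, ∀ s ∈ S, x ^ k • s = 0

theorem mem_radical_annihilator_iff (x : R) (S : Submodule R A) :
    x ∈ (Module.annihilator R S).radical ↔ NilOn x S := by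
  constructor
  · rintro ⟨k, hk⟩
    refine ⟨k, fun s hs => ?_⟩
    have := Module.mem_annihilator.1 hk ⟨s, hs⟩
    exact congrArg Subtype.val this
  · rintro ⟨k, hk⟩
    refine ⟨k, Module.mem_annihilator.2 fun s => ?_⟩
    exact Subtype.ext (hk s.1 s.2)

theorem smul_pow_apply (x : R) (S : Submodule R A) (n : ℕ) (s : S) :
    (((x • LinearMap.id : S →ₗ[R] S)) ^ n) s = x ^ n • s := by
  induction n generalizing s with
  | zero => simp
  | succ n ih =>
    rw [pow_succ, Module.End.mul_apply, ih, pow_succ]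
    simp [mul_smul]

theorem surjOn_or_nilOn [IsArtinian R A] (S : Submodule R A) (hS : SupIrred S) (x : R) :
    SurjOn x S ∨ NilOn x S := by
  have hev := (LinearMap.eventually_codisjoint_ker_pow_range_pow
    (x • LinearMap.id : S →ₗ[R] S)).and (Filter.eventually_ge_atTop 1)
  obtain ⟨n, hn, hn1⟩ := hev.exists
  have hsup : (LinearMap.ker ((x • LinearMap.id : S →ₗ[R] S) ^ n)).map S.subtype ⊔
      (LinearMap.range ((x • LinearMap.id : S →ₗ[R] S) ^ n)).map S.subtype = S := by
    rw [← Submodule.map_sup, hn.eq_top, Submodule.map_top, Submodule.range_subtype]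
  rcases hS.2 hsup with h | h
  · right
    refine ⟨n, fun s hs => ?_⟩
    rw [← h] at hs
    obtain ⟨s', hs', rfl⟩ := hs
    have h2 : ((x • LinearMap.id : S →ₗ[R] S) ^ n) s' = 0 := hs'
    rw [smul_pow_apply] at h2
    exact congrArg Subtype.val h2
  · left
    intro s hs
    rw [← h] at hs
    obtain ⟨s', hs', rfl⟩ := hs
    obtain ⟨s'', rfl⟩ := hs'
    rw [smul_pow_apply]
    obtain ⟨m, rfl⟩ : ∃ m, n = m + 1 := ⟨n - 1, by omega⟩
    refine ⟨x ^ m • (s'' : A), S.smul_mem _ s''.2, ?_⟩
    rw [smul_smul, ← pow_succ']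
    rfl

theorem SurjOn.pow {x : R} {S : Submodule R A} (h : SurjOn x S) (k : ℕ) : SurjOn (x ^ k) S := by
  induction k with
  | zero =>
    intro s hs
    exact ⟨s, hs, by simp⟩
  | succ k ih =>
    intro s hs
    obtain ⟨s', hs', rfl⟩ := ih s hs
    obtain ⟨s'', hs'', rfl⟩ := h s' hs'
    exact ⟨s'', hs'', by rw [pow_succ, mul_smul]⟩

theorem isPrime_radical_annihilator [IsArtinian R A] (S : Submodule R A) (hS : SupIrred S) :
    (Module.annihilator R S).radical.IsPrime := by
  rw [Ideal.isPrime_iff]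
  constructor
  · intro htop
    have h1 : (1 : R) ∈ (Module.annihilator R S).radical := by
      rw [htop]
      trivial
    obtain ⟨k, hk⟩ := (mem_radical_annihilator_iff 1 S).1 h1
    apply hS.1
    rw [isMin_iff_eq_bot, Submodule.eq_bot_iff]
    intro s hs
    simpa using hk s hs
  · intro x y hxy
    obtain ⟨k, hk⟩ := (mem_radical_annihilator_iff _ S).1 hxy
    rcases surjOn_or_nilOn S hS x with h | h
    · right
      rw [mem_radical_annihilator_iff]
      refine ⟨k, fun s hs => ?_⟩
      obtain ⟨s', hs', rfl⟩ := h.pow k s hs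
      rw [smul_smul, ← mul_pow, mul_comm]
      exact hk s' hs'
    · left
      exact (mem_radical_annihilator_iff x S).2 h

theorem surjOn_sup [DecidableEq (Submodule R A)] (s : Finset (Submodule R A)) (x : R)
    (h : ∀ S ∈ s, SurjOn x S) : SurjOn x (s.sup id) := by
  induction s using Finset.induction_on with
  | empty =>
    intro a ha
    rw [Finset.sup_empty, Submodule.mem_bot] at ha
    exact ⟨0, Submodule.zero_mem _, by rw [ha, smul_zero]⟩
  | insert S s hS ih =>
    intro a ha
    rw [Finset.sup_insert] at ha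
    obtain ⟨a₁, h₁, a₂, h₂, rfl⟩ := Submodule.mem_sup.1 ha
    obtain ⟨b₁, hb₁, rfl⟩ := h S (Finset.mem_insert_self _ _) a₁ h₁
    obtain ⟨b₂, hb₂, rfl⟩ := ih (fun T hT => h T (Finset.mem_insert_of_mem hT)) a₂ h₂
    refine ⟨b₁ + b₂, ?_, smul_add _ _ _⟩
    rw [Finset.sup_insert]
    exact Submodule.add_mem_sup hb₁ hb₂

theorem pow_smul_top (I : Ideal R) (hI : I • (⊤ : Submodule R A) = ⊤) (k : ℕ) :
    (I ^ k) • (⊤ : Submodule R A) = ⊤ := by
  induction k with
  | zero => simp
  | succ k ih => rw [pow_succ, Submodule.mul_smul, hI, ih]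

/-- **Prime avoidance for Artinian modules.** -/
theorem exists_smul_surjective [IsArtinian R A] (I : Ideal R) (hfg : I.FG)
    (hI : I • (⊤ : Submodule R A) = ⊤) (t : Finset (Ideal R)) (ht : ∀ q ∈ t, q.IsPrime)
    (htI : ∀ q ∈ t, ¬ I ≤ q) :
    ∃ x ∈ I, (∀ q ∈ t, x ∉ q) ∧ Function.Surjective (fun a : A => x • a) := by
  classical
  have hex : ∃ n : ℕ, ∃ s : Finset (Submodule R A),
      s.card = n ∧ s.sup id = ⊤ ∧ ∀ b ∈ s, SupIrred b := by
    obtain ⟨s, hs, hs'⟩ := exists_supIrred_decomposition (⊤ : Submodule R A)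
    exact ⟨s.card, s, rfl, hs, fun b hb => hs' hb⟩
  obtain ⟨s, hcard, hsup, hirr⟩ := Nat.find_spec hex
  have hmin : ∀ s' : Finset (Submodule R A), s'.sup id = ⊤ → (∀ b ∈ s', SupIrred b) →
      s.card ≤ s'.card := by
    intro s' h1 h2
    rw [hcard]
    exact Nat.find_min' hex ⟨s', rfl, h1, h2⟩
  by_contra hcon
  have hcon' : ∀ x ∈ I, (∀ q ∈ t, x ∉ q) → ¬ Function.Surjective (fun a : A => x • a) := by
    intro x hx h1 h2
    exact hcon ⟨x, hx, h1, h2⟩
  let u : Finset (Ideal R) := t ∪ s.image (fun S => (Module.annihilator R S).radical)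
  have hcover : (I : Set R) ⊆ ⋃ q ∈ (↑u : Set (Ideal R)), ((fun q : Ideal R => q) q : Set R) := by
    intro x hx
    by_cases h1 : ∀ q ∈ t, x ∉ q
    · have h2 := hcon' x hx h1
      have h3 : ∃ S ∈ s, ¬ SurjOn x S := by
        by_contra h3
        apply h2
        intro a
        have ha : a ∈ s.sup id := by
          rw [hsup]
          trivial
        have h4 : ∀ S ∈ s, SurjOn x S := by
          intro S hS
          by_contra h5
          exact h3 ⟨S, hS, h5⟩
        obtain ⟨b, _, hb⟩ := surjOn_sup s x h4 a ha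
        exact ⟨b, hb⟩
      obtain ⟨S, hSs, hS⟩ := h3
      have hnil := (surjOn_or_nilOn S (hirr S hSs) x).resolve_left hS
      simp only [Set.mem_iUnion]
      exact ⟨_, Finset.mem_coe.2 (Finset.mem_union_right _ (Finset.mem_image_of_mem _ hSs)),
        (mem_radical_annihilator_iff x S).2 hnil⟩
    · have h1' : ∃ q ∈ t, x ∈ q := by
        by_contra h5
        apply h1
        intro q hq hxq
        exact h5 ⟨q, hq, hxq⟩
      obtain ⟨q, hq, hxq⟩ := h1'
      simp only [Set.mem_iUnion]
      exact ⟨q, Finset.mem_coe.2 (Finset.mem_union_left _ hq), hxq⟩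
  have hprime : ∀ q ∈ u, q.IsPrime := by
    intro q hq
    rcases Finset.mem_union.1 hq with h | h
    · exact ht q h
    · obtain ⟨S, hS, rfl⟩ := Finset.mem_image.1 h
      exact isPrime_radical_annihilator S (hirr S hS)
  obtain ⟨q, hqu, hIq⟩ := (Ideal.subset_union_prime (R := R) (s := u) (f := fun q => q) ⊥ ⊥
    (fun q hq _ _ => hprime q hq)).1 hcover
  rcases Finset.mem_union.1 hqu with h | h
  · exact htI q h hIq
  · obtain ⟨S, hSs, rfl⟩ := Finset.mem_image.1 h
    obtain ⟨k, hk⟩ := Ideal.exists_pow_le_of_le_radical_of_fg hIq hfg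
    have hsplit : S ⊔ (s.erase S).sup id = ⊤ := by
      rw [← hsup]
      conv_rhs => rw [← Finset.insert_erase hSs, Finset.sup_insert]
      rfl
    have hB : (s.erase S).sup id = (⊤ : Submodule R A) := by
      rw [eq_top_iff, ← pow_smul_top I hI k, ← hsplit, Submodule.smul_sup]
      refine sup_le ?_ Submodule.smul_le_right
      rw [Submodule.smul_le]
      intro r hr n hn
      have := Module.mem_annihilator.1 (hk hr) ⟨n, hn⟩
      have h0 : r • n = 0 := congrArg Subtype.val this
      rw [h0]
      exact Submodule.zero_mem _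
    have h1 := hmin (s.erase S) hB (fun b hb => hirr b (Finset.mem_of_mem_erase hb))
    have h2 := Finset.card_erase_lt_of_mem hSs
    omega

end Groth.Agent.Lib.Helper92.ArtAvoid
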