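import Groth.Agent.Lib.Helper92.LocCohRightExact
import Groth.Agent.Lib.Helper92.ArtinianAvoid
import Groth.Agent.Lib.Helper92.LocCohH0
import Groth.Agent.S0817
import Mathlib.RingTheory.KrullDimension.Regular
import Mathlib.RingTheory.Nakayama

/-!
# Grothendieck's non-vanishing theorem

For a finite module `M` of dimension `n` over a Noetherian local ring `(R, m)`: `H^n_m(M) ≠ 0`.
-/

open CategoryTheory CategoryTheory.Limits Opposite
open scoped Pointwise

namespace Groth.Agent.Lib.Helper92.LC

universe u

section NonVan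
variable {R : Type u} [CommRing R] [IsNoetherianRing R] [IsLocalRing R]

/-- a finite module with zero-dimensional support over a Noetherian local ring is killed by a
power of the maximal ideal. -/
theorem exists_pow_le_annihilator_of_supportDim_le_zero (M : Type u) [AddCommGroup M] [Module R M]
    [Module.Finite R M] (h : Module.supportDim R M ≤ 0) :
    ∃ k : ℕ, IsLocalRing.maximalIdeal R ^ k ≤ Module.annihilator R M := by
  apply Ideal.exists_pow_le_of_le_radical_of_fg _ (IsNoetherian.noetherian _)
  rw [Ideal.radical_eq_sInf]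
  refine le_sInf ?_
  rintro p ⟨hp, hpp⟩
  have hpm : p ≤ IsLocalRing.maximalIdeal R := IsLocalRing.le_maximalIdeal hpp.ne_top
  rcases lt_or_eq_of_le hpm with hlt | heq
  · exfalso
    have hpS : (⟨p, hpp⟩ : PrimeSpectrum R) ∈ Module.support R M :=
      Module.mem_support_iff_of_finite.2 hp
    have hmS : IsLocalRing.closedPoint R ∈ Module.support R M :=
      Module.mem_support_mono (p := ⟨p, hpp⟩) hpm hpS
    have hpos : (0 : WithBot ℕ∞) < Module.supportDim R M := by
      rw [Module.supportDim, Order.krullDim_pos_iff]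
      exact ⟨⟨⟨p, hpp⟩, hpS⟩, ⟨IsLocalRing.closedPoint R, hmS⟩, hlt⟩
    exact absurd h (not_le.2 hpos)
  · exact heq.ge

theorem isPowerTorsion_of_supportDim_le_zero (M : Type u) [AddCommGroup M] [Module R M]
    [Module.Finite R M] (h : Module.supportDim R M ≤ 0) :
    LocCoh.IsPowerTorsion (IsLocalRing.maximalIdeal R) M := by
  obtain ⟨k, hk⟩ := exists_pow_le_annihilator_of_supportDim_le_zero M h
  intro e
  exact ⟨k, fun a ha => Module.mem_annihilator.1 (hk ha) e⟩

omit [IsNoetherianRing R] [IsLocalRing R] in
theorem eq_of_add_one_eq (a : WithBot ℕ∞) (n : ℕ) (h : a + 1 = ((n + 1 : ℕ) : WithBot ℕ∞)) :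
    a = (n : WithBot ℕ∞) := by
  induction a using WithBot.recBotCoe with
  | bot =>
    rw [WithBot.bot_add] at h
    exact absurd h.symm (WithBot.natCast_ne_bot _)
  | coe b =>
    induction b using ENat.recTopCoe with
    | top =>
      exfalso
      have : ((⊤ : ℕ∞) : WithBot ℕ∞) + 1 = ((⊤ : ℕ∞) : WithBot ℕ∞) := by
        rw [← WithBot.coe_one, ← WithBot.coe_add, top_add]
      rw [this] at h
      have h2 : ((⊤ : ℕ∞) : WithBot ℕ∞) = (((n + 1 : ℕ) : ℕ∞) : WithBot ℕ∞) := h
      rw [WithBot.coe_eq_coe] at h2
      exact absurd h2 (ENat.top_ne_natCast _)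
    | coe k =>
      have h2 : (((k + 1 : ℕ) : ℕ∞) : WithBot ℕ∞) = (((n + 1 : ℕ) : ℕ∞) : WithBot ℕ∞) := by
        push_cast
        exact h
      rw [WithBot.coe_eq_coe, Nat.cast_inj] at h2
      have : k = n := by omega
      rw [this]
      rfl

/-- **Grothendieck's non-vanishing theorem.** -/
theorem nontrivial_top_aux (n : ℕ) :
    ∀ (M : Type u) [AddCommGroup M] [Module R M] [Module.Finite R M],
      Module.supportDim R M = (n : WithBot ℕ∞) →
      Nontrivial ((localCohomology (IsLocalRing.maximalIdeal R) n).obj (ModuleCat.of R M)) := by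
  induction n with
  | zero =>
    intro M _ _ _ hdim
    have hntM : Nontrivial M := (Module.supportDim_ne_bot_iff_nontrivial R M).1 (by
      rw [hdim]
      exact WithBot.coe_ne_bot)
    have hT := isPowerTorsion_of_supportDim_le_zero M (le_of_eq hdim)
    obtain ⟨e, he⟩ := exists_ne (0 : M)
    obtain ⟨y, hy⟩ := exists_γ_eq (IsLocalRing.maximalIdeal R) (M := ModuleCat.of R M) e (hT e)
    refine ⟨⟨y, 0, ?_⟩⟩
    intro h0
    apply he
    rw [← hy, h0, map_zero]
  | succ n ih =>
    intro M _ _ _ hdim
    by_contra hnt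
    rw [not_nontrivial_iff_subsingleton] at hnt
    have hntM : Nontrivial M := (Module.supportDim_ne_bot_iff_nontrivial R M).1 (by
      rw [hdim]
      exact WithBot.coe_ne_bot)
    have hfg : (IsLocalRing.maximalIdeal R).FG := IsNoetherian.noetherian _
    have hcd : ∀ (K : Type u) [AddCommGroup K] [Module R K],
        Module.support R K ⊆ Module.support R M → ∀ i, n + 1 ≤ i →
        Subsingleton ((localCohomology (IsLocalRing.maximalIdeal R) i).obj (ModuleCat.of R K)) :=
      fun K _ _ hK i hi => subsingleton_ge_of_support_subset (IsLocalRing.maximalIdeal R) (n + 1) M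
        (le_of_eq hdim) hnt K hK i hi
    have hfinMin : (Module.annihilator R M).minimalPrimes.Finite :=
      Ideal.finite_minimalPrimes_of_isNoetherianRing R _
    have ht : ∀ q ∈ hfinMin.toFinset, q.IsPrime := fun q hq => ((hfinMin.mem_toFinset).1 hq).1.1
    have htI : ∀ q ∈ hfinMin.toFinset, ¬ IsLocalRing.maximalIdeal R ≤ q := by
      intro q hq hmq
      have hq' := (hfinMin.mem_toFinset).1 hq
      have hpos : (0 : WithBot ℕ∞) < Module.supportDim R M := by
        rw [hdim]
        exact_mod_cast Nat.succ_pos n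
      rw [Module.supportDim, Order.krullDim_pos_iff] at hpos
      obtain ⟨a, b, hab⟩ := hpos
      have ha : Module.annihilator R M ≤ a.1.asIdeal := Module.annihilator_le_of_mem_support a.2
      have h1 : a.1.asIdeal ≤ q := (IsLocalRing.le_maximalIdeal a.1.isPrime.ne_top).trans hmq
      have h2 : q ≤ a.1.asIdeal := hq'.2 ⟨a.1.isPrime, ha⟩ h1
      have h3 : b.1.asIdeal ≤ q := (IsLocalRing.le_maximalIdeal b.1.isPrime.ne_top).trans hmq
      have hab' : a.1.asIdeal < b.1.asIdeal := hab
      exact absurd (lt_of_lt_of_le hab' (h3.trans h2)) (lt_irrefl _)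
    -- the common part: for a parameter `x`, the quotient `M/xM`
    have hquot : ∀ x ∈ IsLocalRing.maximalIdeal R, (∀ q ∈ hfinMin.toFinset, x ∉ q) →
        Module.supportDim R (QuotSMulTop x M) = (n : WithBot ℕ∞) := by
      intro x hx hxq
      apply eq_of_add_one_eq
      rw [← hdim]
      exact Module.supportDim_quotSMulTop_succ_eq_of_notMem_minimalPrimes_of_mem_jacobson
        (fun p hp => hxq p ((hfinMin.mem_toFinset).2 hp))
        ((IsLocalRing.maximalIdeal_le_jacobson _) hx)
    have hker : ∀ (x : R) (e : M),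
        (x • (⊤ : Submodule R M)).mkQ e = 0 ↔ ∃ e', x • e' = e := by
      intro x e
      rw [Submodule.mkQ_apply, Submodule.Quotient.mk_eq_zero,
        Submodule.mem_smul_pointwise_iff_exists]
      constructor
      · rintro ⟨e', -, h⟩
        exact ⟨e', h⟩
      · rintro ⟨e', h⟩
        exact ⟨e', Submodule.mem_top, h⟩
    cases n with
    | zero =>
      -- dimension one
      have hnot : ¬ ((IsLocalRing.maximalIdeal R : Set R) ⊆
          ⋃ q ∈ (↑hfinMin.toFinset : Set (Ideal R)), ((fun q : Ideal R => q) q : Set R)) := by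
        intro hsub
        obtain ⟨q, hq, hmq⟩ := (Ideal.subset_union_prime (R := R) (s := hfinMin.toFinset)
          (f := fun q => q) ⊥ ⊥ (fun q hq _ _ => ht q hq)).1 hsub
        exact htI q hq hmq
      obtain ⟨x, hx, hxU⟩ := Set.not_subset.1 hnot
      have hxq : ∀ q ∈ hfinMin.toFinset, x ∉ q := by
        intro q hq hxq
        apply hxU
        simp only [Set.mem_iUnion]
        exact ⟨q, Finset.mem_coe.2 hq, hxq⟩
      have hdim' := hquot x hx hxq
      have hT := isPowerTorsion_of_supportDim_le_zero (QuotSMulTop x M) (le_of_eq hdim')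
      obtain ⟨hsurj, -⟩ := Hmap_of_ker_eq_smul (IsLocalRing.maximalIdeal R) 0
        (x • (⊤ : Submodule R M)).mkQ (Submodule.mkQ_surjective _) x (hker x)
        (fun K => hcd K (Module.support_subset_of_injective _ (Submodule.injective_subtype K))
          1 (le_refl _))
      have htop : (⊤ : Submodule R M) ≤
          DRing.torsionSub (IsLocalRing.maximalIdeal R) M ⊔
            IsLocalRing.maximalIdeal R • (⊤ : Submodule R M) := by
        intro e _
        obtain ⟨y', hy'⟩ := exists_γ_eq (IsLocalRing.maximalIdeal R)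
          (M := ModuleCat.of R (QuotSMulTop x M)) ((x • (⊤ : Submodule R M)).mkQ e) (hT _)
        obtain ⟨y, rfl⟩ := hsurj y'
        rw [γ_naturality] at hy'
        have h1 : (x • (⊤ : Submodule R M)).mkQ
            (e - γ (IsLocalRing.maximalIdeal R) (M := ModuleCat.of R M) y) = 0 := by
          rw [map_sub]
          exact sub_eq_zero.2 hy'.symm
        obtain ⟨e', he'⟩ := (hker x _).1 h1
        have h2 : e = γ (IsLocalRing.maximalIdeal R) (M := ModuleCat.of R M) y + x • e' := by
          rw [he']
          abel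
        rw [h2]
        exact Submodule.add_mem _ (Submodule.mem_sup_left (γ_mem _ y))
          (Submodule.mem_sup_right (Submodule.smul_mem_smul hx Submodule.mem_top))
      have hall := Submodule.le_of_le_smul_of_le_jacobson_bot (Module.Finite.fg_top)
        (IsLocalRing.maximalIdeal_le_jacobson _) htop
      have hpos : (0 : WithBot ℕ∞) < Module.supportDim R M := by
        rw [hdim]
        exact_mod_cast Nat.succ_pos 0
      rw [Module.supportDim, Order.krullDim_pos_iff] at hpos
      obtain ⟨a, b, hab⟩ := hpos
      obtain ⟨e, he⟩ := Module.mem_support_iff_exists_annihilator.1 a.2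
      obtain ⟨k, hk⟩ := hall (Submodule.mem_top : e ∈ ⊤)
      have h1 : IsLocalRing.maximalIdeal R ^ k ≤ a.1.asIdeal := by
        refine le_trans ?_ he
        intro r hr
        rw [Submodule.mem_annihilator_span_singleton]
        exact hk r hr
      have h2 : IsLocalRing.maximalIdeal R ≤ a.1.asIdeal := a.1.isPrime.le_of_pow_le h1
      have h3 : b.1.asIdeal ≤ IsLocalRing.maximalIdeal R :=
        IsLocalRing.le_maximalIdeal b.1.isPrime.ne_top
      have hab' : a.1.asIdeal < b.1.asIdeal := hab
      exact absurd (lt_of_lt_of_le hab' (h3.trans h2)) (lt_irrefl _)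
    | succ n =>
      -- dimension at least two
      have hArt : IsArtinian R
          ((localCohomology (IsLocalRing.maximalIdeal R) (n + 1)).obj (ModuleCat.of R M)) :=
        Groth.Agent.S0817.result R M (n + 1)
      have hTq : LocCoh.IsPowerTorsion (IsLocalRing.maximalIdeal R)
          (M ⧸ (IsLocalRing.maximalIdeal R • ⊤ : Submodule R M)) := by
        intro e
        refine ⟨1, fun a ha => ?_⟩
        rw [pow_one] at ha
        obtain ⟨e', rfl⟩ := Submodule.Quotient.mk_surjective _ e
        rw [← Submodule.Quotient.mk_smul, Submodule.Quotient.mk_eq_zero]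
        exact Submodule.smul_mem_smul ha Submodule.mem_top
      have hI := ideal_smul_top_eq_top_of_subsingleton (IsLocalRing.maximalIdeal R) (n + 1) M
        (fun K _ _ hK => hcd K hK (n + 1 + 1) (le_refl _)) (IsLocalRing.maximalIdeal R) hfg
        (subsingleton_of_isPowerTorsion (IsLocalRing.maximalIdeal R) n _ hTq)
      obtain ⟨x, hx, hxq, hxs⟩ := ArtAvoid.exists_smul_surjective (IsLocalRing.maximalIdeal R) hfg
        hI hfinMin.toFinset ht htI
      have hdim' := hquot x hx hxq
      have hnt' := ih (QuotSMulTop x M) hdim'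
      obtain ⟨hsurj, -⟩ := Hmap_of_ker_eq_smul (IsLocalRing.maximalIdeal R) (n + 1)
        (x • (⊤ : Submodule R M)).mkQ (Submodule.mkQ_surjective _) x (hker x)
        (fun K => hcd K (Module.support_subset_of_injective _ (Submodule.injective_subtype K))
          (n + 1 + 1) (le_refl _))
      apply @not_subsingleton _ hnt'
      refine ⟨fun c c' => ?_⟩
      suffices h : ∀ c : (localCohomology (IsLocalRing.maximalIdeal R) (n + 1)).obj
          (ModuleCat.of R (QuotSMulTop x M)), c = 0 from (h c).trans (h c').symm
      intro c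
      obtain ⟨a, rfl⟩ := hsurj c
      obtain ⟨b, rfl⟩ := hxs a
      rw [map_smul, ← Hmap_smul_id]
      have hz : x • 𝟙 (ModuleCat.of R (QuotSMulTop x M)) = 0 := by
        apply ModuleCat.hom_ext
        apply LinearMap.ext
        intro e
        obtain ⟨e', rfl⟩ := Submodule.Quotient.mk_surjective _ e
        change x • (Submodule.Quotient.mk e' : M ⧸ x • (⊤ : Submodule R M)) = 0
        rw [← Submodule.Quotient.mk_smul, Submodule.Quotient.mk_eq_zero]
        exact Submodule.smul_mem_pointwise_smul _ _ _ Submodule.mem_top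
      rw [hz, Hmap_zero]

/-- **Grothendieck's non-vanishing theorem**: `H^n_m(M) ≠ 0` for `n = dim M`. -/
theorem nontrivial_top (M : Type u) [AddCommGroup M] [Module R M] [Module.Finite R M] (n : ℕ)
    (hn : Module.supportDim R M = (n : WithBot ℕ∞)) :
    Nontrivial ((localCohomology (IsLocalRing.maximalIdeal R) n).obj (ModuleCat.of R M)) :=
  nontrivial_top_aux n M hn

end NonVan

end Groth.Agent.Lib.Helper92.LC
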