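import Groth.Agent.Lib.Helper92.IdealTransform

/-!
# Maps out of the ideal transform defined on representatives (helper92)
`descL` : linear map `D_I(M) → N` from a compatible family of linear maps on `Hom(I^t, M)`;
`toDT_DT_eq` : `η_{D_I(M)} = D_I(η_M)`.
-/

namespace Groth.Agent.Lib.Helper92.IdealTransform

open CategoryTheory CategoryTheory.Limits Opposite LocCoh

universe u
variable {R : Type u} [CommRing R] (I : Ideal R) (M : Type u) [AddCommGroup M] [Module R M]

theorem res_add {s t : ℕ} (h : t ≤ s) (f g : ↥(I ^ t) →ₗ[R] M) :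
    res I M h (f + g) = res I M h f + res I M h g := rfl

theorem res_smul {s t : ℕ} (h : t ≤ s) (r : R) (f : ↥(I ^ t) →ₗ[R] M) :
    res I M h (r • f) = r • res I M h f := rfl

theorem res_res {r s t : ℕ} (h : t ≤ s) (h' : s ≤ r) (f : ↥(I ^ t) →ₗ[R] M) :
    res I M h' (res I M h f) = res I M (h.trans h') f := rfl

variable {N : Type u} [AddCommGroup N] [Module R N]

/-- A compatible family of linear maps on representatives. -/
def CompatL (f : ∀ t, (↥(I ^ t) →ₗ[R] M) →ₗ[R] N) : Prop :=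
  ∀ (s t : ℕ) (h : t ≤ s) (g : ↥(I ^ t) →ₗ[R] M), f s (res I M h g) = f t g

variable {I M}
variable {f : ∀ t, (↥(I ^ t) →ₗ[R] M) →ₗ[R] N}

theorem compatL_wd (hf : CompatL I M f) {s t : ℕ} {g : ↥(I ^ s) →ₗ[R] M}
    {g' : ↥(I ^ t) →ₗ[R] M} (h : mkL I M s g = mkL I M t g') : f s g = f t g' := by
  obtain ⟨k, hs, ht, hk⟩ := (mkL_eq_mkL_iff I M g g').1 h
  rw [← hf k s hs, ← hf k t ht, hk]

/-- the induced function -/
noncomputable def descLFun (f : ∀ t, (↥(I ^ t) →ₗ[R] M) →ₗ[R] N) (y : DT I M) : N :=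
  f (exists_repL I M y).choose (exists_repL I M y).choose_spec.choose

theorem descLFun_mkL (hf : CompatL I M f) (t : ℕ) (g : ↥(I ^ t) →ₗ[R] M) :
    descLFun f (mkL I M t g) = f t g :=
  compatL_wd hf (exists_repL I M (mkL I M t g)).choose_spec.choose_spec

/-- The linear map out of `D_I(M)` induced by a compatible family. -/
noncomputable def descL (hf : CompatL I M f) : DT I M →ₗ[R] N where
  toFun := descLFun f
  map_add' y y' := by
    obtain ⟨s, x, rfl⟩ := exists_repL I M y
    obtain ⟨t, x', rfl⟩ := exists_repL I M y'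
    rw [← mkL_res I M (le_max_left s t) x, ← mkL_res I M (le_max_right s t) x', ← mkL_add,
      descLFun_mkL hf, descLFun_mkL hf, descLFun_mkL hf, map_add]
  map_smul' r y := by
    obtain ⟨s, x, rfl⟩ := exists_repL I M y
    rw [← mkL_smul, descLFun_mkL hf, descLFun_mkL hf, map_smul, RingHom.id_apply]

@[simp] theorem descL_mkL (hf : CompatL I M f) (t : ℕ) (g : ↥(I ^ t) →ₗ[R] M) :
    descL hf (mkL I M t g) = f t g := descLFun_mkL hf t g

theorem hom_extL {g g' : DT I M →ₗ[R] N}
    (h : ∀ t (x : ↥(I ^ t) →ₗ[R] M), g (mkL I M t x) = g' (mkL I M t x)) : g = g' := by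
  ext y
  obtain ⟨t, x, rfl⟩ := exists_repL I M y
  exact h t x

variable (I M)

/-- `η_{D_I(M)} = D_I(η_M)`. -/
theorem toDT_DT_eq : toDT I (DT I M) = mapL I (toDT I M) := by
  ext y
  obtain ⟨t, f, rfl⟩ := exists_repL I M y
  unfold mapL
  rw [map_mkL, toDT_eq I (DT I M) _ t]
  congr 1
  ext ⟨a, ha⟩
  rw [smulMap_apply, LinearMap.comp_apply]
  exact smul_mkL_of_mem I M f a ha

end Groth.Agent.Lib.Helper92.IdealTransform
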