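import Groth.Agent.Lib.Helper92.LocCohTorsion
import Groth.Agent.Lib.Helper92.IdealTransformDesc

open CategoryTheory CategoryTheory.Limits Opposite

namespace Groth.Agent.Lib.Helper92.LC

open Groth.Agent.Lib.Helper92.IdealTransform

universe u
variable {R : Type u} [CommRing R] (I : Ideal R)

section SES

/-- The short exact sequence `0 → I^t → R → R/I^t → 0`. -/
noncomputable abbrev T (t : ℕ) : ShortComplex (ModuleCat.{u} R) :=
  ModuleCat.shortComplexOfCompEqZero (I ^ t).subtype (I ^ t).mkQ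
    (by ext x; exact (Submodule.Quotient.mk_eq_zero _).2 x.2)

theorem T_shortExact (t : ℕ) : (T I t).ShortExact :=
  ModuleCat.shortComplex_shortExact _ (LinearMap.exact_subtype_mkQ _)
    (Submodule.injective_subtype _) (Submodule.mkQ_surjective _)

/-- The morphism of short exact sequences induced by `I^k ≤ I^t`. -/
noncomputable def Tmap {k t : ℕ} (h : t ≤ k) : T I k ⟶ T I t where
  τ₁ := ModuleCat.ofHom (Submodule.inclusion (Ideal.pow_le_pow_right h))
  τ₂ := 𝟙 _
  τ₃ := proj I h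
  comm₁₂ := by ext x; rfl
  comm₂₃ := by ext x; rfl

instance (t : ℕ) : Projective (T I t).X₂ :=
  (IsProjective.iff_projective (R := R) R).1 inferInstance

end SES

section Theta

variable (M : Type u) [AddCommGroup M] [Module R M]

/-- on representatives: `f ↦ [extClass ∘ f]`. -/
noncomputable def θRep (t : ℕ) :
    (↥(I ^ t) →ₗ[R] M) →ₗ[R] (localCohomology I 1).obj (ModuleCat.of R M) where
  toFun f := mk I 1 t ((T_shortExact I t).extClass.comp
      (Abelian.Ext.mk₀ (ModuleCat.ofHom f)) (add_zero 1))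
  map_add' f g := by
    rw [ModuleCat.ofHom_add, Abelian.Ext.mk₀_add, Abelian.Ext.comp_add, mk_add]
  map_smul' r f := by
    have : ModuleCat.ofHom (r • f) = r • ModuleCat.ofHom f := rfl
    rw [this, Abelian.Ext.mk₀_smul, Abelian.Ext.comp_smul, mk_smul, RingHom.id_apply]

theorem θRep_apply (t : ℕ) (f : ↥(I ^ t) →ₗ[R] M) :
    θRep I M t f = mk I 1 t ((T_shortExact I t).extClass.comp
      (Abelian.Ext.mk₀ (ModuleCat.ofHom f)) (add_zero 1)) := rfl

theorem extClass_res {k t : ℕ} (h : t ≤ k) (f : ↥(I ^ t) →ₗ[R] M) :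
    (T_shortExact I k).extClass.comp (Abelian.Ext.mk₀ (ModuleCat.ofHom (res I M h f)))
      (add_zero 1) =
    (Abelian.Ext.mk₀ (proj I h)).comp ((T_shortExact I t).extClass.comp
      (Abelian.Ext.mk₀ (ModuleCat.ofHom f)) (add_zero 1)) (zero_add 1) := by
  have h1 : ModuleCat.ofHom (res I M h f) = (Tmap I h).τ₁ ≫ ModuleCat.ofHom f := rfl
  have h2 := ShortComplex.ShortExact.extClass_naturality (T_shortExact I k) (T_shortExact I t)
    (Tmap I h)
  rw [h1, ← Abelian.Ext.mk₀_comp_mk₀,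
    ← Abelian.Ext.comp_assoc _ _ _ (add_zero 1) (add_zero 0) (by omega), h2,
    Abelian.Ext.comp_assoc _ _ _ (zero_add 1) (add_zero 1) (by omega)]
  rfl

theorem θRep_compat : CompatL I M (θRep I M) := by
  intro s t h f
  rw [θRep_apply, θRep_apply, extClass_res]
  exact mk_proj I 1 h _

/-- The comparison map `D_I(M) → H^1_I(M)`. -/
noncomputable def θ : LocCoh.DT I M →ₗ[R] (localCohomology I 1).obj (ModuleCat.of R M) :=
  descL (θRep_compat I M)

theorem θ_mkL (t : ℕ) (f : ↥(I ^ t) →ₗ[R] M) :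
    θ I M (mkL I M t f) = mk I 1 t ((T_shortExact I t).extClass.comp
      (Abelian.Ext.mk₀ (ModuleCat.ofHom f)) (add_zero 1)) := by
  unfold θ
  rw [descL_mkL, θRep_apply]

theorem θ_surjective : Function.Surjective (θ I M) := by
  intro y
  obtain ⟨t, a, rfl⟩ := exists_rep I 1 y
  have h0 : (Abelian.Ext.mk₀ (T I t).g).comp a (zero_add 1) = 0 :=
    Abelian.Ext.eq_zero_of_projective _
  obtain ⟨x₁, hx₁⟩ := Abelian.Ext.contravariant_sequence_exact₃ (T_shortExact I t) _ a h0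
    (add_zero 1)
  obtain ⟨φ, rfl⟩ := (Abelian.Ext.mk₀_bijective _ _).2 x₁
  refine ⟨mkL I M t φ.hom, ?_⟩
  rw [θ_mkL]
  exact congrArg (mk I 1 t) hx₁

theorem θ_toDT (m : M) : θ I M (LocCoh.toDT I M m) = 0 := by
  rw [toDT_eq_zero, θ_mkL]
  have h1 : ModuleCat.ofHom (smulMap M (I ^ 0) m) =
      (T I 0).f ≫ ModuleCat.ofHom (LinearMap.toSpanSingleton R M m) := by
    ext x
    rfl
  rw [h1, ← Abelian.Ext.mk₀_comp_mk₀, ShortComplex.ShortExact.extClass_comp_assoc, mk_zero]

theorem θ_eq_zero (y : LocCoh.DT I M) (hy : θ I M y = 0) : ∃ m, LocCoh.toDT I M m = y := by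
  obtain ⟨t, f, rfl⟩ := exists_repL I M y
  rw [θ_mkL, mk_eq_zero_iff] at hy
  obtain ⟨k, hk, h0⟩ := hy
  rw [← extClass_res] at h0
  obtain ⟨x₂, hx₂⟩ := Abelian.Ext.contravariant_sequence_exact₁ (T_shortExact I k) _ _
    (add_zero 1) h0
  obtain ⟨ψ, rfl⟩ := (Abelian.Ext.mk₀_bijective _ _).2 x₂
  rw [Abelian.Ext.mk₀_comp_mk₀] at hx₂
  have h1 := (Abelian.Ext.mk₀_bijective _ _).1 hx₂
  refine ⟨ψ.hom (1 : R), ?_⟩
  rw [toDT_eq I M _ k, ← mkL_res I M hk f]
  congr 1
  ext x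
  have h2 := congrArg (fun φ => φ.hom x) h1
  change ψ.hom (x : R) = res I M hk f x at h2
  rw [← h2, smulMap_apply]
  have : (x : R) = (x : R) • (1 : R) := by rw [smul_eq_mul, mul_one]
  conv_rhs => rw [this, map_smul]

/-- `coker(η_M) ≃ H^1_I(M)`. -/
noncomputable def cokerEquiv :
    (LocCoh.DT I M ⧸ LinearMap.range (LocCoh.toDT I M)) ≃ₗ[R]
      (localCohomology I 1).obj (ModuleCat.of R M) :=
  LinearEquiv.ofBijective
    (Submodule.liftQ _ (θ I M) (by rintro _ ⟨m, rfl⟩; exact θ_toDT I M m))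
    ⟨by
      rw [← LinearMap.ker_eq_bot, Submodule.ker_liftQ_eq_bot']
      · apply le_antisymm
        · rintro _ ⟨m, rfl⟩; exact θ_toDT I M m
        · intro y hy
          obtain ⟨m, rfl⟩ := θ_eq_zero I M y hy
          exact ⟨m, rfl⟩,
     fun z => by
      obtain ⟨y, rfl⟩ := θ_surjective I M z
      exact ⟨Submodule.Quotient.mk y, rfl⟩⟩

end Theta

end Groth.Agent.Lib.Helper92.LC
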