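import Groth.Agent.Lib.Helper92.LocCohSeq
import Groth.Agent.S11603

open CategoryTheory CategoryTheory.Limits Opposite

namespace Groth.Agent.Lib.Helper92.LC

universe u
variable {R : Type u} [CommRing R] [IsNoetherianRing R] (a : Ideal R) (b : R)
  (M : Type u) [AddCommGroup M] [Module R M]

/-- `H^i_a(M) → H^i_a(M_b)` is a localization at the powers of `b`. -/
theorem isLocalizedModule_Hloc (i : ℕ) :
    IsLocalizedModule (Submonoid.powers b) (Hloc a i b M) where
  map_units := by
    rintro ⟨_, n, rfl⟩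
    rw [Module.End.isUnit_iff]
    have hiso : IsIso (b ^ n • 𝟙 (ModuleCat.of R (LocalizedModule (Submonoid.powers b) M))) := by
      rw [ConcreteCategory.isIso_iff_bijective]
      have := IsLocalizedModule.map_units (locMap b M) (bPow b n)
      exact (Module.End.isUnit_iff _).1 this
    constructor
    · intro y y' hyy
      have h0 : b ^ n • (y - y') = 0 := by
        rw [smul_sub]; exact sub_eq_zero.2 hyy
      exact sub_eq_zero.1 (smul_injective_Hloc a i b M _ n h0)
    · intro y
      refine ⟨Hmap a i (inv (b ^ n • 𝟙 _)) y, ?_⟩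
      change b ^ n • Hmap a i (inv (b ^ n • 𝟙 _)) y = y
      rw [← Hmap_smul_id, ← Hmap_comp, IsIso.inv_hom_id]
      change ((localCohomology a i).map (𝟙 _)).hom y = y
      rw [CategoryTheory.Functor.map_id]
      rfl
  surj y := by
    obtain ⟨n, x, hx⟩ := Hloc_surj a i b M y
    exact ⟨⟨x, bPow b n⟩, hx.symm⟩
  exists_of_eq := by
    intro x₁ x₂ h
    have h0 : Hloc a i b M (x₁ - x₂) = 0 := by rw [map_sub, h, sub_self]
    obtain ⟨n, hn⟩ := Hloc_ker a i b M _ h0
    refine ⟨bPow b n, ?_⟩
    rw [smul_sub] at hn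
    exact sub_eq_zero.1 hn

theorem mem_range_cmp_iff (i : ℕ) (x : (localCohomology a (i + 1)).obj (ModuleCat.of R M)) :
    x ∈ LinearMap.range (cmp (le_sup_span a b) (i + 1) (ModuleCat.of R M)) ↔
      ∃ n : ℕ, b ^ n • x = 0 := by
  have hex := (les_sup_span a b (i + 1) (ModuleCat.of R M)).1
  constructor
  · intro hx
    exact Hloc_ker a (i + 1) b M x ((hex x).2 hx)
  · rintro ⟨n, hn⟩
    apply (hex x).1
    apply smul_injective_Hloc a (i + 1) b M _ n
    rw [← map_smul, hn, map_zero]

theorem nonempty_ker_cmp_equiv (i : ℕ) :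
    Nonempty (LinearMap.ker (cmp (le_sup_span a b) (i + 1) (ModuleCat.of R M)) ≃ₗ[R]
      LocCoh.H (Ideal.span {b}) 1 (LocCoh.H a i M)) := by
  obtain ⟨e1⟩ := nonempty_coker_equiv_ker a b i (ModuleCat.of R M)
  obtain ⟨e3⟩ := Groth.Agent.S11603.result R b (LocCoh.H a i M)
  have := isLocalizedModule_Hloc a b M i
  let ω := IsLocalizedModule.iso (Submonoid.powers b) (Hloc a i b M)
  have h1 : (LinearMap.range (LocalizedModule.mkLinearMap (Submonoid.powers b)
      (LocCoh.H a i M))).map ω.toLinearMap = LinearMap.range (Hloc a i b M) := by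
    rw [← LinearMap.range_comp]
    congr 1
    ext x
    exact IsLocalizedModule.iso_mk_one (Submonoid.powers b) (Hloc a i b M) x
  exact ⟨e1.symm.trans ((Submodule.Quotient.equiv _ _ ω h1).symm.trans e3)⟩

end Groth.Agent.Lib.Helper92.LC
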