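import Groth.Agent.Lib.Helper92.LocCohSeq
import Groth.Agent.Lib.Helper92.LocCohCompare

/-!
# Mayer–Vietoris sequence for local cohomology
-/

open CategoryTheory CategoryTheory.Limits Opposite

namespace Groth.Agent.Lib.Helper92.LC

universe u

section Trans
variable {R : Type u} [CommRing R] {I₁ I₂ I₃ : Ideal R} (h₁₂ : I₁ ≤ I₂) (h₂₃ : I₂ ≤ I₃)

theorem qmap_comp (t : ℕ) : qmap h₁₂ t ≫ qmap h₂₃ t = qmap (h₁₂.trans h₂₃) t := by
  apply ModuleCat.hom_ext
  apply LinearMap.ext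
  intro x
  obtain ⟨r, rfl⟩ := Submodule.Quotient.mk_surjective _ x
  rfl

theorem cmp_cmp (i : ℕ) (M : ModuleCat.{u} R) (y : (localCohomology I₃ i).obj M) :
    cmp h₁₂ i M (cmp h₂₃ i M y) = cmp (h₁₂.trans h₂₃) i M y := by
  obtain ⟨t, x, rfl⟩ := exists_rep I₃ i y
  rw [cmp_mk, cmp_mk, cmp_mk, ← Abelian.Ext.comp_assoc _ _ _ (zero_add 0) (zero_add i) (by omega),
    Abelian.Ext.mk₀_comp_mk₀, qmap_comp]

end Trans

section Defs
variable {R : Type u} [CommRing R] (I J : Ideal R) (i : ℕ)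

/-- `H^i_I(M) × H^i_J(M)` -/
abbrev HB (M : ModuleCat.{u} R) : Type u :=
  (localCohomology I i).obj M × (localCohomology J i).obj M

/-- `H^i_{I+J}(M) → H^i_I(M) × H^i_J(M)` -/
noncomputable abbrev mvα (M : ModuleCat.{u} R) :
    (localCohomology (I ⊔ J) i).obj M →ₗ[R] HB I J i M :=
  LinearMap.prod (cmp (le_sup_left : I ≤ I ⊔ J) i M) (cmp (le_sup_right : J ≤ I ⊔ J) i M)

/-- `H^i_I(M) × H^i_J(M) → H^i_{I∩J}(M)`, the difference. -/
noncomputable abbrev mvβ (M : ModuleCat.{u} R) :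
    HB I J i M →ₗ[R] (localCohomology (I ⊓ J) i).obj M :=
  (cmp (inf_le_left : I ⊓ J ≤ I) i M) ∘ₗ
      LinearMap.fst R ((localCohomology I i).obj M) ((localCohomology J i).obj M) -
    (cmp (inf_le_right : I ⊓ J ≤ J) i M) ∘ₗ
      LinearMap.snd R ((localCohomology I i).obj M) ((localCohomology J i).obj M)

/-- functoriality of `HB` -/
noncomputable abbrev mapB {M N : ModuleCat.{u} R} (φ : M ⟶ N) : HB I J i M →ₗ[R] HB I J i N :=
  LinearMap.prodMap (Hmap I i φ) (Hmap J i φ)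

/-- connecting map of `HB` -/
noncomputable abbrev δB {S : ShortComplex (ModuleCat.{u} R)} (hS : S.ShortExact) :
    HB I J i S.X₃ →ₗ[R] HB I J (i + 1) S.X₁ :=
  LinearMap.prodMap (δ I i hS) (δ J i hS)

variable {I J i}

theorem mvβ_apply {M : ModuleCat.{u} R} (p : HB I J i M) :
    mvβ I J i M p = cmp (inf_le_left : I ⊓ J ≤ I) i M p.1 -
      cmp (inf_le_right : I ⊓ J ≤ J) i M p.2 := rfl

theorem mvα_apply {M : ModuleCat.{u} R} (y : (localCohomology (I ⊔ J) i).obj M) :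
    mvα I J i M y = (cmp (le_sup_left : I ≤ I ⊔ J) i M y,
      cmp (le_sup_right : J ≤ I ⊔ J) i M y) := rfl

theorem mvβ_mvα {M : ModuleCat.{u} R} (y : (localCohomology (I ⊔ J) i).obj M) :
    mvβ I J i M (mvα I J i M y) = 0 := by
  rw [mvβ_apply, mvα_apply]
  dsimp only
  rw [cmp_cmp, cmp_cmp, sub_self]

theorem mvα_naturality {M N : ModuleCat.{u} R} (φ : M ⟶ N)
    (y : (localCohomology (I ⊔ J) i).obj M) :
    mvα I J i N (Hmap (I ⊔ J) i φ y) = mapB I J i φ (mvα I J i M y) := by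
  rw [mvα_apply, mvα_apply, cmp_naturality, cmp_naturality]
  rfl

theorem mvβ_naturality {M N : ModuleCat.{u} R} (φ : M ⟶ N) (p : HB I J i M) :
    mvβ I J i N (mapB I J i φ p) = Hmap (I ⊓ J) i φ (mvβ I J i M p) := by
  rw [mvβ_apply, mvβ_apply, map_sub, ← cmp_naturality, ← cmp_naturality]
  rfl

theorem mvα_δ {S : ShortComplex (ModuleCat.{u} R)} (hS : S.ShortExact)
    (z : (localCohomology (I ⊔ J) i).obj S.X₃) :
    mvα I J (i + 1) S.X₁ (δ (I ⊔ J) i hS z) = δB I J i hS (mvα I J i S.X₃ z) := by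
  rw [mvα_apply, mvα_apply, cmp_δ, cmp_δ]
  rfl

theorem mvβ_δ {S : ShortComplex (ModuleCat.{u} R)} (hS : S.ShortExact) (p : HB I J i S.X₃) :
    mvβ I J (i + 1) S.X₁ (δB I J i hS p) = δ (I ⊓ J) i hS (mvβ I J i S.X₃ p) := by
  rw [mvβ_apply, mvβ_apply, map_sub, ← cmp_δ, ← cmp_δ]
  rfl

end Defs

section ExactB
variable {R : Type u} [CommRing R] (I J : Ideal R) (i : ℕ)
variable {S : ShortComplex (ModuleCat.{u} R)} (hS : S.ShortExact)

include hS in
theorem exact_mapB_f_g : Function.Exact (mapB I J i S.f) (mapB I J i S.g) := by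
  rintro ⟨u, v⟩
  constructor
  · intro h
    have h1 : Hmap I i S.g u = 0 := congrArg Prod.fst h
    have h2 : Hmap J i S.g v = 0 := congrArg Prod.snd h
    obtain ⟨u', rfl⟩ := exact₂ I i hS u h1
    obtain ⟨v', rfl⟩ := exact₂ J i hS v h2
    exact ⟨(u', v'), rfl⟩
  · rintro ⟨⟨u', v'⟩, h⟩
    have h1 : Hmap I i S.f u' = u := congrArg Prod.fst h
    have h2 : Hmap J i S.f v' = v := congrArg Prod.snd h
    subst h1 h2
    exact Prod.ext (Hmap_g_Hmap_f I i S u') (Hmap_g_Hmap_f J i S v')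

theorem exact_mapB_g_δB : Function.Exact (mapB I J i S.g) (δB I J i hS) := by
  rintro ⟨u, v⟩
  constructor
  · intro h
    have h1 : δ I i hS u = 0 := congrArg Prod.fst h
    have h2 : δ J i hS v = 0 := congrArg Prod.snd h
    obtain ⟨u', rfl⟩ := exact₃ I i hS u h1
    obtain ⟨v', rfl⟩ := exact₃ J i hS v h2
    exact ⟨(u', v'), rfl⟩
  · rintro ⟨⟨u', v'⟩, h⟩
    have h1 : Hmap I i S.g u' = u := congrArg Prod.fst h
    have h2 : Hmap J i S.g v' = v := congrArg Prod.snd h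
    subst h1 h2
    exact Prod.ext (δ_Hmap_g I i hS u') (δ_Hmap_g J i hS v')

theorem δB_surjective_of_subsingleton
    (h1 : Subsingleton ((localCohomology I (i + 1)).obj S.X₂))
    (h2 : Subsingleton ((localCohomology J (i + 1)).obj S.X₂)) :
    Function.Surjective (δB I J i hS) := by
  rintro ⟨u, v⟩
  obtain ⟨u', rfl⟩ := exact₁ I i hS u (Subsingleton.elim _ _)
  obtain ⟨v', rfl⟩ := exact₁ J i hS v (Subsingleton.elim _ _)
  exact ⟨(u', v'), rfl⟩

end ExactB

section DegreeZero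
variable {R : Type u} [CommRing R] (I J : Ideal R)

theorem mvα_zero_injective (M : ModuleCat.{u} R) : Function.Injective (mvα I J 0 M) := by
  intro y y' h
  have h1 : cmp (le_sup_left : I ≤ I ⊔ J) 0 M y = cmp (le_sup_left : I ≤ I ⊔ J) 0 M y' :=
    congrArg Prod.fst h
  exact cmp_zero_injective _ h1

theorem exact_mvα_mvβ_zero (M : ModuleCat.{u} R) :
    Function.Exact (mvα I J 0 M) (mvβ I J 0 M) := by
  rintro ⟨u, v⟩
  constructor
  · intro h
    rw [mvβ_apply, sub_eq_zero] at h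
    dsimp only at h
    have h1 : γ I u = γ J v := by
      rw [← γ_cmp (inf_le_left : I ⊓ J ≤ I), ← γ_cmp (inf_le_right : I ⊓ J ≤ J), h]
    obtain ⟨n, hn⟩ := γ_mem I u
    obtain ⟨k, hk⟩ := γ_mem J v
    have hw : γ I u ∈ DRing.torsionSub (I ⊔ J) M := by
      refine ⟨n + k, fun a ha => ?_⟩
      have := Ideal.sup_pow_add_le_pow_sup_pow ha
      obtain ⟨a₁, ha₁, a₂, ha₂, rfl⟩ := Submodule.mem_sup.1 this
      rw [add_smul, hn a₁ ha₁, h1, hk a₂ ha₂, add_zero]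
    obtain ⟨y, hy⟩ := exists_γ_eq (I ⊔ J) (γ I u) hw
    refine ⟨y, ?_⟩
    rw [mvα_apply]
    refine Prod.ext ?_ ?_
    · apply γ_injective I
      rw [γ_cmp, hy]
    · apply γ_injective J
      change γ J (cmp (le_sup_right : J ≤ I ⊔ J) 0 M y) = γ J v
      rw [γ_cmp, hy, h1]
  · rintro ⟨y, hy⟩
    rw [← hy]
    exact mvβ_mvα y

section AR
variable [IsNoetherianRing R]

/-- Artin–Rees: `I^a ∩ J^a ≤ (I ∩ J)^n` for `a ≫ 0`. -/
theorem exists_pow_inf_pow_le (n : ℕ) : ∃ a : ℕ, I ^ a ⊓ J ^ a ≤ (I ⊓ J) ^ n := by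
  obtain ⟨c, hc⟩ := Ideal.exists_pow_inf_eq_pow_smul I ((J ^ n : Ideal R) : Submodule R R)
  refine ⟨c + n, ?_⟩
  have h1 := hc (c + n) (by omega)
  have h2 : c + n - c = n := by omega
  rw [h2] at h1
  have h3 : ∀ m : ℕ, I ^ m • (⊤ : Submodule R R) = I ^ m := fun m => by
    rw [smul_eq_mul]; exact Ideal.mul_top _
  rw [h3, h3] at h1
  calc I ^ (c + n) ⊓ J ^ (c + n) ≤ I ^ (c + n) ⊓ J ^ n :=
        inf_le_inf_left _ (Ideal.pow_le_pow_right (by omega))
    _ = I ^ n • (I ^ c ⊓ J ^ n) := h1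
    _ ≤ I ^ n • J ^ n := Submodule.smul_mono le_rfl inf_le_right
    _ = (I * J) ^ n := by rw [smul_eq_mul, mul_pow]
    _ ≤ (I ⊓ J) ^ n := Ideal.pow_right_mono Ideal.mul_le_inf n

/-- In an injective module, `Γ_{I ∩ J}(E) = Γ_I(E) + Γ_J(E)`. -/
theorem exists_decomp_of_injective (E : Type u) [AddCommGroup E] [Module R E]
    [Module.Injective R E] (x : E) (hx : x ∈ DRing.torsionSub (I ⊓ J) E) :
    ∃ y ∈ DRing.torsionSub I E, ∃ z ∈ DRing.torsionSub J E, x = y + z := by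
  obtain ⟨n, hn⟩ := hx
  obtain ⟨a, ha⟩ := exists_pow_inf_pow_le I J n
  let K : Ideal R := I ^ a ⊓ J ^ a
  let f : (R ⧸ K) →ₗ[R] (R ⧸ I ^ a) × (R ⧸ J ^ a) :=
    LinearMap.prod (Submodule.mapQ K (I ^ a) LinearMap.id inf_le_left)
      (Submodule.mapQ K (J ^ a) LinearMap.id inf_le_right)
  have hf : Function.Injective f := by
    rw [injective_iff_map_eq_zero]
    intro q hq
    obtain ⟨r, rfl⟩ := Submodule.Quotient.mk_surjective _ q
    have h1 : (Submodule.Quotient.mk r : R ⧸ I ^ a) = 0 := congrArg Prod.fst hq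
    have h2 : (Submodule.Quotient.mk r : R ⧸ J ^ a) = 0 := congrArg Prod.snd hq
    rw [Submodule.Quotient.mk_eq_zero] at h1 h2 ⊢
    exact ⟨h1, h2⟩
  let g : (R ⧸ K) →ₗ[R] E := Submodule.liftQ K (LinearMap.toSpanSingleton R E x) (by
    intro r hr
    rw [LinearMap.mem_ker, LinearMap.toSpanSingleton_apply]
    exact hn r (ha hr))
  obtain ⟨h, hh⟩ := Module.Injective.out f hf g
  refine ⟨h (Submodule.Quotient.mk 1, 0), ⟨a, fun b hb => ?_⟩,
    h (0, Submodule.Quotient.mk 1), ⟨a, fun b hb => ?_⟩, ?_⟩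
  · rw [← map_smul, Prod.smul_mk, smul_zero, ← Submodule.Quotient.mk_smul]
    have : (Submodule.Quotient.mk (b • (1 : R)) : R ⧸ I ^ a) = 0 := by
      rw [Submodule.Quotient.mk_eq_zero, smul_eq_mul, mul_one]; exact hb
    rw [this]
    exact map_zero h
  · rw [← map_smul, Prod.smul_mk, smul_zero, ← Submodule.Quotient.mk_smul]
    have : (Submodule.Quotient.mk (b • (1 : R)) : R ⧸ J ^ a) = 0 := by
      rw [Submodule.Quotient.mk_eq_zero, smul_eq_mul, mul_one]; exact hb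
    rw [this]
    exact map_zero h
  · rw [← map_add, Prod.mk_add_mk, add_zero, zero_add]
    have h1 := hh (Submodule.Quotient.mk 1)
    have h2 : g (Submodule.Quotient.mk 1) = x := by
      change LinearMap.toSpanSingleton R E x 1 = x
      rw [LinearMap.toSpanSingleton_apply, one_smul]
    rw [h2] at h1
    rw [← h1]
    rfl

theorem mvβ_zero_surjective_of_injective (E : ModuleCat.{u} R) [Injective E] :
    Function.Surjective (mvβ I J 0 E) := by
  intro z
  have hE : Module.Injective R E := Module.injective_module_of_injective_object R E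
  obtain ⟨y, hy, w, hw, hxyw⟩ := exists_decomp_of_injective I J E (γ (I ⊓ J) z) (γ_mem _ z)
  obtain ⟨u, hu⟩ := exists_γ_eq I y hy
  obtain ⟨v, hv⟩ := exists_γ_eq J (-w) (Submodule.neg_mem _ hw)
  refine ⟨(u, v), ?_⟩
  apply γ_injective (I ⊓ J)
  rw [mvβ_apply, map_sub, γ_cmp, γ_cmp, hu, hv, hxyw, sub_neg_eq_add]

end AR

end DegreeZero

section Step
variable {R : Type u} [CommRing R] [IsNoetherianRing R] (I J : Ideal R)
variable {S : ShortComplex (ModuleCat.{u} R)} (hS : S.ShortExact) [Injective S.X₂]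

/-- `β` is surjective on injectives in every degree. -/
theorem mvβ_surjective_of_injective (i : ℕ) : Function.Surjective (mvβ I J i S.X₂) := by
  rcases i with _ | i
  · exact mvβ_zero_surjective_of_injective I J S.X₂
  · intro y
    have h1 : Subsingleton ((localCohomology (I ⊓ J) (i + 1)).obj S.X₂) :=
      subsingleton_of_injective (I ⊓ J) i S.X₂
    exact ⟨0, Subsingleton.elim _ _⟩

include hS in
/-- exactness at `B^{i+1}(M)` from exactness at `B^i(N)`. -/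
theorem mv_exact_step (i : ℕ)
    (hP : Function.Exact (mvα I J i S.X₃) (mvβ I J i S.X₃)) :
    Function.Exact (mvα I J (i + 1) S.X₁) (mvβ I J (i + 1) S.X₁) := by
  have hEI : Subsingleton ((localCohomology I (i + 1)).obj S.X₂) :=
    subsingleton_of_injective I i S.X₂
  have hEJ : Subsingleton ((localCohomology J (i + 1)).obj S.X₂) :=
    subsingleton_of_injective J i S.X₂
  intro y
  constructor
  · intro hy
    obtain ⟨z, rfl⟩ := δB_surjective_of_subsingleton I J i hS hEI hEJ y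
    rw [mvβ_δ] at hy
    obtain ⟨e', he'⟩ := exact₃ (I ⊓ J) i hS _ hy
    obtain ⟨e, rfl⟩ := mvβ_surjective_of_injective I J i e'
    rw [← mvβ_naturality] at he'
    have h0 : mvβ I J i S.X₃ (z - mapB I J i S.g e) = 0 := by
      rw [map_sub, he', sub_self]
    obtain ⟨w, hw⟩ := (hP _).1 h0
    refine ⟨δ _ i hS w, ?_⟩
    rw [mvα_δ, hw, map_sub, (exact_mapB_g_δB I J i hS _).2 ⟨e, rfl⟩, sub_zero]
  · rintro ⟨u, hu⟩
    rw [← hu]
    exact mvβ_mvα u

include hS in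
/-- the connecting map in degree `i+1` from the one in degree `i`. -/
theorem mv_connecting_step (i : ℕ)
    (dN : (localCohomology (I ⊓ J) i).obj S.X₃ →ₗ[R] (localCohomology (I ⊔ J) (i + 1)).obj S.X₃)
    (h1 : Function.Exact (mvβ I J i S.X₃) dN)
    (h2 : Function.Exact dN (mvα I J (i + 1) S.X₃)) :
    ∃ dM : (localCohomology (I ⊓ J) (i + 1)).obj S.X₁ →ₗ[R]
      (localCohomology (I ⊔ J) (i + 1 + 1)).obj S.X₁,
      Function.Exact (mvβ I J (i + 1) S.X₁) dM ∧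
      Function.Exact dM (mvα I J (i + 1 + 1) S.X₁) := by
  have hEI : ∀ j, Subsingleton ((localCohomology I (j + 1)).obj S.X₂) :=
    fun j => subsingleton_of_injective I j S.X₂
  have hEJ : ∀ j, Subsingleton ((localCohomology J (j + 1)).obj S.X₂) :=
    fun j => subsingleton_of_injective J j S.X₂
  have hEa : ∀ j, Subsingleton ((localCohomology (I ⊔ J) (j + 1)).obj S.X₂) :=
    fun j => subsingleton_of_injective _ j S.X₂
  have hEc : ∀ j, Subsingleton ((localCohomology (I ⊓ J) (j + 1)).obj S.X₂) :=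
    fun j => subsingleton_of_injective _ j S.X₂
  -- `δ_C` is surjective
  have hδC : Function.Surjective (δ (I ⊓ J) i hS) := by
    intro v
    exact exact₁ (I ⊓ J) i hS v (Subsingleton.elim _ _)
  -- kernel condition
  have hker : LinearMap.ker (δ (I ⊓ J) i hS) ≤
      LinearMap.ker ((δ (I ⊔ J) (i + 1) hS) ∘ₗ dN) := by
    intro z hz
    obtain ⟨e', rfl⟩ := exact₃ (I ⊓ J) i hS z hz
    obtain ⟨e, rfl⟩ := mvβ_surjective_of_injective I J i e'
    rw [← mvβ_naturality, LinearMap.mem_ker, LinearMap.comp_apply, (h1 _).2 ⟨_, rfl⟩, map_zero]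
  let dM := ((LinearMap.ker (δ (I ⊓ J) i hS)).liftQ
      ((δ (I ⊔ J) (i + 1) hS) ∘ₗ dN) hker) ∘ₗ
    ((δ (I ⊓ J) i hS).quotKerEquivOfSurjective hδC).symm.toLinearMap
  have hdM : ∀ z, dM (δ (I ⊓ J) i hS z) = δ (I ⊔ J) (i + 1) hS (dN z) := by
    intro z
    change ((LinearMap.ker (δ (I ⊓ J) i hS)).liftQ _ hker)
      (((δ (I ⊓ J) i hS).quotKerEquivOfSurjective hδC).symm (δ (I ⊓ J) i hS z)) = _
    rw [LinearMap.quotKerEquivOfSurjective_symm_apply]
    rfl
  refine ⟨dM, ?_, ?_⟩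
  · intro v
    constructor
    · intro hv
      obtain ⟨z, rfl⟩ := hδC v
      rw [hdM] at hv
      obtain ⟨e, he⟩ := exact₃ _ (i + 1) hS _ hv
      rw [Subsingleton.elim e 0, map_zero] at he
      obtain ⟨z₀, rfl⟩ := (h1 z).1 he.symm
      exact ⟨δB I J i hS z₀, mvβ_δ hS z₀⟩
    · rintro ⟨y, rfl⟩
      obtain ⟨z, rfl⟩ := δB_surjective_of_subsingleton I J i hS (hEI i) (hEJ i) y
      rw [mvβ_δ, hdM, (h1 _).2 ⟨_, rfl⟩, map_zero]
  · intro u
    constructor
    · intro hu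
      obtain ⟨w, rfl⟩ := exact₁ _ (i + 1) hS u (Subsingleton.elim _ _)
      rw [mvα_δ] at hu
      have hu1 : δ I (i + 1) hS (mvα I J (i + 1) S.X₃ w).1 = 0 := congrArg Prod.fst hu
      have hu2 : δ J (i + 1) hS (mvα I J (i + 1) S.X₃ w).2 = 0 := congrArg Prod.snd hu
      obtain ⟨e1, he1⟩ := exact₃ I (i + 1) hS _ hu1
      obtain ⟨e2, he2⟩ := exact₃ J (i + 1) hS _ hu2
      rw [Subsingleton.elim e1 0, map_zero] at he1
      rw [Subsingleton.elim e2 0, map_zero] at he2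
      have hw0 : mvα I J (i + 1) S.X₃ w = 0 := Prod.ext he1.symm he2.symm
      obtain ⟨z, rfl⟩ := (h2 w).1 hw0
      exact ⟨δ (I ⊓ J) i hS z, hdM z⟩
    · rintro ⟨v, rfl⟩
      obtain ⟨z, rfl⟩ := hδC v
      rw [hdM, mvα_δ, (h2 _).2 ⟨_, rfl⟩, map_zero]

include hS in
/-- the connecting map in degree `0`, by the snake lemma. -/
theorem mv_connecting_zero :
    ∃ dM : (localCohomology (I ⊓ J) 0).obj S.X₁ →ₗ[R]
      (localCohomology (I ⊔ J) (0 + 1)).obj S.X₁,
      Function.Exact (mvβ I J 0 S.X₁) dM ∧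
      Function.Exact dM (mvα I J (0 + 1) S.X₁) := by
  have hEa : Subsingleton ((localCohomology (I ⊔ J) (0 + 1)).obj S.X₂) :=
    subsingleton_of_injective _ 0 S.X₂
  have h₁ : (mvα I J 0 S.X₃).comp (Hmap (I ⊔ J) 0 S.g) =
      (mapB I J 0 S.g).comp (mvα I J 0 S.X₂) := by
    ext y
    · exact congrArg Prod.fst (mvα_naturality S.g y)
    · exact congrArg Prod.snd (mvα_naturality S.g y)
  have h₂ : (mvβ I J 0 S.X₃).comp (mapB I J 0 S.g) =
      (Hmap (I ⊓ J) 0 S.g).comp (mvβ I J 0 S.X₂) := by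
    apply LinearMap.ext
    intro e
    exact mvβ_naturality S.g e
  have hπ₁surj : Function.Surjective (δ (I ⊔ J) 0 hS) := by
    intro v
    exact exact₁ _ 0 hS v (Subsingleton.elim _ _)
  refine ⟨SnakeLemma.δ' (Hmap (I ⊔ J) 0 S.g) (mapB I J 0 S.g) (Hmap (I ⊓ J) 0 S.g)
    (mvα I J 0 S.X₂) (mvβ I J 0 S.X₂) (exact_mvα_mvβ_zero I J S.X₂)
    (mvα I J 0 S.X₃) (mvβ I J 0 S.X₃) (exact_mvα_mvβ_zero I J S.X₃)
    h₁ h₂ (Hmap (I ⊓ J) 0 S.f) (exact_Hmap_f_g (I ⊓ J) 0 hS)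
    (δ (I ⊔ J) 0 hS) (exact_Hmap_g_δ _ 0 hS)
    (mvβ_surjective_of_injective I J 0) (mvα_zero_injective I J S.X₃), ?_, ?_⟩
  · refine SnakeLemma.exact_δ'_right _ _ _ _ _ _ _ _ _ _ _ (mapB I J 0 S.f)
      (exact_mapB_f_g I J 0 hS) _ _ _ _ _ _ (mvβ I J 0 S.X₁) ?_ (Hmap_f_zero_injective (I ⊓ J) hS)
    apply LinearMap.ext
    intro m
    exact mvβ_naturality S.f m
  · refine SnakeLemma.exact_δ'_left _ _ _ _ _ _ _ _ _ _ _ _ _ _ _ (δB I J 0 hS)
      (exact_mapB_g_δB I J 0 hS) _ _ (mvα I J (0 + 1) S.X₁) ?_ hπ₁surj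
    apply LinearMap.ext
    intro w
    exact mvα_δ hS w

end Step

section Main
variable {R : Type u} [CommRing R] [IsNoetherianRing R] (I J : Ideal R)

/-- **Mayer–Vietoris** -/
theorem mayer_vietoris (i : ℕ) : ∀ (M : ModuleCat.{u} R),
    Function.Exact (mvα I J i M) (mvβ I J i M) ∧
    ∃ d : (localCohomology (I ⊓ J) i).obj M →ₗ[R] (localCohomology (I ⊔ J) (i + 1)).obj M,
      Function.Exact (mvβ I J i M) d ∧ Function.Exact d (mvα I J (i + 1) M) := by
  induction i with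
  | zero =>
    intro M
    obtain ⟨S, hS, rfl, hE⟩ := exists_injective_ses M
    exact ⟨exact_mvα_mvβ_zero I J S.X₁, mv_connecting_zero I J hS⟩
  | succ i ih =>
    intro M
    obtain ⟨S, hS, rfl, hE⟩ := exists_injective_ses M
    obtain ⟨hP, d, h1, h2⟩ := ih S.X₃
    exact ⟨mv_exact_step I J hS i hP, mv_connecting_step I J hS i d h1 h2⟩

end Main

end Groth.Agent.Lib.Helper92.LC
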