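import Mathlib
import Groth.Agent.Lib.Helper70.FittRes

set_option autoImplicit false
set_option linter.style.haveILetI false

universe u

open MvPolynomial Algebra

namespace Groth.Agent.Lib.Helper92.FAdicG1

section Abstract

variable {k B : Type u} [CommRing k] [CommRing B] [Algebra k B] (E : Algebra.Extension.{u} k B)

/-- the explicit conormal map is injective for an `H_1`-regular generating family -/
theorem conormal_injective {c : ℕ} (a : Fin c → E.Ring) (hk : Ideal.span (Set.range a) = E.ker)
    (hH : CAlgX.IsH1Regular a) (hmem : ∀ j, a j ∈ E.ker) :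
    Function.Injective
      (Fintype.linearCombination B fun j => Extension.Cotangent.mk (P := E) ⟨a j, hmem j⟩) := by
  rw [← LinearMap.ker_eq_bot, LinearMap.ker_eq_bot']
  intro v hv
  choose p hp using fun j => E.algebraMap_surjective (v j)
  have h1 : Fintype.linearCombination B (fun j => Extension.Cotangent.mk ⟨a j, hmem j⟩) v =
      Extension.Cotangent.mk
      ⟨∑ j, p j * a j, Ideal.sum_mem _ fun j _ => Ideal.mul_mem_left _ _ (hmem j)⟩ := by
    have : (⟨∑ j, p j * a j, Ideal.sum_mem _ fun j _ => Ideal.mul_mem_left _ _ (hmem j)⟩ :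
        E.ker) = ∑ j, p j • (⟨a j, hmem j⟩ : E.ker) := by
      ext
      simp
    rw [this, map_sum]
    simp only [Fintype.linearCombination_apply, map_smul]
    refine Finset.sum_congr rfl fun j _ => ?_
    rw [← hp j, algebraMap_smul]
  rw [h1, Extension.Cotangent.mk_eq_zero_iff] at hv
  funext j
  have h2 := Groth.Agent.Lib.Helper70.LCIH1.coeff_mem_of_isH1Regular a hH p
    (by rw [hk]; exact hv) j
  rw [hk] at h2
  rw [Pi.zero_apply, ← hp j]
  exact h2

end Abstract


theorem jacobian_injective (k : Type u) [Field k] [IsAlgClosed k] (r c : ℕ) (B₀ : Type u) [CommRing B₀] [Algebra k B₀] [IsReduced B₀] (φ : MvPolynomial (Fin r) k →ₐ[k] B₀) (hφ : Function.Surjective φ) (a : Fin c → MvPolynomial (Fin r) k) (ha : RingTheory.Sequence.IsRegular (MvPolynomial (Fin r) k) (List.ofFn a)) (hker : RingHom.ker φ.toRingHom = Ideal.span (Set.range a)) : Function.Injective (fun (v : Fin c → B₀) (j : Fin r) => ∑ i, v i * φ (MvPolynomial.pderiv j (a i))) := by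
  classical
  let G : Algebra.Generators k B₀ (Fin r) := Algebra.Generators.ofAlgHom φ hφ
  have haev : (aeval (φ ∘ X) : MvPolynomial (Fin r) k →ₐ[k] B₀) = φ := by
    ext i
    simp
  have halg : ∀ p : MvPolynomial (Fin r) k, algebraMap G.Ring B₀ p = φ p := by
    intro p
    rw [Algebra.Generators.algebraMap_apply]
    exact DFunLike.congr_fun haev p
  have hkerE : Ideal.span (Set.range a) = RingHom.ker (algebraMap G.Ring B₀) := by
    rw [← hker]
    ext p
    exact (RingHom.mem_ker).trans ((by rw [halg p]) : φ p = 0 ↔ algebraMap G.Ring B₀ p = 0)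
      |>.trans (RingHom.mem_ker).symm
  -- lci
  have hlci : LCI.IsLCI k B₀ := by
    refine ⟨Algebra.FiniteType.of_surjective φ hφ, r, φ, hφ, ?_⟩
    rw [hker]
    have h1 := Groth.Agent.Lib.Helper43.KRPoly.isKoszulRegularIdeal_of_seq (List.ofFn a)
      (Helper98.KoszulLES.koszul_of_weaklyRegular (List.ofFn a) ha.1).1
    convert h1 using 1
    simp [Ideal.ofList, Set.range, List.mem_ofFn]
  -- generic smoothness
  have hgs : ∀ (p : Ideal B₀) [p.IsPrime], p ∈ minimalPrimes B₀ →
      Algebra.FormallySmooth k (Localization.AtPrime p) := by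
    intro p _ hp
    haveI : Ring.KrullDimLE 0 (Localization.AtPrime p) :=
      Ring.KrullDimLE.of_isLocalization p hp _
    have hF : IsField (Localization.AtPrime p) := Ring.KrullDimLE.isField_of_isReduced
    letI : Field (Localization.AtPrime p) := hF.toField
    haveI : Algebra.FiniteType k B₀ := Algebra.FiniteType.of_surjective φ hφ
    haveI : Algebra.EssFiniteType B₀ (Localization.AtPrime p) :=
      Algebra.EssFiniteType.of_isLocalization _ p.primeCompl
    haveI : Algebra.EssFiniteType k (Localization.AtPrime p) :=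
      Algebra.EssFiniteType.comp k B₀ _
    exact Algebra.FormallySmooth.of_perfectField
  have hH1 : Subsingleton (Algebra.H1Cotangent k B₀) := Groth.Agent.S16713.result k B₀ hlci hgs
  have hH1' : Subsingleton G.toExtension.H1Cotangent := G.equivH1Cotangent.subsingleton
  have hinj : Function.Injective G.toExtension.cotangentComplex :=
    (Extension.subsingleton_h1Cotangent G.toExtension).mp hH1'
  have hH : CAlgX.IsH1Regular a :=
    Groth.Agent.Lib.Helper76.KosLen.isH1_of_isWeaklyRegular c _ a ha.1
  -- explicit conormal map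
  set E := G.toExtension with hE
  have hk : Ideal.span (Set.range a) = E.ker := hkerE
  have hmem : ∀ j, a j ∈ E.ker := fun j => hk ▸ Ideal.subset_span ⟨j, rfl⟩
  let ψ : (Fin c → B₀) →ₗ[B₀] E.Cotangent :=
    Fintype.linearCombination B₀ fun j => Extension.Cotangent.mk ⟨a j, hmem j⟩
  have hψinj : Function.Injective ψ := conormal_injective E a hk hH hmem
  let b := G.cotangentSpaceBasis
  let F : (Fin c → B₀) →ₗ[B₀] (Fin r → B₀) :=
    b.equivFun.toLinearMap ∘ₗ E.cotangentComplex ∘ₗ ψ
  have hF : Function.Injective F := b.equivFun.injective.comp (hinj.comp hψinj)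
  have hFv : ∀ v : Fin c → B₀, F v = fun j => ∑ i, v i * φ (MvPolynomial.pderiv j (a i)) := by
    intro v
    funext j
    simp only [F, ψ, LinearMap.comp_apply, LinearEquiv.coe_coe, Fintype.linearCombination_apply,
      map_sum, map_smul, Module.Basis.equivFun_apply, Finset.sum_apply, Pi.smul_apply, smul_eq_mul]
    refine Finset.sum_congr rfl fun i _ => ?_
    congr 1
    rw [Extension.cotangentComplex_mk]
    rw [Algebra.Generators.cotangentSpaceBasis_repr_one_tmul]
    exact DFunLike.congr_fun haev _
  intro v v' hvv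
  apply hF
  rw [hFv, hFv]
  exact hvv

end Groth.Agent.Lib.Helper92.FAdicG1
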