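import Mathlib
import Groth.Agent.Lib.Helper77.FamIndep
set_option autoImplicit false
set_option linter.style.haveILetI false
universe u
open TensorProduct
open scoped Pointwise

namespace Groth.Agent.Lib.Helper92.AdicFamFI

open IsLocalRing

/-- (FI') family independence modulo an ideal -/
theorem mem_of_family_flat_mod {A' : Type u} [CommRing A'] [IsLocalRing A'] (I' : Ideal A') (hI' : I' ≠ ⊤)
    {Λ : Type u} (N : Λ → Type u) [∀ l, AddCommGroup (N l)] [∀ l, Module A' (N l)]
    [∀ l, Module.Flat A' (N l)] {J : Type u} (s : Finset J) (w : J → ∀ l, N l) (a : J → A')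
    (hJI : ∀ b : J → A', (∀ l, ∑ j ∈ s, b j • w j l ∈
      IsLocalRing.maximalIdeal A' • (⊤ : Submodule A' (N l))) →
      ∀ j ∈ s, b j ∈ IsLocalRing.maximalIdeal A')
    (hrel : ∀ l, ∑ j ∈ s, a j • w j l ∈ I' • (⊤ : Submodule A' (N l))) : ∀ j ∈ s, a j ∈ I' := by
  classical
  haveI : Nontrivial (A' ⧸ I') := Ideal.Quotient.nontrivial_iff.2 hI'
  haveI : IsLocalRing (A' ⧸ I') :=
    IsLocalRing.of_surjective' (Ideal.Quotient.mk I') Ideal.Quotient.mk_surjective
  have hcomap : (maximalIdeal (A' ⧸ I')).comap (Ideal.Quotient.mk I') = maximalIdeal A' := by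
    haveI : ((maximalIdeal (A' ⧸ I')).comap (Ideal.Quotient.mk I')).IsMaximal :=
      Ideal.comap_isMaximal_of_surjective _ Ideal.Quotient.mk_surjective
    exact IsLocalRing.eq_maximalIdeal this
  have hI'm : I' ≤ maximalIdeal A' := IsLocalRing.le_maximalIdeal hI'
  -- the key: `1 ⊗ y ∈ m̄ • ⊤` implies `y ∈ m • ⊤`
  have key : ∀ (l : Λ) (y : N l),
      ((1 : A' ⧸ I') ⊗ₜ[A'] y) ∈ maximalIdeal (A' ⧸ I') • (⊤ : Submodule (A' ⧸ I') ((A' ⧸ I') ⊗[A'] N l)) →
      y ∈ maximalIdeal A' • (⊤ : Submodule A' (N l)) := by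
    intro l y hy
    let fac : (A' ⧸ I') →ₗ[A'] (A' ⧸ maximalIdeal A') :=
      (Ideal.Quotient.factorₐ A' hI'm).toLinearMap
    let ψ : (A' ⧸ I') ⊗[A'] N l →ₗ[A'] (A' ⧸ maximalIdeal A') ⊗[A'] N l :=
      LinearMap.rTensor (N l) fac
    have hψ0 : ∀ z ∈ maximalIdeal (A' ⧸ I') • (⊤ : Submodule (A' ⧸ I') ((A' ⧸ I') ⊗[A'] N l)),
        ψ z = 0 := by
      intro z hz
      refine Submodule.smul_induction_on hz ?_ ?_
      · intro c hc z _
        obtain ⟨c, rfl⟩ := Ideal.Quotient.mk_surjective c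
        have hcm : c ∈ maximalIdeal A' := by
          rw [← hcomap]; exact hc
        have : (Ideal.Quotient.mk I' c) • z = c • z := by
          rw [← Ideal.Quotient.algebraMap_eq, algebraMap_smul]
        rw [this, map_smul]
        induction ψ z using TensorProduct.induction_on with
        | zero => simp
        | tmul x n =>
          rw [TensorProduct.smul_tmul']
          have : c • x = 0 := by
            obtain ⟨x, rfl⟩ := Ideal.Quotient.mk_surjective x
            rw [Algebra.smul_def, Ideal.Quotient.algebraMap_eq, ← map_mul,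
              Ideal.Quotient.eq_zero_iff_mem]
            exact Ideal.mul_mem_right _ _ hcm
          rw [this, TensorProduct.zero_tmul]
        | add x y hx hy => rw [smul_add, hx, hy, add_zero]
      · intro x y hx hy
        rw [map_add, hx, hy, add_zero]
    have h1 : ψ ((1 : A' ⧸ I') ⊗ₜ[A'] y) = (1 : A' ⧸ maximalIdeal A') ⊗ₜ[A'] y := by
      simp [ψ, fac]
    have h2 := hψ0 _ hy
    rw [h1] at h2
    rw [← LinearMap.ker_tensorProductMk (R := A') (Q := N l) (I := maximalIdeal A')]
    exact h2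
  -- apply the family lemma over the quotient ring
  have main := Groth.Agent.Lib.Helper77.FamIndep.eq_zero_of_family_flat (A' := A' ⧸ I')
    (fun l => (A' ⧸ I') ⊗[A'] N l) s (fun j l => (1 : A' ⧸ I') ⊗ₜ[A'] w j l)
    (fun j => Ideal.Quotient.mk I' (a j)) ?_ ?_
  · intro j hj
    exact Ideal.Quotient.eq_zero_iff_mem.1 (main j hj)
  · intro b' hb'
    choose b hb using fun j => Ideal.Quotient.mk_surjective (b' j)
    have h3 := hJI b (fun l => by
      apply key
      have := hb' l
      have e : ∑ j ∈ s, b' j • ((1 : A' ⧸ I') ⊗ₜ[A'] w j l) =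
          (1 : A' ⧸ I') ⊗ₜ[A'] (∑ j ∈ s, b j • w j l) := by
        rw [TensorProduct.tmul_sum]
        refine Finset.sum_congr rfl fun j _ => ?_
        rw [← hb j, TensorProduct.tmul_smul, ← Ideal.Quotient.algebraMap_eq, algebraMap_smul]
      rw [e] at this
      exact this)
    intro j hj
    have := h3 j hj
    rw [← hcomap] at this
    rw [← hb j]
    exact this
  · intro l
    have e : ∑ j ∈ s, (Ideal.Quotient.mk I' (a j)) • ((1 : A' ⧸ I') ⊗ₜ[A'] w j l) =
        (1 : A' ⧸ I') ⊗ₜ[A'] (∑ j ∈ s, a j • w j l) := by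
      rw [TensorProduct.tmul_sum]
      refine Finset.sum_congr rfl fun j _ => ?_
      rw [TensorProduct.tmul_smul, ← Ideal.Quotient.algebraMap_eq, algebraMap_smul]
    rw [e]
    have := hrel l
    rw [← LinearMap.ker_tensorProductMk (R := A') (Q := N l) (I := I')] at this
    exact this

end Groth.Agent.Lib.Helper92.AdicFamFI
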