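import Mathlib
import Groth.Prelude.Def_GrLC

/-!
# Homogeneous multiplicative set outside a graded prime (helper92, for S18636)
-/

set_option autoImplicit false
universe u

namespace Groth.Agent.Lib.Helper92.BassGr

variable {R : Type u} [CommRing R] (𝒜 : ℤ → AddSubgroup R) [GradedRing 𝒜]

/-- The multiplicative set of homogeneous elements outside the prime `q`. -/
def homCompl (q : Ideal R) [hq : q.IsPrime] : Submonoid R where
  carrier := {h | SetLike.IsHomogeneousElem 𝒜 h ∧ h ∉ q}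
  one_mem' := ⟨⟨0, SetLike.GradedOne.one_mem⟩,
    fun h => hq.ne_top ((Ideal.eq_top_iff_one q).2 h)⟩
  mul_mem' := by
    rintro a b ⟨⟨i, ha⟩, ha'⟩ ⟨⟨j, hb⟩, hb'⟩
    exact ⟨⟨i + j, SetLike.GradedMul.mul_mem ha hb⟩,
      fun h => (hq.mem_or_mem h).elim ha' hb'⟩

theorem mem_homCompl (q : Ideal R) [q.IsPrime] (h : R) :
    h ∈ homCompl 𝒜 q ↔ SetLike.IsHomogeneousElem 𝒜 h ∧ h ∉ q := Iff.rfl

end Groth.Agent.Lib.Helper92.BassGr
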