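import Mathlib
set_option autoImplicit false
universe u
open scoped HomogeneousIdeal

namespace Groth.Agent.Lib.Helper92.VAG1

theorem map_mem_of_isSymmetricAlgebra {R M T A : Type u} [CommRing R] [AddCommGroup M] [Module R M] [CommRing T] [Algebra R T] [CommRing A] (𝒯 : ℕ → AddSubgroup T) [GradedRing 𝒯] (𝒜 : ℕ → AddSubgroup A) [GradedRing 𝒜] (ι : M →ₗ[R] T) (hι : IsSymmetricAlgebra ι) (ψ : T →+* A) (h0 : ∀ r, algebraMap R T r ∈ 𝒯 0) (h0' : ∀ r, ψ (algebraMap R T r) ∈ 𝒜 0) (h1 : ∀ m, ι m ∈ 𝒯 1) (h1' : ∀ m, ψ (ι m) ∈ 𝒜 1) : ∀ (n : ℕ) (x : T), x ∈ 𝒯 n → ψ x ∈ 𝒜 n := by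
  classical
  have key : ∀ x : T, ∀ k, ψ (DirectSum.decompose 𝒯 x k) ∈ 𝒜 k := by
    intro x
    induction x using hι.induction with
    | algebraMap r =>
      intro k
      by_cases hk : k = 0
      · subst hk
        rw [DirectSum.decompose_of_mem_same _ (h0 r)]
        exact h0' r
      · rw [DirectSum.decompose_of_mem_ne _ (h0 r) (Ne.symm hk)]
        simp
    | ι m =>
      intro k
      by_cases hk : k = 1
      · subst hk
        rw [DirectSum.decompose_of_mem_same _ (h1 m)]
        exact h1' m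
      · rw [DirectSum.decompose_of_mem_ne _ (h1 m) (Ne.symm hk)]
        simp
    | mul a b ha hb =>
      intro k
      rw [DirectSum.decompose_mul, DirectSum.coe_mul_apply, map_sum]
      refine sum_mem ?_
      intro ij hij
      rw [map_mul]
      have := (Finset.mem_filter.1 hij).2
      rw [← this]
      exact SetLike.mul_mem_graded (ha _) (hb _)
    | add a b ha hb =>
      intro k
      rw [DirectSum.decompose_add, DirectSum.add_apply, AddSubgroup.coe_add, map_add]
      exact add_mem (ha k) (hb k)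
  intro n x hx
  have := key x n
  rwa [DirectSum.decompose_of_mem_same _ hx] at this

end Groth.Agent.Lib.Helper92.VAG1
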