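import Groth.Agent.Lib.Helper92.HLVTConn
import Groth.Agent.Lib.Helper48.ConnDim
import Groth.Agent.S11680

/-!
# Connectedness dimension of `Spec R`: ring-theoretic tools (helper92)
-/

set_option autoImplicit false
universe u

open CategoryTheory IsLocalRing

namespace Groth.Agent.Lib.Helper92.ConnDimRing

open Groth.Agent.Lib.Helper92 Groth.Agent.Lib.Helper92.HLVT Groth.Agent.Lib.Helper67.FlatDim

section Dim

variable {R : Type u} [CommRing R]

/-- `dim R/K ≤ N` as soon as `dim R/r ≤ N` for all primes `r ⊇ K` -/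
theorem ringKrullDim_quotient_le_of_forall_prime (K : Ideal R) (N : WithBot ℕ∞)
    (h : ∀ r : Ideal R, r.IsPrime → K ≤ r → ringKrullDim (R ⧸ r) ≤ N) :
    ringKrullDim (R ⧸ K) ≤ N := by
  rw [ringKrullDim_quotient]
  have hup : IsUpperSet (PrimeSpectrum.zeroLocus (R := R) (K : Set R)) := by
    intro a b hab ha
    exact le_trans (show (K : Set R) ⊆ a.asIdeal from ha) hab
  rw [Order.krullDim_eq_iSup_coheight]
  apply iSup_le
  rintro ⟨a, ha⟩
  rw [coheight_subtype_of_isUpperSet hup, ← SDim.ringKrullDim_quotient_eq_coheight a]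
  exact h a.asIdeal a.2 ha

theorem exists_prime_of_lt_dim (K : Ideal R) (N : WithBot ℕ∞) (h : N < ringKrullDim (R ⧸ K)) :
    ∃ r : Ideal R, r.IsPrime ∧ K ≤ r ∧ N < ringKrullDim (R ⧸ r) := by
  by_contra hcon
  push Not at hcon
  exact absurd (ringKrullDim_quotient_le_of_forall_prime K N hcon) (not_le.2 h)

theorem dim_quotient_anti {K K' : Ideal R} (h : K ≤ K') :
    ringKrullDim (R ⧸ K') ≤ ringKrullDim (R ⧸ K) :=
  ringKrullDim_le_of_surjective (Ideal.Quotient.factor h) (Ideal.Quotient.factor_surjective h)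

theorem exists_nat_dim (A : Type u) [CommRing A] [IsNoetherianRing A] [IsLocalRing A] :
    ∃ n : ℕ, ringKrullDim A = (n : WithBot ℕ∞) := by
  have hfin : ringKrullDim A < ⊤ := ringKrullDim_lt_top
  have h0 : (0 : WithBot ℕ∞) ≤ ringKrullDim A := ringKrullDim_nonneg_of_nontrivial
  generalize ringKrullDim A = x at hfin h0
  induction x using WithBot.recBotCoe with
  | bot => exact absurd h0 (by simp)
  | coe m =>
    induction m using ENat.recTopCoe with
    | top => exact absurd hfin (lt_irrefl _)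
    | coe n => exact ⟨n, rfl⟩

theorem prime_sInf_le {S : Set (Ideal R)} (hS : S.Finite) {Q : Ideal R} (hQ : Q.IsPrime)
    (h : sInf S ≤ Q) : ∃ p ∈ S, p ≤ Q := by
  classical
  have h1 : hS.toFinset.inf id ≤ Q := by
    rw [Finset.inf_id_eq_sInf, Set.Finite.coe_toFinset]
    exact h
  obtain ⟨p, hp, hle⟩ := (Ideal.IsPrime.inf_le' hQ).1 h1
  exact ⟨p, (Set.Finite.mem_toFinset hS).1 hp, hle⟩

end Dim

section CD

variable {R : Type u} [CommRing R] [IsNoetherianRing R]

/-- cohomological dimension does not increase on passing to a quotient ring -/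
theorem cdLE_quotient (J : Ideal R) (k : ℕ) (h : LocCoh.CdLE R J k) (r : Ideal R) :
    LocCoh.CdLE (R ⧸ r) (J.map (Ideal.Quotient.mk r)) k := by
  intro N _ _ i hi
  letI : Module R N := Module.compHom N (Ideal.Quotient.mk r)
  haveI : IsScalarTower R (R ⧸ r) N := IsScalarTower.of_compHom R (R ⧸ r) N
  obtain ⟨φ, -⟩ := Helper98.CechRestrict.lc_restrict (R := R) (R' := R ⧸ r) J N i
  have := h N i hi
  exact φ.toEquiv.subsingleton

variable [IsLocalRing R]

/-- the basic bound `dim R ≤ cd(J) + dim R/J` -/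
theorem dim_le_cd_add_dim (J : Ideal R) (hJ : J ≠ ⊤) (k : ℕ) (h : LocCoh.CdLE R J k) :
    ringKrullDim R ≤ (k : WithBot ℕ∞) + ringKrullDim (R ⧸ J) := by
  obtain ⟨t, ht, hcard, hrad⟩ := exists_finset_primary J hJ
  have hfin : ringKrullDim R < ⊤ := ringKrullDim_lt_top
  have h0 : (0 : WithBot ℕ∞) ≤ ringKrullDim R := ringKrullDim_nonneg_of_nontrivial
  obtain ⟨n, hn⟩ : ∃ n : ℕ, ringKrullDim R = (n : WithBot ℕ∞) := by
    generalize ringKrullDim R = x at hfin h0
    induction x using WithBot.recBotCoe with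
    | bot => exact absurd h0 (by simp)
    | coe m =>
      induction m using ENat.recTopCoe with
      | top => exact absurd hfin (lt_irrefl _)
      | coe n => exact ⟨n, rfl⟩
  have hsd : Module.supportDim R R = (n : WithBot ℕ∞) := by
    rw [Module.supportDim_self_eq_ringKrullDim, hn]
  have hnt := LC.nontrivial_top (R := R) R n hsd
  have hcd : LocCoh.CdLE R (maximalIdeal R) (k + t.card) := by
    refine cdLE_of_radical_eq ?_ _ (cdLE_sup_span_finset J k h t)
    rw [hrad, (maximalIdeal.isMaximal R).isPrime.radical]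
  have hle : n ≤ k + t.card := by
    by_contra hcon
    exact not_subsingleton_iff_nontrivial.2 hnt (hcd R n (not_le.1 hcon))
  rw [hn]
  have h1 : ((n : ℕ) : WithBot ℕ∞) ≤ (k : WithBot ℕ∞) + (t.card : WithBot ℕ∞) := by
    exact_mod_cast hle
  exact h1.trans (add_le_add_right hcard _)

end CD

section Top

open PrimeSpectrum

variable {R : Type u} [CommRing R]

/-- Lemma U: an upper bound for the connectedness dimension of `Spec R` -/
theorem connDim_le_of_ideals (a b : Ideal R)
    (hcov : ∀ Q : Ideal R, Q.IsPrime → a ≤ Q ∨ b ≤ Q)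
    (ha : ∃ Q : Ideal R, Q.IsPrime ∧ ¬ a ≤ Q) (hb : ∃ Q : Ideal R, Q.IsPrime ∧ ¬ b ≤ Q) :
    LocCoh.connDim (PrimeSpectrum R) ≤ ringKrullDim (R ⧸ (a ⊔ b)) := by
  rw [← Groth.Agent.S11680.dim_zeroLocus R (a ⊔ b)]
  have hZ : zeroLocus ((a ⊔ b : Ideal R) : Set R) = zeroLocus (a : Set R) ∩ zeroLocus (b : Set R) := by
    ext x
    simp only [mem_zeroLocus, SetLike.coe_subset_coe, Set.mem_inter_iff, sup_le_iff]
  rw [hZ]
  apply Groth.Agent.Lib.Helper48.connDim_le_of _
    ((isClosed_zeroLocus _).inter (isClosed_zeroLocus _))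
  apply Groth.Agent.Lib.Helper48.not_isConnected_compl_inter (isClosed_zeroLocus _)
    (isClosed_zeroLocus _)
  · ext x
    simp only [Set.mem_union, mem_zeroLocus, SetLike.coe_subset_coe, Set.mem_univ, iff_true]
    exact hcov x.asIdeal x.2
  · obtain ⟨Q, hQ, hne⟩ := ha
    exact ⟨⟨Q, hQ⟩, by simpa [mem_zeroLocus] using hne⟩
  · obtain ⟨Q, hQ, hne⟩ := hb
    exact ⟨⟨Q, hQ⟩, by simpa [mem_zeroLocus] using hne⟩

/-- the subdimension of `Spec R` is at most `dim R/p` for every minimal prime `p` -/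
theorem subdim_le_of_minimalPrime (p : Ideal R) (hp : p ∈ minimalPrimes R) :
    LocCoh.subdim (PrimeSpectrum R) ≤ ringKrullDim (R ⧸ p) := by
  rw [← Groth.Agent.S11680.dim_zeroLocus R p]
  have hmem : zeroLocus (p : Set R) ∈ irreducibleComponents (PrimeSpectrum R) := by
    rw [← zeroLocus_minimalPrimes]
    exact ⟨p, hp, rfl⟩
  exact iInf₂_le (zeroLocus (p : Set R)) hmem

end Top

end Groth.Agent.Lib.Helper92.ConnDimRing
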