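import Groth.Agent.Lib.Helper67.FlatDim
import Groth.Agent.Lib.Helper92.LocCohGV
import Mathlib.RingTheory.Ideal.AssociatedPrime.Localization

/-! The largest submodule of dimension `< n` of a finite module of dimension `n`. -/

open CategoryTheory CategoryTheory.Limits Opposite

namespace Groth.Agent.Lib.Helper92.SDim

open Groth.Agent.Lib.Helper67.FlatDim

universe u
variable {R : Type u} [CommRing R] {M : Type u} [AddCommGroup M] [Module R M]

/-- dimension of a submodule and quotient -/
theorem supportDim_eq_max (N : Submodule R M) :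
    Module.supportDim R M = max (Module.supportDim R N) (Module.supportDim R (M ⧸ N)) :=
  supportDim_of_exact N.subtype N.mkQ (LinearMap.exact_subtype_mkQ N)
    N.injective_subtype N.mkQ_surjective

theorem supportDim_sup_le (N₁ N₂ : Submodule R M) :
    Module.supportDim R ↥(N₁ ⊔ N₂) ≤ max (Module.supportDim R N₁) (Module.supportDim R N₂) := by
  -- `N₁ → N₁ ⊔ N₂ → (N₁ ⊔ N₂)/N₁ ≅ N₂/(N₁ ⊓ N₂)`
  let ι : N₁ →ₗ[R] ↥(N₁ ⊔ N₂) := Submodule.inclusion le_sup_left
  have hι : Function.Injective ι := Submodule.inclusion_injective _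
  have h1 := supportDim_of_exact ι (LinearMap.range ι).mkQ (LinearMap.exact_map_mkQ_range ι) hι
    (Submodule.mkQ_surjective _)
  rw [h1]
  apply max_le_max le_rfl
  -- the quotient is a quotient of `N₂`
  let g : N₂ →ₗ[R] (↥(N₁ ⊔ N₂) ⧸ LinearMap.range ι) :=
    (LinearMap.range ι).mkQ ∘ₗ Submodule.inclusion le_sup_right
  have hg : Function.Surjective g := by
    intro y
    obtain ⟨⟨x, hx⟩, rfl⟩ := Submodule.mkQ_surjective _ y
    obtain ⟨a, ha, b, hb, rfl⟩ := Submodule.mem_sup.1 hx
    refine ⟨⟨b, hb⟩, ?_⟩
    change (LinearMap.range ι).mkQ _ = (LinearMap.range ι).mkQ _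
    rw [← sub_eq_zero, ← map_sub, Submodule.mkQ_apply, Submodule.Quotient.mk_eq_zero]
    refine ⟨⟨-a, N₁.neg_mem ha⟩, ?_⟩
    apply Subtype.ext
    simp [ι]
  exact Module.supportDim_le_of_surjective g hg

variable [IsNoetherianRing R] [Module.Finite R M]

/-- existence of the largest submodule of dimension `< d` -/
theorem exists_largest (d : WithBot ℕ∞) (hd : ⊥ < d) :
    ∃ N : Submodule R M, Module.supportDim R N < d ∧
      ∀ N' : Submodule R M, Module.supportDim R N' < d → N' ≤ N := by
  have hne : {N : Submodule R M | Module.supportDim R N < d}.Nonempty := by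
    refine ⟨⊥, ?_⟩
    change Module.supportDim R (⊥ : Submodule R M) < d
    rw [Module.supportDim_eq_bot_of_subsingleton]
    exact hd
  have hwf : WellFoundedGT (Submodule R M) := inferInstance
  obtain ⟨N, hN, hmax⟩ := hwf.wf.has_min _ hne
  refine ⟨N, hN, fun N' hN' => ?_⟩
  have hsup : Module.supportDim R ↥(N ⊔ N') < d :=
    lt_of_le_of_lt (supportDim_sup_le N N') (max_lt hN hN')
  by_contra hle
  have hlt : N < N ⊔ N' := lt_of_le_of_ne le_sup_left (fun h => hle (h ▸ le_sup_right))
  exact hmax _ hsup hlt

omit [IsNoetherianRing R] [Module.Finite R M] in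
/-- `dim R/p` is the coheight of `p` -/
theorem ringKrullDim_quotient_eq_coheight (p : PrimeSpectrum R) :
    ringKrullDim (R ⧸ p.asIdeal) = Order.coheight p := by
  rw [ringKrullDim_quotient]
  have hup : IsUpperSet (PrimeSpectrum.zeroLocus (R := R) (p.asIdeal : Set R)) := by
    intro a b hab ha
    exact le_trans (show (p.asIdeal : Set R) ⊆ a.asIdeal from ha) hab
  apply le_antisymm
  · rw [Order.krullDim_eq_iSup_coheight]
    apply iSup_le
    rintro ⟨a, ha⟩
    rw [coheight_subtype_of_isUpperSet hup]
    exact WithBot.coe_le_coe.2 (Order.coheight_anti (show p ≤ a from ha))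
  · have hp : p ∈ PrimeSpectrum.zeroLocus (R := R) (p.asIdeal : Set R) := le_refl p.asIdeal
    have := Order.coheight_le_krullDim (⟨p, hp⟩ : PrimeSpectrum.zeroLocus (R := R) (p.asIdeal : Set R))
    rwa [coheight_subtype_of_isUpperSet hup] at this

omit [IsNoetherianRing R] [Module.Finite R M] in
theorem ringKrullDim_quotient_add_one_le {q p : Ideal R} [q.IsPrime] [p.IsPrime] (h : q < p) :
    ringKrullDim (R ⧸ p) + 1 ≤ ringKrullDim (R ⧸ q) := by
  have := ringKrullDim_quotient_eq_coheight (⟨p, inferInstance⟩ : PrimeSpectrum R)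
  have h2 := ringKrullDim_quotient_eq_coheight (⟨q, inferInstance⟩ : PrimeSpectrum R)
  change ringKrullDim (R ⧸ p) = _ at this
  change ringKrullDim (R ⧸ q) = _ at h2
  rw [this, h2]
  have h3 := Order.coheight_add_one_le (a := (⟨p, inferInstance⟩ : PrimeSpectrum R))
    (b := (⟨q, inferInstance⟩ : PrimeSpectrum R)) h
  exact_mod_cast h3

section Quot

variable (n : ℕ) (hn : Module.supportDim R M = n) (N : Submodule R M)
  (hN : Module.supportDim R N < n)
  (hmax : ∀ N' : Submodule R M, Module.supportDim R N' < n → N' ≤ N)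

include hn hN in
omit [IsNoetherianRing R] [Module.Finite R M] in
theorem supportDim_quotient_eq : Module.supportDim R (M ⧸ N) = n := by
  have h := supportDim_eq_max N
  rw [hn] at h
  rcases le_total (Module.supportDim R N) (Module.supportDim R (M ⧸ N)) with h1 | h1
  · rw [max_eq_right h1] at h
    exact h.symm
  · rw [max_eq_left h1] at h
    exact absurd h.symm (ne_of_lt hN)

include hN hmax in
omit [IsNoetherianRing R] [Module.Finite R M] in
theorem eq_bot_of_supportDim_lt (L : Submodule R (M ⧸ N)) (hL : Module.supportDim R L < n) :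
    L = ⊥ := by
  let N' : Submodule R M := L.comap N.mkQ
  have hNN' : N ≤ N' := by
    intro x hx
    change N.mkQ x ∈ L
    rw [Submodule.mkQ_apply, (Submodule.Quotient.mk_eq_zero N).2 hx]
    exact L.zero_mem
  let f : N →ₗ[R] N' := Submodule.inclusion hNN'
  let g : N' →ₗ[R] L := N.mkQ.restrict (fun x hx => hx)
  have hf : Function.Injective f := Submodule.inclusion_injective _
  have hg : Function.Surjective g := by
    rintro ⟨y, hy⟩
    obtain ⟨x, rfl⟩ := N.mkQ_surjective y
    exact ⟨⟨x, hy⟩, rfl⟩
  have hex : Function.Exact f g := by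
    intro x
    constructor
    · intro hx
      have hx' : N.mkQ x.1 = 0 := congrArg Subtype.val hx
      rw [Submodule.mkQ_apply, Submodule.Quotient.mk_eq_zero] at hx'
      exact ⟨⟨x.1, hx'⟩, Subtype.ext rfl⟩
    · rintro ⟨y, rfl⟩
      apply Subtype.ext
      change N.mkQ y.1 = 0
      rw [Submodule.mkQ_apply, Submodule.Quotient.mk_eq_zero]
      exact y.2
  have hdim := supportDim_of_exact f g hex hf hg
  have hlt : Module.supportDim R N' < n := by
    rw [hdim]
    exact max_lt hN hL
  have hle := hmax N' hlt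
  rw [eq_bot_iff]
  intro y hy
  obtain ⟨x, rfl⟩ := N.mkQ_surjective y
  have hx : x ∈ N := hle hy
  rw [Submodule.mkQ_apply, (Submodule.Quotient.mk_eq_zero N).2 hx]
  exact Submodule.zero_mem _

omit [IsNoetherianRing R] [Module.Finite R M] in
/-- the map `R/p → X`, `1 ↦ x`, for `p = ann x`, is injective -/
theorem exists_injective_of_colon {X : Type u} [AddCommGroup X] [Module R X] (p : Ideal R) (x : X)
    (hp : p = Submodule.colon (⊥ : Submodule R X) {x}) :
    ∃ φ : (R ⧸ p) →ₗ[R] X, Function.Injective φ ∧ LinearMap.range φ = Submodule.span R {x} := by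
  have hker : LinearMap.ker (LinearMap.toSpanSingleton R X x) = p := by
    ext r
    rw [hp, Submodule.mem_colon_singleton, LinearMap.mem_ker, LinearMap.toSpanSingleton_apply,
      Submodule.mem_bot]
  refine ⟨Submodule.liftQ p (LinearMap.toSpanSingleton R X x) hker.ge, ?_, ?_⟩
  · rw [← LinearMap.ker_eq_bot]
    exact Submodule.ker_liftQ_eq_bot _ _ _ hker.le
  · rw [Submodule.range_liftQ, LinearMap.range_toSpanSingleton]

omit [Module.Finite R M] in
include hN in
theorem mem_ass_quotient_of_mem_ass (p : Ideal R) (hp : p ∈ associatedPrimes R M)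
    (hdim : ringKrullDim (R ⧸ p) = n) : p ∈ associatedPrimes R (M ⧸ N) := by
  obtain ⟨hprime, x, hx⟩ := isAssociatedPrime_iff.1 hp
  refine isAssociatedPrime_iff.2 ⟨hprime, N.mkQ x, ?_⟩
  ext r
  rw [Submodule.mem_colon_singleton, Submodule.mem_bot]
  constructor
  · intro hr
    rw [hx, Submodule.mem_colon_singleton, Submodule.mem_bot] at hr
    rw [← map_smul, hr, map_zero]
  · intro hr
    rw [← map_smul, Submodule.mkQ_apply, Submodule.Quotient.mk_eq_zero] at hr
    by_contra hrp
    have hcol : p = Submodule.colon (⊥ : Submodule R N) {(⟨r • x, hr⟩ : N)} := by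
      ext s
      rw [Submodule.mem_colon_singleton, Submodule.mem_bot]
      constructor
      · intro hs
        apply Subtype.ext
        change s • r • x = 0
        rw [hx, Submodule.mem_colon_singleton, Submodule.mem_bot] at hs
        rw [smul_comm, hs, smul_zero]
      · intro hs
        have hs' : s • r • x = 0 := congrArg Subtype.val hs
        rw [smul_smul] at hs'
        have hmem : s * r ∈ p := by
          rw [hx, Submodule.mem_colon_singleton, Submodule.mem_bot]
          exact hs'
        exact (hprime.mem_or_mem hmem).resolve_right hrp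
    obtain ⟨φ, hφ, -⟩ := exists_injective_of_colon p _ hcol
    have h1 := Module.supportDim_le_of_injective φ hφ
    rw [Module.supportDim_quotient_eq_ringKrullDim, hdim] at h1
    exact absurd (lt_of_le_of_lt h1 hN) (lt_irrefl _)

include hn hN hmax in
theorem mem_ass_of_mem_ass_quotient (p : Ideal R) (hp : p ∈ associatedPrimes R (M ⧸ N)) :
    p ∈ associatedPrimes R M ∧ ringKrullDim (R ⧸ p) = n := by
  obtain ⟨hprime, y, hy⟩ := isAssociatedPrime_iff.1 hp
  obtain ⟨φ, hφ, hrange⟩ := exists_injective_of_colon p y hy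
  have hquot := supportDim_quotient_eq n hn N hN
  -- dimension of `R/p`
  have hle : ringKrullDim (R ⧸ p) ≤ n := by
    have h1 := Module.supportDim_le_of_injective φ hφ
    rwa [Module.supportDim_quotient_eq_ringKrullDim, hquot] at h1
  have hge : (n : WithBot ℕ∞) ≤ ringKrullDim (R ⧸ p) := by
    have h1 := Module.supportDim_le_of_surjective φ.rangeRestrict φ.surjective_rangeRestrict
    rw [Module.supportDim_quotient_eq_ringKrullDim] at h1
    refine le_trans ?_ h1
    by_contra hlt
    rw [not_le] at hlt
    have hbot := eq_bot_of_supportDim_lt n N hN hmax (LinearMap.range φ) hlt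
    have : Nontrivial (R ⧸ p) := Ideal.Quotient.nontrivial_iff.2 hprime.ne_top
    rw [LinearMap.range_eq_bot] at hbot
    have h01 : φ 1 = φ 0 := by rw [hbot]; rfl
    exact one_ne_zero (hφ h01)
  have hdim : ringKrullDim (R ⧸ p) = n := le_antisymm hle hge
  refine ⟨?_, hdim⟩
  -- `p` contains the annihilator of `M`
  have hann : Module.annihilator R M ≤ p := by
    intro r hr
    rw [hy, Submodule.mem_colon_singleton, Submodule.mem_bot]
    obtain ⟨y', rfl⟩ := N.mkQ_surjective y
    rw [← map_smul, Module.mem_annihilator.1 hr y', map_zero]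
  obtain ⟨q, hq, hqp⟩ := Ideal.exists_minimalPrimes_le hann
  have hqass : q ∈ associatedPrimes R M :=
    Module.associatedPrimes.minimalPrimes_annihilator_subset_associatedPrimes R M hq
  rcases eq_or_lt_of_le hqp with h | h
  · rw [← h]; exact hqass
  · exfalso
    have hqprime : q.IsPrime := hq.1.1
    have h1 := ringKrullDim_quotient_add_one_le h
    have h2 : ringKrullDim (R ⧸ q) ≤ n := by
      rw [← hn, Module.supportDim_eq_ringKrullDim_quotient_annihilator]
      exact ringKrullDim_le_of_surjective (Ideal.Quotient.factor hq.1.2)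
        (Ideal.Quotient.factor_surjective hq.1.2)
    rw [hdim] at h1
    have h3 : ((n : WithBot ℕ∞)) + 1 ≤ n := le_trans h1 h2
    have h4 : ((n + 1 : ℕ) : WithBot ℕ∞) ≤ (n : ℕ) := by exact_mod_cast h3
    have h5 : n + 1 ≤ n := by exact_mod_cast h4
    omega

end Quot

section LC

open Groth.Agent.Lib.Helper92.LC

omit [Module.Finite R M] in
/-- `H^n_I(M) → H^n_I(M/N)` is bijective when `dim N < n` -/
theorem bijective_Hmap_mkQ (I : Ideal R) (n : ℕ) (N : Submodule R M)
    (hN : Module.supportDim R N < n) :
    Function.Bijective ⇑((localCohomology I n).map (ModuleCat.ofHom N.mkQ)).hom := by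
  let S : ShortComplex (ModuleCat.{u} R) :=
    ModuleCat.shortComplexOfCompEqZero N.subtype N.mkQ
      (by ext x; exact (Submodule.Quotient.mk_eq_zero _).2 x.2)
  have hS : S.ShortExact :=
    ModuleCat.shortComplex_shortExact _ (LinearMap.exact_subtype_mkQ N)
      (Submodule.injective_subtype _) (Submodule.mkQ_surjective _)
  have h1 : Subsingleton ((localCohomology I n).obj S.X₁) :=
    subsingleton_of_supportDim_lt I n N hN
  have h2 : Subsingleton ((localCohomology I (n + 1)).obj S.X₁) :=
    subsingleton_of_supportDim_lt I (n + 1) N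
      (lt_trans hN (by exact_mod_cast Nat.lt_succ_self n))
  constructor
  · rw [injective_iff_map_eq_zero]
    intro y hy
    obtain ⟨x, rfl⟩ := exact₂ I n hS y hy
    rw [Subsingleton.elim x 0, map_zero]
  · intro z
    exact exact₃ I n hS z (Subsingleton.elim _ _)

end LC

end Groth.Agent.Lib.Helper92.SDim
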