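import Mathlib.CategoryTheory.Abelian.Ext
import Mathlib.CategoryTheory.Abelian.Projective.Ext
import Mathlib.Algebra.Homology.DerivedCategory.Ext.Linear
import Mathlib.Algebra.Homology.ShortComplex.ModuleCat
import Mathlib.Algebra.Category.ModuleCat.Ext.HasExt
import Mathlib.Tactic

/-!
# Old `Ext` (left-derived Hom, used by Mathlib's `localCohomology`) vs `Abelian.Ext` (helper92)

* `isoExt_hom_naturality_left/right`: naturality of `ProjectiveResolution.isoExt` in both variables.
* `Φ X Y n : ((Ext R C n).obj (op X)).obj Y ≃ₗ[R] Abelian.Ext X Y n`, with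
  `Φ_naturality_right` (post-composition with `mk₀ g`) and `Φ_naturality_left`
  (pre-composition with `mk₀ h`).
* `ΦP P n Y` the same through a given projective resolution; `ΦP_apply` computes it on cycles.
-/

set_option linter.unusedSectionVars false

open CategoryTheory CategoryTheory.Limits Opposite

namespace Groth.Agent.Lib.Helper92.OldExt

universe v u t

section HomologyUnop

variable {V : Type*} [Category V] [Abelian V] {ι : Type*} {c : ComplexShape ι}

/-- `unop` of a morphism of complexes in the opposite category. -/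
abbrev unopMap {K L : HomologicalComplex Vᵒᵖ c} (φ : K ⟶ L) : L.unop ⟶ K.unop :=
  (HomologicalComplex.unopFunctor V c).map φ.op

lemma homologyUnop_hom_naturality {K L : HomologicalComplex Vᵒᵖ c} (φ : K ⟶ L) (i : ι) :
    HomologicalComplex.homologyMap (unopMap φ) i ≫ (K.homologyUnop i).hom =
    (L.homologyUnop i).hom ≫ (HomologicalComplex.homologyMap φ i).unop := by
  have h := HomologicalComplex.homologyOp_hom_naturality
    ((HomologicalComplex.unopFunctor V c).map φ.op) i
  have h2 := congrArg Quiver.Hom.unop h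
  exact h2.symm

lemma homologyUnop_inv_naturality {K L : HomologicalComplex Vᵒᵖ c} (φ : K ⟶ L) (i : ι) :
    (HomologicalComplex.homologyMap φ i).unop ≫ (K.homologyUnop i).inv =
    (L.homologyUnop i).inv ≫ HomologicalComplex.homologyMap (unopMap φ) i := by
  have := homologyUnop_hom_naturality φ i
  rw [← cancel_mono (K.homologyUnop i).hom, ← cancel_epi (L.homologyUnop i).hom]
  simp only [Category.assoc, Iso.inv_hom_id, Category.comp_id, Iso.hom_inv_id_assoc]
  exact this.symm

end HomologyUnop

section Nat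

variable {R : Type*} [Ring R] {C : Type*} [Category C] [Abelian C] [Linear R C]
  [EnoughProjectives C]

/-- The contravariant Hom functor to `(ModuleCat R)ᵒᵖ`. -/
abbrev FY (Y : C) : C ⥤ (ModuleCat R)ᵒᵖ := ((linearYoneda R C).obj Y).rightOp

/-- map of Hom complexes induced by a chain map (contravariant). -/
noncomputable abbrev yonedaMapLeft {P' P : ChainComplex C ℕ} (φ : P' ⟶ P) (Y : C) :
    P.linearYonedaObj R Y ⟶ P'.linearYonedaObj R Y :=
  unopMap (((FY (R := R) Y).mapHomologicalComplex _).map φ)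

/-- map of Hom complexes induced by a morphism in the second variable. -/
noncomputable abbrev yonedaMapRight (P : ChainComplex C ℕ) {Y Y' : C} (g : Y ⟶ Y') :
    P.linearYonedaObj R Y ⟶ P.linearYonedaObj R Y' :=
  unopMap ((NatTrans.mapHomologicalComplex
      (NatTrans.rightOp ((linearYoneda R C).map g)) _).app P)

theorem sq_comp {V : Type*} [Category V] {A B C' D E F : V} {a : A ⟶ B} {b : B ⟶ C'} {c : A ⟶ D}
    {d : D ⟶ C'} (h : a ≫ b = c ≫ d) {e : C' ⟶ E} {f : D ⟶ F} {g : F ⟶ E}
    (h' : d ≫ e = f ≫ g) : a ≫ (b ≫ e) = (c ≫ f) ≫ g := by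
  rw [← Category.assoc, h, Category.assoc, h', Category.assoc]

theorem isoExt_hom_naturality_left {X X' : C} (h : X' ⟶ X) (P' : ProjectiveResolution X')
    (P : ProjectiveResolution X) (φ : P'.complex ⟶ P.complex)
    (comm : φ.f 0 ≫ P.π.f 0 = P'.π.f 0 ≫ h) (n : ℕ) (Y : C) :
    ((Ext R C n).map h.op).app Y ≫ (P'.isoExt n Y).hom =
      (P.isoExt n Y).hom ≫ HomologicalComplex.homologyMap (yonedaMapLeft (R := R) φ Y) n := by
  have h1 := ProjectiveResolution.isoLeftDerivedObj_inv_naturality h P' P φ comm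
    (FY (R := R) Y) n
  have h2 := congrArg Quiver.Hom.unop h1
  simp only [unop_comp] at h2
  have h3 := homologyUnop_inv_naturality (((FY (R := R) Y).mapHomologicalComplex _).map φ) n
  exact sq_comp h2 h3

theorem isoExt_hom_naturality_right {X : C} (P : ProjectiveResolution X) (n : ℕ) {Y Y' : C}
    (g : Y ⟶ Y') :
    ((Ext R C n).obj (op X)).map g ≫ (P.isoExt n Y').hom =
      (P.isoExt n Y).hom ≫ HomologicalComplex.homologyMap (yonedaMapRight (R := R) P.complex g) n := by
  have h1 := ProjectiveResolution.leftDerived_app_eq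
    (NatTrans.rightOp ((linearYoneda R C).map g)) P n
  have h1' : (P.isoLeftDerivedObj (FY (R := R) Y') n).inv ≫
      (NatTrans.leftDerived (NatTrans.rightOp ((linearYoneda R C).map g)) n).app X =
      (HomologicalComplex.homologyFunctor _ _ n).map ((NatTrans.mapHomologicalComplex
      (NatTrans.rightOp ((linearYoneda R C).map g)) _).app P.complex) ≫
      (P.isoLeftDerivedObj (FY (R := R) Y) n).inv := by
    rw [h1, Iso.inv_hom_id_assoc]
  have h4 := congrArg Quiver.Hom.unop h1'
  simp only [unop_comp] at h4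
  have h3 := homologyUnop_inv_naturality ((NatTrans.mapHomologicalComplex
      (NatTrans.rightOp ((linearYoneda R C).map g)) _).app P.complex) n
  exact sq_comp h4 h3

theorem yonedaMapLeft_f_apply {P' P : ChainComplex C ℕ} (φ : P' ⟶ P) (Y : C) (i : ℕ)
    (f : P.X i ⟶ Y) :
    ((yonedaMapLeft (R := R) φ Y).f i).hom f = φ.f i ≫ f := rfl

theorem yonedaMapRight_f_apply (P : ChainComplex C ℕ) {Y Y' : C} (g : Y ⟶ Y') (i : ℕ)
    (f : P.X i ⟶ Y) :
    ((yonedaMapRight (R := R) P g).f i).hom f = f ≫ g := rfl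

theorem linearYonedaObj_d_apply (P : ChainComplex C ℕ) (Y : C) (i j : ℕ) (f : P.X i ⟶ Y) :
    ((P.linearYonedaObj R Y).d i j).hom f = P.d j i ≫ f := rfl

end Nat


section Psi

variable {R : Type t} [Ring R] {C : Type u} [Category.{v} C] [Abelian C] [Linear R C]
  [EnoughProjectives C] [HasExt.{v} C]

variable {X : C} (P : ProjectiveResolution X) (n : ℕ) (Y : C)

/-- the Hom complex -/
noncomputable abbrev K : CochainComplex (ModuleCat.{v} R) ℕ := P.complex.linearYonedaObj R Y

/-- the morphism underlying a cycle. -/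
noncomputable def cyc (z : (K (R := R) P Y).cycles n) : P.complex.X n ⟶ Y :=
  ((K (R := R) P Y).iCycles n).hom z

theorem cyc_add (z z' : (K (R := R) P Y).cycles n) :
    cyc P n Y (z + z') = cyc P n Y z + cyc P n Y z' :=
  map_add ((K (R := R) P Y).iCycles n).hom z z'

theorem cyc_smul (r : R) (z : (K (R := R) P Y).cycles n) :
    cyc P n Y (r • z) = r • cyc P n Y z :=
  map_smul ((K (R := R) P Y).iCycles n).hom r z

theorem cyc_injective : Function.Injective (cyc (R := R) P n Y) :=
  (ModuleCat.mono_iff_injective ((K (R := R) P Y).iCycles n)).1 inferInstance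

theorem cycle_cond (z : (K (R := R) P Y).cycles n) :
    P.complex.d (n + 1) n ≫ cyc P n Y z = 0 := by
  have h := (K (R := R) P Y).iCycles_d n (n + 1)
  have h2 := congrArg (fun g => g.hom z) h
  exact h2

theorem smul_extMk (r : R) (f : P.complex.X n ⟶ Y) (m : ℕ) (hm : n + 1 = m)
    (hf : P.complex.d m n ≫ f = 0) :
    r • P.extMk f m hm hf = P.extMk (r • f) m hm (by rw [Linear.comp_smul, hf, smul_zero]) := by
  rw [Abelian.Ext.smul_eq_comp_mk₀, ProjectiveResolution.extMk_comp_mk₀]
  congr 1
  rw [Linear.comp_smul, Category.comp_id]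

theorem extMk_congr {f g : P.complex.X n ⟶ Y} (h : f = g) (m : ℕ) (hm : n + 1 = m)
    (hf : P.complex.d m n ≫ f = 0) :
    P.extMk f m hm hf = P.extMk g m hm (h ▸ hf) := by
  subst h; rfl

/-- cycles to Ext -/
noncomputable def ψ₀ : (K (R := R) P Y).cycles n ⟶ ModuleCat.of R (Abelian.Ext.{v} X Y n) :=
  ModuleCat.ofHom
    { toFun := fun z => P.extMk (cyc P n Y z) (n + 1) rfl (cycle_cond P n Y z)
      map_add' := fun z z' =>
        (extMk_congr P n Y (cyc_add P n Y z z') _ _ _).trans
          (ProjectiveResolution.add_extMk P _ _ _ _ _ _).symm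
      map_smul' := fun r z =>
        (extMk_congr P n Y (cyc_smul P n Y r z) _ _ _).trans
          (smul_extMk P n Y r _ _ _ _).symm }

theorem ψ₀_apply (z : (K (R := R) P Y).cycles n) :
    (ψ₀ (R := R) P n Y).hom z =
      P.extMk (cyc P n Y z) (n + 1) rfl (cycle_cond P n Y z) := rfl

theorem extMk_d_comp (i : ℕ) (g : P.complex.X i ⟶ Y) :
    P.extMk (P.complex.d n i ≫ g) (n + 1) rfl (by simp) = 0 := by
  by_cases h : i + 1 = n
  · subst h
    exact (P.extMk_eq_zero_iff _ _ rfl _ i rfl).2 ⟨g, rfl⟩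
  · have h0 : P.complex.d n i = 0 := P.complex.shape n i (by simpa using h)
    rw [extMk_congr P n Y (show P.complex.d n i ≫ g = 0 by rw [h0, zero_comp])]
    exact P.extMk_zero _ rfl

theorem toCycles_ψ₀ :
    ((K (R := R) P Y).sc n).toCycles ≫ ψ₀ (R := R) P n Y = 0 := by
  ext g
  change (ψ₀ (R := R) P n Y).hom
    (((K (R := R) P Y).toCycles ((ComplexShape.up ℕ).prev n) n).hom g) = 0
  rw [ψ₀_apply]
  have h1 : cyc P n Y
      (((K (R := R) P Y).toCycles ((ComplexShape.up ℕ).prev n) n).hom g) =
      P.complex.d n _ ≫ g := by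
    have := (K (R := R) P Y).toCycles_i ((ComplexShape.up ℕ).prev n) n
    exact congrArg (fun f => f.hom g) this
  rw [extMk_congr P n Y h1]
  exact extMk_d_comp P n Y _ g

/-- homology to Ext -/
noncomputable def ψ : (K (R := R) P Y).homology n ⟶ ModuleCat.of R (Abelian.Ext.{v} X Y n) :=
  ((K (R := R) P Y).sc n).descHomology (ψ₀ P n Y) (toCycles_ψ₀ P n Y)

theorem π_ψ : (K (R := R) P Y).homologyπ n ≫ ψ (R := R) P n Y = ψ₀ P n Y :=
  ((K (R := R) P Y).sc n).π_descHomology _ _

theorem ψ_π_apply (z : (K (R := R) P Y).cycles n) :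
    (ψ (R := R) P n Y).hom (((K (R := R) P Y).homologyπ n).hom z) =
      P.extMk (cyc P n Y z) (n + 1) rfl (cycle_cond P n Y z) := by
  have := π_ψ (R := R) P n Y
  exact congrArg (fun f => f.hom z) this

theorem extMk_zero_eq_zero_iff (f : P.complex.X 0 ⟶ Y) (hf : P.complex.d 1 0 ≫ f = 0) :
    P.extMk f 1 rfl hf = 0 ↔ f = 0 := by
  simp only [← P.extEquivCohomologyClass.apply_eq_iff_eq,
    ProjectiveResolution.extEquivCohomologyClass_extMk,
    ProjectiveResolution.extEquivCohomologyClass_zero,
    CochainComplex.HomComplex.CohomologyClass.mk_eq_zero_iff]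
  rw [CochainComplex.HomComplex.Cocycle.toSingleMk_mem_coboundaries_iff _ _ _ _ _ 1 (by lia)]
  constructor
  · rintro ⟨g, hg⟩
    have hz : IsZero (P.cochainComplex.X 1) :=
      P.cochainComplex.isZero_of_isStrictlyLE 0 1 (by lia)
    rw [hz.eq_of_src g 0, comp_zero] at hg
    exact (cancel_epi (P.cochainComplexXIso (-(0 : ℕ)) 0 rfl).hom).1 (by rw [← hg, comp_zero])
  · rintro rfl
    exact ⟨0, by simp⟩

theorem exists_cycle (f : P.complex.X n ⟶ Y) (hf : P.complex.d (n + 1) n ≫ f = 0) :
    ∃ z : (K (R := R) P Y).cycles n, cyc P n Y z = f := by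
  have hg : (((K (R := R) P Y).sc n).g).hom f = 0 := by
    change ((K (R := R) P Y).d n ((ComplexShape.up ℕ).next n)).hom f = 0
    rw [linearYonedaObj_d_apply]
    have : (ComplexShape.up ℕ).next n = n + 1 := by simp
    rw [this]
    exact hf
  refine ⟨((((K (R := R) P Y).sc n).moduleCatCyclesIso.inv).hom ⟨f, hg⟩ : _), ?_⟩
  have := ((K (R := R) P Y).sc n).moduleCatCyclesIso_inv_iCycles
  exact congrArg (fun φ => φ.hom ⟨f, hg⟩) this

theorem ψ_surjective : Function.Surjective (ψ (R := R) P n Y).hom := by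
  intro α
  obtain ⟨f, hf, rfl⟩ := P.extMk_surjective α (n + 1) rfl
  obtain ⟨z, hz⟩ := exists_cycle (R := R) P n Y f hf
  refine ⟨((K (R := R) P Y).homologyπ n).hom z, ?_⟩
  rw [ψ_π_apply]
  exact extMk_congr P n Y hz _ _ _

theorem ψ_injective : Function.Injective (ψ (R := R) P n Y).hom := by
  rw [injective_iff_map_eq_zero]
  intro x hx
  obtain ⟨z, rfl⟩ := (ModuleCat.epi_iff_surjective ((K (R := R) P Y).homologyπ n)).1
    inferInstance x
  rw [ψ_π_apply] at hx
  rcases n with _ | p
  · replace hx := (extMk_zero_eq_zero_iff P Y _ _).1 hx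
    have : z = 0 := cyc_injective (R := R) P 0 Y (hx.trans (map_zero _).symm)
    rw [this, map_zero]
  · obtain ⟨g, hg⟩ := (P.extMk_eq_zero_iff _ _ rfl _ p rfl).1 hx
    have hz : z = ((K (R := R) P Y).toCycles p (p + 1)).hom g := by
      apply cyc_injective (R := R) P (p + 1) Y
      rw [← hg]
      have := (K (R := R) P Y).toCycles_i p (p + 1)
      exact (congrArg (fun φ => φ.hom g) this).symm
    rw [hz]
    have := (K (R := R) P Y).toCycles_comp_homologyπ p (p + 1)
    exact congrArg (fun φ => φ.hom g) this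

/-- comparison old Ext / new Ext through the projective resolution `P`. -/
noncomputable def ΦP : ((Ext R C n).obj (op X)).obj Y ≃ₗ[R] Abelian.Ext.{v} X Y n :=
  LinearEquiv.ofBijective ((P.isoExt n Y).hom ≫ ψ (R := R) P n Y).hom
    ⟨(ψ_injective (R := R) P n Y).comp
        (ConcreteCategory.bijective_of_isIso (P.isoExt n Y).hom).1,
      (ψ_surjective (R := R) P n Y).comp
        (ConcreteCategory.bijective_of_isIso (P.isoExt n Y).hom).2⟩

theorem ΦP_apply (x : ((Ext R C n).obj (op X)).obj Y) (z : (K (R := R) P Y).cycles n)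
    (hz : ((K (R := R) P Y).homologyπ n).hom z = (P.isoExt n Y).hom.hom x) :
    ΦP (R := R) P n Y x =
      P.extMk (cyc P n Y z) (n + 1) rfl (cycle_cond P n Y z) := by
  change (ψ (R := R) P n Y).hom ((P.isoExt n Y).hom.hom x) = _
  rw [← hz, ψ_π_apply]

theorem exists_rep (x : ((Ext R C n).obj (op X)).obj Y) :
    ∃ z : (K (R := R) P Y).cycles n,
      ((K (R := R) P Y).homologyπ n).hom z = (P.isoExt n Y).hom.hom x :=
  (ModuleCat.epi_iff_surjective ((K (R := R) P Y).homologyπ n)).1 inferInstance _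

theorem ΦP_naturality_right {Y' : C} (g : Y ⟶ Y') (x : ((Ext R C n).obj (op X)).obj Y) :
    ΦP (R := R) P n Y' ((((Ext R C n).obj (op X)).map g).hom x) =
      (ΦP (R := R) P n Y x).comp (Abelian.Ext.mk₀ g) (add_zero n) := by
  obtain ⟨z, hz⟩ := exists_rep (R := R) P n Y x
  rw [ΦP_apply P n Y x z hz, ProjectiveResolution.extMk_comp_mk₀]
  have h1 := isoExt_hom_naturality_right (R := R) P n g
  have h2 : (P.isoExt n Y').hom.hom ((((Ext R C n).obj (op X)).map g).hom x) =
      (HomologicalComplex.homologyMap (yonedaMapRight (R := R) P.complex g) n).hom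
        ((P.isoExt n Y).hom.hom x) := congrArg (fun f => f.hom x) h1
  have h3 := HomologicalComplex.homologyπ_naturality (yonedaMapRight (R := R) P.complex g) n
  have h4 : (HomologicalComplex.homologyMap (yonedaMapRight (R := R) P.complex g) n).hom
      (((K (R := R) P Y).homologyπ n).hom z) = ((K (R := R) P Y').homologyπ n).hom
      ((HomologicalComplex.cyclesMap (yonedaMapRight (R := R) P.complex g) n).hom z) :=
    congrArg (fun f => f.hom z) h3
  rw [ΦP_apply P n Y' _ ((HomologicalComplex.cyclesMap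
    (yonedaMapRight (R := R) P.complex g) n).hom z) (by rw [h2, ← hz, h4])]
  apply extMk_congr
  have h5 := HomologicalComplex.cyclesMap_i (yonedaMapRight (R := R) P.complex g) n
  exact congrArg (fun f => f.hom z) h5

theorem ΦP_naturality_left {X' : C} (P' : ProjectiveResolution X') (h : X' ⟶ X)
    (φ : ProjectiveResolution.Hom P' P h) (x : ((Ext R C n).obj (op X)).obj Y) :
    ΦP (R := R) P' n Y ((((Ext R C n).map h.op).app Y).hom x) =
      (Abelian.Ext.mk₀ h).comp (ΦP (R := R) P n Y x) (zero_add n) := by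
  obtain ⟨z, hz⟩ := exists_rep (R := R) P n Y x
  rw [ΦP_apply P n Y x z hz, ProjectiveResolution.mk₀_comp_extMk _ _ _ _ φ]
  have h1 := isoExt_hom_naturality_left (R := R) h P' P φ.hom
    (by simpa using φ.hom_f_zero_comp_π_f_zero) n Y
  have h2 : (P'.isoExt n Y).hom.hom ((((Ext R C n).map h.op).app Y).hom x) =
      (HomologicalComplex.homologyMap (yonedaMapLeft (R := R) φ.hom Y) n).hom
        ((P.isoExt n Y).hom.hom x) := congrArg (fun f => f.hom x) h1
  have h3 := HomologicalComplex.homologyπ_naturality (yonedaMapLeft (R := R) φ.hom Y) n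
  have h4 : (HomologicalComplex.homologyMap (yonedaMapLeft (R := R) φ.hom Y) n).hom
      (((K (R := R) P Y).homologyπ n).hom z) = ((K (R := R) P' Y).homologyπ n).hom
      ((HomologicalComplex.cyclesMap (yonedaMapLeft (R := R) φ.hom Y) n).hom z) :=
    congrArg (fun f => f.hom z) h3
  rw [ΦP_apply P' n Y _ ((HomologicalComplex.cyclesMap
    (yonedaMapLeft (R := R) φ.hom Y) n).hom z) (by rw [h2, ← hz, h4])]
  apply extMk_congr
  have h5 := HomologicalComplex.cyclesMap_i (yonedaMapLeft (R := R) φ.hom Y) n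
  exact congrArg (fun f => f.hom z) h5

end Psi

section Phi

variable {R : Type t} [Ring R] {C : Type u} [Category.{v} C] [Abelian C] [Linear R C]
  [EnoughProjectives C] [HasExt.{v} C]

/-- **Comparison** between the old `Ext` (left derived functor of Hom in the first variable) and
the new `Abelian.Ext` (morphisms in the derived category), as an `R`-linear equivalence. -/
noncomputable def Φ (X Y : C) (n : ℕ) :
    ((Ext R C n).obj (op X)).obj Y ≃ₗ[R] Abelian.Ext.{v} X Y n :=
  ΦP (projectiveResolution X) n Y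

theorem Φ_naturality_right (X : C) {Y Y' : C} (g : Y ⟶ Y') (n : ℕ)
    (x : ((Ext R C n).obj (op X)).obj Y) :
    Φ (R := R) X Y' n ((((Ext R C n).obj (op X)).map g).hom x) =
      (Φ (R := R) X Y n x).comp (Abelian.Ext.mk₀ g) (add_zero n) :=
  ΦP_naturality_right _ n Y g x

theorem Φ_naturality_left {X X' : C} (h : X' ⟶ X) (Y : C) (n : ℕ)
    (x : ((Ext R C n).obj (op X)).obj Y) :
    Φ (R := R) X' Y n ((((Ext R C n).map h.op).app Y).hom x) =
      (Abelian.Ext.mk₀ h).comp (Φ (R := R) X Y n x) (zero_add n) :=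
  ΦP_naturality_left (projectiveResolution X) n Y (projectiveResolution X') h
    ⟨ProjectiveResolution.lift h _ _, by
      rw [ProjectiveResolution.lift_commutes_zero]; simp⟩ x

end Phi

end Groth.Agent.Lib.Helper92.OldExt
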