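import Groth.Agent.Lib.Helper92.LocCohCompare

open CategoryTheory CategoryTheory.Limits Opposite

namespace Groth.Agent.Lib.Helper92.LC

open Groth.Agent.Lib.Helper92.OldExt

universe u
variable {R : Type u} [CommRing R] (I J : Ideal R)

theorem torsionSub_le_sup_of_isPowerTorsion' (T : Type u) [AddCommGroup T] [Module R T]
    (hT : LocCoh.IsPowerTorsion J T) :
    DRing.torsionSub I T ≤ DRing.torsionSub (I ⊔ J) T := by
  rintro m ⟨n, hn⟩
  obtain ⟨k, hk⟩ := hT m
  refine ⟨n + k, fun a ha => ?_⟩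
  have := Ideal.sup_pow_add_le_pow_sup_pow ha
  obtain ⟨a₁, ha₁, a₂, ha₂, rfl⟩ := Submodule.mem_sup.1 this
  rw [add_smul, hn a₁ ha₁, hk a₂ ha₂, add_zero]

/-- For a `J`-power-torsion module `T`, `H^i_{I + J}(T) → H^i_I(T)` is bijective. -/
theorem cmp_bijective_of_isPowerTorsion' [IsNoetherianRing R] (i : ℕ) (T : ModuleCat.{u} R)
    (hT : LocCoh.IsPowerTorsion J T) :
    Function.Bijective (cmp (le_sup_left : I ≤ I ⊔ J) i T) := by
  refine cmp_bijective_of_class _ (fun T => LocCoh.IsPowerTorsion J T) ?_ ?_ i T hT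
  · intro T hT
    obtain ⟨E', j, hj, hE', htE', htC⟩ := exists_embedding J T hT
    exact ⟨sesOfInjective j, sesOfInjective_shortExact j hj, rfl, hE', htE', htC⟩
  · intro T hT
    exact torsionSub_le_sup_of_isPowerTorsion' I J T hT

end Groth.Agent.Lib.Helper92.LC
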