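import Groth.Agent.Lib.Helper92.LocCohNonVan
import Groth.Agent.Lib.Helper92.LocCohCompare2
import Groth.Agent.Lib.Helper92.LocCohGV
import Groth.Agent.Lib.Helper98.CechRestrict

/-!
# Converse of Hartshorne–Lichtenbaum vanishing (easy direction)
-/

open CategoryTheory CategoryTheory.Limits Opposite

namespace Groth.Agent.Lib.Helper92.LC

universe u

section TopVanishing
variable {R : Type u} [CommRing R] [IsNoetherianRing R] (a : Ideal R) (n : ℕ)

/-- right exactness at the top: a surjection `X → Y` induces vanishing of `H^n(Y)` from that of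
`H^n(X)` when `cd ≤ n`. -/
theorem subsingleton_top_of_surjective (hcd : LocCoh.CdLE R a n)
    {X Y : Type u} [AddCommGroup X] [Module R X] [AddCommGroup Y] [Module R Y]
    (g : X →ₗ[R] Y) (hg : Function.Surjective g)
    (hX : Subsingleton ((localCohomology a n).obj (ModuleCat.of R X))) :
    Subsingleton ((localCohomology a n).obj (ModuleCat.of R Y)) := by
  let S : ShortComplex (ModuleCat.{u} R) :=
    ModuleCat.shortComplexOfCompEqZero (LinearMap.ker g).subtype g (by ext x; exact x.2)
  have hS : S.ShortExact :=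
    ModuleCat.shortComplex_shortExact _ (LinearMap.exact_subtype_ker_map g)
      (Submodule.injective_subtype _) hg
  have hK : Subsingleton ((localCohomology a (n + 1)).obj S.X₁) :=
    hcd (LinearMap.ker g) (n + 1) (Nat.lt_succ_self n)
  refine ⟨fun z z' => ?_⟩
  suffices h0 : ∀ z : (localCohomology a n).obj S.X₃, z = 0 from (h0 z).trans (h0 z').symm
  intro z
  obtain ⟨y, rfl⟩ := exact₃ a n hS z (Subsingleton.elim _ _)
  have : Subsingleton ((localCohomology a n).obj S.X₂) := hX
  rw [Subsingleton.elim y 0, map_zero]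

/-- if `H^n_a(R) = 0` and `cd(a) ≤ n`, then `H^n_a(X) = 0` for all finite modules `X`. -/
theorem subsingleton_top_of_ring_of_finite (hcd : LocCoh.CdLE R a n)
    (h0 : Subsingleton ((localCohomology a n).obj (ModuleCat.of R R)))
    (X : Type u) [AddCommGroup X] [Module R X] [Module.Finite R X] :
    Subsingleton ((localCohomology a n).obj (ModuleCat.of R X)) := by
  induction ‹Module.Finite R X› using
    IsNoetherianRing.induction_on_isQuotientEquivQuotientPrime R with
  | subsingleton N => exact subsingleton_of_subsingleton a n (ModuleCat.of R N)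
  | quotient N p e =>
    exact subsingleton_top_of_surjective a n hcd (e.symm.toLinearMap ∘ₗ (p.asIdeal).mkQ)
      (e.symm.surjective.comp (Submodule.mkQ_surjective _)) h0
  | exact N₁ N₂ N₃ f g hf hg hfg h1 h3 =>
    let S : ShortComplex (ModuleCat.{u} R) :=
      ModuleCat.shortComplexOfCompEqZero f g hfg.linearMap_comp_eq_zero
    have hS : S.ShortExact := ModuleCat.shortComplex_shortExact _ hfg hf hg
    refine ⟨fun y y' => ?_⟩
    suffices h0 : ∀ y : (localCohomology a n).obj S.X₂, y = 0 from (h0 y).trans (h0 y').symm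
    intro y
    have h3' : Subsingleton ((localCohomology a n).obj S.X₃) := h3
    have h1' : Subsingleton ((localCohomology a n).obj S.X₁) := h1
    obtain ⟨x, rfl⟩ := exact₂ a n hS y (Subsingleton.elim _ _)
    rw [Subsingleton.elim x 0, map_zero]

/-- if `H^n_a(R) = 0` and `cd(a) ≤ n`, then `H^n_a(X) = 0` for all modules `X`. -/
theorem subsingleton_top_of_ring (hcd : LocCoh.CdLE R a n)
    (h0 : Subsingleton ((localCohomology a n).obj (ModuleCat.of R R)))
    (X : Type u) [AddCommGroup X] [Module R X] :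
    Subsingleton ((localCohomology a n).obj (ModuleCat.of R X)) := by
  refine ⟨fun y y' => ?_⟩
  suffices h : ∀ y : (localCohomology a n).obj (ModuleCat.of R X), y = 0 from
    (h y).trans (h y').symm
  intro y
  obtain ⟨N, hN, yN, rfl⟩ := exists_fg_rep a X n y
  have : Module.Finite R N := Module.Finite.iff_fg.2 hN
  have hsub := subsingleton_top_of_ring_of_finite a n hcd h0 N
  rw [Subsingleton.elim yN 0, map_zero]

end TopVanishing

section NonVanishing
variable {S : Type u} [CommRing S] [IsNoetherianRing S] [IsLocalRing S]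

/-- in a local ring, `dim S/K ≤ 0` for a proper ideal `K` forces `√K = m`. -/
theorem radical_eq_maximalIdeal_of_dim_le_zero (K : Ideal S) (hK : K ≠ ⊤)
    (hdim : ringKrullDim (S ⧸ K) ≤ 0) : K.radical = IsLocalRing.maximalIdeal S := by
  have h0 : Ring.KrullDimLE 0 (S ⧸ K) := Ring.krullDimLE_iff.2 (by exact_mod_cast hdim)
  apply le_antisymm
  · intro x hx
    obtain ⟨k, hk⟩ := hx
    have : K ≤ IsLocalRing.maximalIdeal S := IsLocalRing.le_maximalIdeal hK
    exact (IsLocalRing.maximalIdeal.isMaximal S).isPrime.mem_of_pow_mem k (this hk)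
  · rw [Ideal.radical_eq_sInf]
    apply le_sInf
    rintro q ⟨hKq, hq⟩
    have hq' : (q.map (Ideal.Quotient.mk K)).IsPrime :=
      Ideal.map_isPrime_of_surjective Ideal.Quotient.mk_surjective (by rwa [Ideal.mk_ker])
    have hmax : (q.map (Ideal.Quotient.mk K)).IsMaximal := Ring.krullDimLE_zero_iff.1 h0 _ hq'
    have hqmax : q.IsMaximal := by
      have := Ideal.comap_isMaximal_of_surjective (Ideal.Quotient.mk K)
        Ideal.Quotient.mk_surjective (K := q.map (Ideal.Quotient.mk K))
      rwa [Ideal.comap_map_of_surjective _ Ideal.Quotient.mk_surjective, ← RingHom.ker_eq_comap_bot,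
        Ideal.mk_ker, sup_eq_left.2 hKq] at this
    rw [IsLocalRing.eq_maximalIdeal hqmax]

/-- non-vanishing of `H^n_𝔞(S/P)` when `dim S/P = n` and `𝔞 + P` is `m`-primary. -/
theorem nontrivial_H_quotient_prime (𝔞 P : Ideal S) [P.IsPrime] (h𝔞 : 𝔞 ≠ ⊤) (n : ℕ)
    (hP : ringKrullDim (S ⧸ P) = n) (hdim : ringKrullDim (S ⧸ (𝔞 ⊔ P)) ≤ 0) :
    Nontrivial ((localCohomology 𝔞 n).obj (ModuleCat.of S (S ⧸ P))) := by
  have hK : 𝔞 ⊔ P ≠ ⊤ := by
    intro h
    have h1 : 𝔞 ⊔ P ≤ IsLocalRing.maximalIdeal S :=
      sup_le (IsLocalRing.le_maximalIdeal h𝔞) (IsLocalRing.le_maximalIdeal (Ideal.IsPrime.ne_top ‹_›))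
    rw [h] at h1
    exact (IsLocalRing.maximalIdeal.isMaximal S).ne_top (top_le_iff.1 h1)
  have hrad : (𝔞 ⊔ P).radical = (IsLocalRing.maximalIdeal S).radical := by
    rw [radical_eq_maximalIdeal_of_dim_le_zero (𝔞 ⊔ P) hK hdim,
      (IsLocalRing.maximalIdeal.isMaximal S).isPrime.radical]
  have hsd : Module.supportDim S (S ⧸ P) = (n : WithBot ℕ∞) := by
    rw [Module.supportDim_quotient_eq_ringKrullDim, hP]
  have hnt := nontrivial_top (R := S) (S ⧸ P) n hsd
  have hnt2 : Nontrivial ((localCohomology (𝔞 ⊔ P) n).obj (ModuleCat.of S (S ⧸ P))) :=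
    (((localCohomology.isoOfSameRadical hrad n).app
      (ModuleCat.of S (S ⧸ P))).toLinearEquiv).symm.injective.nontrivial
  have htors : LocCoh.IsPowerTorsion P (S ⧸ P) := by
    intro x
    refine ⟨1, fun b hb => ?_⟩
    obtain ⟨r, rfl⟩ := Ideal.Quotient.mk_surjective x
    rw [pow_one] at hb
    change Ideal.Quotient.mk P (b * r) = 0
    rw [Ideal.Quotient.eq_zero_iff_mem]
    exact Ideal.mul_mem_right _ _ hb
  have hbij := cmp_bijective_of_isPowerTorsion' 𝔞 P n (ModuleCat.of S (S ⧸ P)) htors
  exact hbij.1.nontrivial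

end NonVanishing

end Groth.Agent.Lib.Helper92.LC
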