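import Groth.Agent.Lib.Helper92.LocCohCompare
import Groth.Agent.Lib.Helper92.LocCohColim
import Mathlib.Algebra.Module.LocalizedModule.Exact

open CategoryTheory CategoryTheory.Limits Opposite

namespace Groth.Agent.Lib.Helper92.LC

open Groth.Agent.Lib.Helper92.FiltExt

universe u
variable {R : Type u} [CommRing R] (I : Ideal R)

section SmulHmap

variable {I}

theorem Hmap_smul (i : ℕ) {M N : ModuleCat.{u} R} (r : R) (φ : M ⟶ N)
    (y : (localCohomology I i).obj M) : Hmap I i (r • φ) y = r • Hmap I i φ y := by
  have h1 : r • φ = φ ≫ (r • 𝟙 N) := by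
    rw [Linear.comp_smul, Category.comp_id]
  rw [h1]
  change ((localCohomology I i).map (φ ≫ (r • 𝟙 N))).hom y = _
  rw [Functor.map_comp]
  exact Hmap_smul_id I i r _

theorem Hmap_comp (i : ℕ) {M N P : ModuleCat.{u} R} (φ : M ⟶ N) (ψ : N ⟶ P)
    (y : (localCohomology I i).obj M) : Hmap I i (φ ≫ ψ) y = Hmap I i ψ (Hmap I i φ y) := by
  change ((localCohomology I i).map (φ ≫ ψ)).hom y = _
  rw [Functor.map_comp]
  rfl

end SmulHmap

section Tower

variable (b : R) (M : Type u) [AddCommGroup M] [Module R M]

/-- the tower `M →b M →b M → ⋯` indexed by `ULift ℕ`. -/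
def towerDiagram : ULift.{u} ℕ ⥤ ModuleCat.{u} R where
  obj _ := ModuleCat.of R M
  map {n m} _ := (b ^ (m.down - n.down)) • 𝟙 (ModuleCat.of R M)
  map_id n := by simp
  map_comp {n m k} f g := by
    have h1 : n.down ≤ m.down := (leOfHom f : n ≤ m)
    have h2 : m.down ≤ k.down := (leOfHom g : m ≤ k)
    rw [Linear.smul_comp, Linear.comp_smul, Category.comp_id, smul_smul, ← pow_add]
    congr 2
    omega

/-- `b^n` as an element of the submonoid of powers -/
def bPow (n : ℕ) : Submonoid.powers b := ⟨b ^ n, n, rfl⟩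

/-- the maps `M → M_b`, `m ↦ m / b^n`. -/
noncomputable def towerι (n : ℕ) : M →ₗ[R] LocalizedModule (Submonoid.powers b) M where
  toFun m := LocalizedModule.mk m (bPow b n)
  map_add' m m' := by rw [LocalizedModule.mk_add_mk]; 
                      rw [← LocalizedModule.mk_cancel_common_left (bPow b n) (bPow b n) (m + m')]
                      congr 1
                      rw [smul_add]
  map_smul' r m := by rw [RingHom.id_apply, LocalizedModule.smul'_mk]


theorem towerι_zero : towerι b M 0 = locMap b M := by
  ext m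
  change LocalizedModule.mk m (bPow b 0) = LocalizedModule.mk m 1
  congr 1
  exact Subtype.ext (pow_zero b)

theorem smul_towerι (n : ℕ) (m : M) : b ^ n • towerι b M n m = locMap b M m := by
  change b ^ n • LocalizedModule.mk m (bPow b n) = LocalizedModule.mk m 1
  rw [LocalizedModule.smul'_mk]
  exact LocalizedModule.mk_cancel (bPow b n) m

theorem towerι_smul (n k : ℕ) (m : M) : towerι b M (n + k) (b ^ k • m) = towerι b M n m := by
  change LocalizedModule.mk (b ^ k • m) (bPow b (n + k)) = LocalizedModule.mk m (bPow b n)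
  have : bPow b (n + k) = bPow b k * bPow b n := Subtype.ext (by
    change b ^ (n + k) = b ^ k * b ^ n
    rw [pow_add, mul_comm])
  rw [this]
  exact LocalizedModule.mk_cancel_common_left (bPow b k) (bPow b n) m

/-- the cocone over the tower with vertex `M_b`. -/
noncomputable def towerCocone : Cocone (towerDiagram b M) where
  pt := ModuleCat.of R (LocalizedModule (Submonoid.powers b) M)
  ι :=
    { app := fun n => ModuleCat.ofHom (towerι b M n.down)
      naturality := by
        intro n m f
        have h1 : n.down ≤ m.down := (leOfHom f : n ≤ m)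
        ext x
        change towerι b M m.down (b ^ (m.down - n.down) • x) = towerι b M n.down x
        obtain ⟨k, hk⟩ : ∃ k, m.down = n.down + k := ⟨m.down - n.down, by omega⟩
        rw [hk, Nat.add_sub_cancel_left]
        exact towerι_smul b M n.down k x }

theorem towerCocone_isFiltColim : IsFiltColim (towerDiagram b M) (towerCocone b M) where
  rep y := by
    induction y using LocalizedModule.induction_on with
    | h m s =>
      obtain ⟨_, n, rfl⟩ := s
      exact ⟨⟨n⟩, m, rfl⟩
  eqz n m h := by
    have h' : LocalizedModule.mk m (bPow b n.down) = 0 := h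
    rw [← LocalizedModule.zero_mk (bPow b n.down), LocalizedModule.mk_eq] at h'
    obtain ⟨⟨_, k, rfl⟩, hu⟩ := h'
    rw [smul_zero, smul_zero] at hu
    refine ⟨⟨n.down + (k + n.down)⟩, homOfLE (by change n.down ≤ n.down + (k + n.down); omega), ?_⟩
    change b ^ (n.down + (k + n.down) - n.down) • m = 0
    rw [Nat.add_sub_cancel_left, pow_add, mul_smul]
    exact hu

end Tower

end Groth.Agent.Lib.Helper92.LC

namespace Groth.Agent.Lib.Helper92.LC

open Groth.Agent.Lib.Helper92.FiltExt

universe u
variable {R : Type u} [CommRing R] [IsNoetherianRing R] (I : Ideal R) (i : ℕ)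
  (b : R) (M : Type u) [AddCommGroup M] [Module R M]

/-- `ℓ_* : H^i_I(M) → H^i_I(M_b)` -/
noncomputable abbrev Hloc : (localCohomology I i).obj (ModuleCat.of R M) →ₗ[R]
    (localCohomology I i).obj (ModuleCat.of R (LocalizedModule (Submonoid.powers b) M)) :=
  Hmap I i (ModuleCat.ofHom (locMap b M))

theorem Hloc_surj (y : (localCohomology I i).obj
    (ModuleCat.of R (LocalizedModule (Submonoid.powers b) M))) :
    ∃ (n : ℕ) (x : (localCohomology I i).obj (ModuleCat.of R M)), Hloc I i b M x = b ^ n • y := by
  obtain ⟨n, yn, rfl⟩ := H_rep I i (towerCocone_isFiltColim b M) y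
  refine ⟨n.down, yn, ?_⟩
  have h1 : ModuleCat.ofHom (locMap b M) = b ^ n.down • (towerCocone b M).ι.app n := by
    ext m
    exact (smul_towerι b M n.down m).symm
  change Hmap I i (ModuleCat.ofHom (locMap b M)) yn = _
  rw [h1]
  exact Hmap_smul i _ _ yn

theorem Hloc_ker (x : (localCohomology I i).obj (ModuleCat.of R M)) (hx : Hloc I i b M x = 0) :
    ∃ n : ℕ, b ^ n • x = 0 := by
  have h0 : Hmap I i ((towerCocone b M).ι.app ⟨0⟩) x = 0 := by
    have : (towerCocone b M).ι.app ⟨0⟩ = ModuleCat.ofHom (locMap b M) := by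
      change ModuleCat.ofHom (towerι b M 0) = _
      rw [towerι_zero]
    rw [this]; exact hx
  obtain ⟨k, f, hk⟩ := H_eqz I i (towerCocone_isFiltColim b M) ⟨0⟩ x h0
  refine ⟨k.down - 0, ?_⟩
  rw [← Hmap_smul_id]
  exact hk

omit [IsNoetherianRing R] in
theorem smul_injective_Hloc (y : (localCohomology I i).obj
    (ModuleCat.of R (LocalizedModule (Submonoid.powers b) M))) (n : ℕ) (hy : b ^ n • y = 0) :
    y = 0 := by
  have hiso : IsIso (b ^ n • 𝟙 (ModuleCat.of R (LocalizedModule (Submonoid.powers b) M))) := by
    rw [ConcreteCategory.isIso_iff_bijective]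
    have := IsLocalizedModule.map_units (locMap b M) (bPow b n)
    exact (Module.End.isUnit_iff _).1 this
  rw [← Hmap_smul_id] at hy
  have h1 : Hmap I i (inv (b ^ n • 𝟙 (ModuleCat.of R (LocalizedModule (Submonoid.powers b) M))))
      (Hmap I i (b ^ n • 𝟙 _) y) = y := by
    rw [← Hmap_comp, IsIso.hom_inv_id]
    change ((localCohomology I i).map (𝟙 _)).hom y = y
    rw [CategoryTheory.Functor.map_id]
    rfl
  rw [← h1, hy, map_zero]

/-- if `H^i_I(M) = 0` then `H^i_I(M_b) = 0`. -/
theorem subsingleton_Hloc (h : Subsingleton ((localCohomology I i).obj (ModuleCat.of R M))) :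
    Subsingleton ((localCohomology I i).obj
      (ModuleCat.of R (LocalizedModule (Submonoid.powers b) M))) := by
  refine ⟨fun y y' => ?_⟩
  suffices h : ∀ y : (localCohomology I i).obj
      (ModuleCat.of R (LocalizedModule (Submonoid.powers b) M)), y = 0 from
    (h y).trans (h y').symm
  intro y
  obtain ⟨n, x, hx⟩ := Hloc_surj I i b M y
  apply smul_injective_Hloc I i b M y n
  rw [← hx, Subsingleton.elim x 0, map_zero]

end Groth.Agent.Lib.Helper92.LC
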