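import Groth.Agent.Lib.Helper92.LocCohTopVan
import Groth.Agent.Lib.Helper92.LocCohLoc

open CategoryTheory CategoryTheory.Limits Opposite
open scoped Pointwise

namespace Groth.Agent.Lib.Helper92.LC

universe u

section RelTop
variable {R : Type u} [CommRing R] [IsNoetherianRing R] (I : Ideal R)

/-- Grothendieck vanishing relative to a module `M`: if `Supp N ⊆ Supp M` and `dim M < i` then
`H^i_I(N) = 0`. -/
theorem subsingleton_of_support_subset (i : ℕ) (M N : Type u) [AddCommGroup M] [Module R M]
    [AddCommGroup N] [Module R N]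
    (hsub : Module.support R N ⊆ Module.support R M)
    (hdim : Module.supportDim R M < (i : WithBot ℕ∞)) :
    Subsingleton ((localCohomology I i).obj (ModuleCat.of R N)) := by
  apply subsingleton_of_supportDim_lt I i N
  refine lt_of_le_of_lt ?_ hdim
  exact Order.krullDim_le_of_strictMono (fun x => ⟨x.1, hsub x.2⟩) (fun _ _ h => h)

/-- relative version of `subsingleton_top_of_mem_support`. -/
theorem subsingleton_top_of_mem_support_rel (d : ℕ)
    (M : Type u) [AddCommGroup M] [Module R M] [Module.Finite R M]
    (hd : Module.supportDim R M ≤ (d : WithBot ℕ∞))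
    (hvan : Subsingleton ((localCohomology I d).obj (ModuleCat.of R M)))
    (p : PrimeSpectrum R) (hp : p ∈ Module.support R M) :
    Subsingleton ((localCohomology I d).obj (ModuleCat.of R (R ⧸ p.asIdeal))) := by
  obtain ⟨ψ, hψ⟩ := exists_linearMap_ne_zero R p M hp
  have hS₁ := LinearMap.shortExact_shortComplexKer (LinearMap.surjective_rangeRestrict ψ)
  have hS₂ := sesOfInjective_shortExact (LinearMap.range ψ).subtype
    (Submodule.injective_subtype _)
  have hK : Subsingleton ((localCohomology I (d + 1)).obj
      (LinearMap.shortComplexKer ψ.rangeRestrict).X₁) := by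
    apply subsingleton_of_support_subset I (d + 1) M
    · exact Module.support_subset_of_injective _ (Submodule.injective_subtype _)
    · refine lt_of_le_of_lt hd ?_
      exact_mod_cast Nat.lt_succ_self d
  have hQ : Subsingleton ((localCohomology I d).obj
      (sesOfInjective (LinearMap.range ψ).subtype).X₃) := by
    apply subsingleton_of_supportDim_lt I d
    obtain ⟨m, hm⟩ : ∃ m, ψ m ≠ 0 := by
      by_contra h
      exact hψ (LinearMap.ext fun m => by
        by_contra h'
        exact h ⟨m, h'⟩)
    obtain ⟨r, hr⟩ := Ideal.Quotient.mk_surjective (ψ m)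
    have hrp : r ∉ p.asIdeal := fun h =>
      hm (by rw [← hr]; exact Ideal.Quotient.eq_zero_iff_mem.2 h)
    have hann : ∀ a ∈ p.asIdeal ⊔ Ideal.span {r},
        a ∈ Module.annihilator R
          ((R ⧸ p.asIdeal) ⧸ LinearMap.range (LinearMap.range ψ).subtype) := by
      intro a ha
      rw [Module.mem_annihilator]
      intro x
      obtain ⟨x, rfl⟩ := Submodule.mkQ_surjective _ x
      obtain ⟨x, rfl⟩ := Ideal.Quotient.mk_surjective x
      rw [← map_smul]
      refine (Submodule.Quotient.mk_eq_zero _).2 ?_
      rw [Submodule.range_subtype]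
      obtain ⟨b, hb, c, hc, rfl⟩ := Submodule.mem_sup.1 ha
      obtain ⟨c, rfl⟩ := Ideal.mem_span_singleton'.1 hc
      rw [add_smul]
      refine Submodule.add_mem _ ?_ ?_
      · have : b • (Ideal.Quotient.mk p.asIdeal x) = 0 := by
          rw [smul_quot_mk, Ideal.Quotient.eq_zero_iff_mem]
          exact Ideal.mul_mem_right _ _ hb
        rw [this]
        exact Submodule.zero_mem _
      · have : (c * r) • (Ideal.Quotient.mk p.asIdeal x) = (c * x) • ψ m := by
          rw [← hr, smul_quot_mk, smul_quot_mk]
          congr 1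
          ring
        rw [this, ← map_smul]
        exact ⟨_, rfl⟩
    have hz' : ∀ z ∈ Module.support R
        ((R ⧸ p.asIdeal) ⧸ LinearMap.range (LinearMap.range ψ).subtype),
        p.asIdeal ≤ z.asIdeal ∧ r ∈ z.asIdeal := by
      intro z hz
      have hz' := Module.annihilator_le_of_mem_support hz
      exact ⟨fun a ha => hz' (hann a (Submodule.mem_sup_left ha)),
        hz' (hann r (Submodule.mem_sup_right (Ideal.mem_span_singleton_self r)))⟩
    rw [Module.supportDim, Order.krullDim_lt_coe_iff]
    intro l
    have hle : p ≤ l.head.1 := (hz' l.head.1 l.head.2).1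
    have hlt : p < l.head.1 := by
      refine lt_of_le_of_ne hle ?_
      intro h
      apply hrp
      have := (hz' l.head.1 l.head.2).2
      rw [← h] at this
      exact this
    have hmemM : ∀ z ∈ Module.support R
        ((R ⧸ p.asIdeal) ⧸ LinearMap.range (LinearMap.range ψ).subtype),
        z ∈ Module.support R M := fun z hz => Module.mem_support_mono (hz' z hz).1 hp
    let l₀ : LTSeries (Module.support R M) :=
      l.map (fun z => (⟨z.1, hmemM z.1 z.2⟩ : Module.support R M)) (fun _ _ h => h)
    have hlt' : (⟨p, hp⟩ : Module.support R M) < l₀.head := hlt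
    have h1 := Order.LTSeries.length_le_krullDim (l₀.cons ⟨p, hp⟩ hlt')
    have h2 : (l₀.cons ⟨p, hp⟩ hlt').length = l.length + 1 := by
      change 0 + l.length + 1 = l.length + 1
      omega
    rw [h2] at h1
    have h3 : ((l.length + 1 : ℕ) : WithBot ℕ∞) ≤ (d : WithBot ℕ∞) := h1.trans hd
    have : l.length + 1 ≤ d := by exact_mod_cast h3
    omega
  refine ⟨fun y y' => ?_⟩
  suffices h : ∀ y : (localCohomology I d).obj (ModuleCat.of R (R ⧸ p.asIdeal)), y = 0 from
    (h y).trans (h y').symm
  intro y
  obtain ⟨w, rfl⟩ := exact₂ I d hS₂ y (Subsingleton.elim _ _)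
  obtain ⟨v, rfl⟩ := exact₃ I d hS₁ w (Subsingleton.elim _ _)
  rw [Subsingleton.elim v 0, map_zero, map_zero]

/-- if `H^d_I(M) = 0` for a finite module `M` of dimension `≤ d`, then `H^d_I(N) = 0` for every
module `N` with `Supp N ⊆ Supp M`. -/
theorem subsingleton_top_of_support_subset (d : ℕ)
    (M : Type u) [AddCommGroup M] [Module R M] [Module.Finite R M]
    (hd : Module.supportDim R M ≤ (d : WithBot ℕ∞))
    (hvan : Subsingleton ((localCohomology I d).obj (ModuleCat.of R M)))
    (N : Type u) [AddCommGroup N] [Module R N]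
    (hsub : Module.support R N ⊆ Module.support R M) :
    Subsingleton ((localCohomology I d).obj (ModuleCat.of R N)) := by
  have hfin : ∀ (N : Type u) [AddCommGroup N] [Module R N] [Module.Finite R N],
      Module.support R N ⊆ Module.support R M →
      Subsingleton ((localCohomology I d).obj (ModuleCat.of R N)) := by
    intro N _ _ hN
    induction hN using IsNoetherianRing.induction_on_isQuotientEquivQuotientPrime R with
    | subsingleton N => exact fun _ => subsingleton_of_subsingleton I d (ModuleCat.of R N)
    | quotient N q e =>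
      intro hsub
      suffices h : Subsingleton ((localCohomology I d).obj (ModuleCat.of R (R ⧸ q.asIdeal))) by
        let e' : ModuleCat.of R N ≅ ModuleCat.of R (R ⧸ q.asIdeal) := e.toModuleIso
        exact ((localCohomology I d).mapIso e').toLinearEquiv.injective.subsingleton
      have hq : q ∈ Module.support R M := by
        apply hsub
        rw [e.support_eq, Module.support_eq_zeroLocus, Ideal.annihilator_quotient]
        exact le_refl q.asIdeal
      exact subsingleton_top_of_mem_support_rel I d M hd hvan q hq
    | exact N₁ N₂ N₃ f g hf hg hfg h₁ h₃ =>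
      intro hsub
      rw [Module.support_of_exact hfg hf hg] at hsub
      have hS : (ModuleCat.shortComplexOfCompEqZero f g hfg.linearMap_comp_eq_zero).ShortExact :=
        ModuleCat.shortComplex_shortExact _ hfg hf hg
      refine ⟨fun y y' => ?_⟩
      suffices h : ∀ y : (localCohomology I d).obj (ModuleCat.of R N₂), y = 0 from
        (h y).trans (h y').symm
      intro y
      have h₃' : Subsingleton ((localCohomology I d).obj
        (ModuleCat.shortComplexOfCompEqZero f g hfg.linearMap_comp_eq_zero).X₃) :=
        h₃ (Set.subset_union_right.trans hsub)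
      have h₁' : Subsingleton ((localCohomology I d).obj
        (ModuleCat.shortComplexOfCompEqZero f g hfg.linearMap_comp_eq_zero).X₁) :=
        h₁ (Set.subset_union_left.trans hsub)
      obtain ⟨x, rfl⟩ := exact₂ I d hS y (Subsingleton.elim _ _)
      rw [Subsingleton.elim x 0, map_zero]
  refine ⟨fun y y' => ?_⟩
  suffices h : ∀ y : (localCohomology I d).obj (ModuleCat.of R N), y = 0 from
    (h y).trans (h y').symm
  intro y
  obtain ⟨N', hN', yN, rfl⟩ := exists_fg_rep I N d y
  have : Module.Finite R N' := Module.Finite.iff_fg.2 hN'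
  have := hfin N' ((Module.support_subset_of_injective _ (Submodule.injective_subtype N')).trans hsub)
  rw [Subsingleton.elim yN 0, map_zero]

/-- the relative bound on cohomological dimension. -/
theorem subsingleton_ge_of_support_subset (d : ℕ)
    (M : Type u) [AddCommGroup M] [Module R M] [Module.Finite R M]
    (hd : Module.supportDim R M ≤ (d : WithBot ℕ∞))
    (hvan : Subsingleton ((localCohomology I d).obj (ModuleCat.of R M)))
    (N : Type u) [AddCommGroup N] [Module R N]
    (hsub : Module.support R N ⊆ Module.support R M) (i : ℕ) (hi : d ≤ i) :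
    Subsingleton ((localCohomology I i).obj (ModuleCat.of R N)) := by
  rcases Nat.lt_or_ge d i with hlt | hge
  · apply subsingleton_of_support_subset I i M N hsub
    refine lt_of_le_of_lt hd ?_
    exact_mod_cast hlt
  · obtain rfl : i = d := le_antisymm hge hi
    exact subsingleton_top_of_support_subset I i M hd hvan N hsub

end RelTop

section RightExact
variable {R : Type u} [CommRing R] (I : Ideal R)

theorem Hmap_id (i : ℕ) (M : ModuleCat.{u} R) (y : (localCohomology I i).obj M) :
    Hmap I i (𝟙 M) y = y := by
  have := Hmap_smul_id I (i := i) (M := M) 1 y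
  rwa [one_smul, one_smul] at this

theorem Hmap_zero (i : ℕ) (M N : ModuleCat.{u} R) (y : (localCohomology I i).obj M) :
    Hmap I i (0 : M ⟶ N) y = 0 := by
  have := Hmap_smul (I := I) i (0 : R) (0 : M ⟶ N) y
  rwa [zero_smul, zero_smul] at this

/-- right exactness of `H^i_I` in one element, assuming `H^{i+1}_I` vanishes on submodules of
`N`. -/
theorem Hmap_of_ker_eq_smul (i : ℕ) {N N' : Type u} [AddCommGroup N] [Module R N]
    [AddCommGroup N'] [Module R N'] (g : N →ₗ[R] N') (hg : Function.Surjective g) (x : R)
    (hker : ∀ n, g n = 0 ↔ ∃ n', x • n' = n)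
    (hcd : ∀ (K : Submodule R N),
      Subsingleton ((localCohomology I (i + 1)).obj (ModuleCat.of R K))) :
    Function.Surjective (Hmap I i (ModuleCat.ofHom g)) ∧
      ∀ a, Hmap I i (ModuleCat.ofHom g) a = 0 → ∃ b, x • b = a := by
  let φ : N →ₗ[R] N := LinearMap.lsmul R N x
  have hS₁ := LinearMap.shortExact_shortComplexKer (LinearMap.surjective_rangeRestrict φ)
  have hcomp : g ∘ₗ (LinearMap.range φ).subtype = 0 := by
    ext ⟨n, hn⟩
    obtain ⟨n', rfl⟩ := hn
    exact (hker _).2 ⟨n', rfl⟩
  have hex : Function.Exact (LinearMap.range φ).subtype g := by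
    intro n
    rw [hker]
    constructor
    · rintro ⟨n', rfl⟩
      exact ⟨⟨x • n', n', rfl⟩, rfl⟩
    · rintro ⟨⟨_, n', rfl⟩, rfl⟩
      exact ⟨n', rfl⟩
  have hS₂ : (ModuleCat.shortComplexOfCompEqZero (LinearMap.range φ).subtype g hcomp).ShortExact :=
    ModuleCat.shortComplex_shortExact _ hex (Submodule.injective_subtype _) hg
  have hK₁ : Subsingleton ((localCohomology I (i + 1)).obj
      (LinearMap.shortComplexKer φ.rangeRestrict).X₁) := hcd _
  have hK₂ : Subsingleton ((localCohomology I (i + 1)).obj
      (ModuleCat.shortComplexOfCompEqZero (LinearMap.range φ).subtype g hcomp).X₁) := hcd _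
  constructor
  · intro z
    exact exact₃ I i hS₂ z (Subsingleton.elim _ _)
  · intro a ha
    obtain ⟨w, rfl⟩ := exact₂ I i hS₂ a ha
    obtain ⟨v, rfl⟩ := exact₃ I i hS₁ w (Subsingleton.elim _ _)
    refine ⟨v, ?_⟩
    rw [← Hmap_smul_id]
    have hcomp' : x • 𝟙 (ModuleCat.of R N) =
        (LinearMap.shortComplexKer φ.rangeRestrict).g ≫
          (ModuleCat.shortComplexOfCompEqZero (LinearMap.range φ).subtype g hcomp).f := by
      ext m
      rfl
    rw [hcomp']
    exact Hmap_comp (I := I) i _ _ v

/-- right exactness of `H^i_I` for a finitely generated ideal: if `H^{i+1}_I` vanishes on modules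
supported in `Supp N`, then `H^i_I(N) → H^i_I(N/𝔞N)` is surjective with kernel `𝔞 H^i_I(N)`. -/
theorem Hmap_of_ker_eq_span_smul (i : ℕ) (N : Type u) [AddCommGroup N] [Module R N]
    (hcd : ∀ (K : Type u) [AddCommGroup K] [Module R K],
      Module.support R K ⊆ Module.support R N →
      Subsingleton ((localCohomology I (i + 1)).obj (ModuleCat.of R K)))
    (s : Finset R) : ∀ (N' : Type u) [AddCommGroup N'] [Module R N'] (g : N →ₗ[R] N'),
      Function.Surjective g →
      LinearMap.ker g = Ideal.span (s : Set R) • (⊤ : Submodule R N) →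
      Function.Surjective (Hmap I i (ModuleCat.ofHom g)) ∧
      ∀ a, Hmap I i (ModuleCat.ofHom g) a = 0 →
        a ∈ Ideal.span (s : Set R) •
          (⊤ : Submodule R ((localCohomology I i).obj (ModuleCat.of R N))) := by
  classical
  induction s using Finset.induction_on with
  | empty =>
    intro N' _ _ g hg hker
    rw [Finset.coe_empty, Ideal.span_empty, Submodule.bot_smul] at hker
    have hinj : Function.Injective g := LinearMap.ker_eq_bot.1 hker
    let e := LinearEquiv.ofBijective g ⟨hinj, hg⟩
    refine ⟨?_, ?_⟩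
    · intro z
      refine ⟨Hmap I i (ModuleCat.ofHom e.symm.toLinearMap) z, ?_⟩
      rw [← Hmap_comp]
      have : ModuleCat.ofHom e.symm.toLinearMap ≫ ModuleCat.ofHom g = 𝟙 _ := by
        ext y
        exact e.apply_symm_apply y
      rw [this, Hmap_id]
    · intro a ha
      have h1 := Hmap_comp (I := I) i (ModuleCat.ofHom g) (ModuleCat.ofHom e.symm.toLinearMap) a
      have h2 : ModuleCat.ofHom g ≫ ModuleCat.ofHom e.symm.toLinearMap = 𝟙 _ := by
        ext y
        exact e.symm_apply_apply y
      rw [h2, Hmap_id, ha, map_zero] at h1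
      rw [h1]
      exact Submodule.zero_mem _
  | insert x s hx ih =>
    intro N' _ _ g hg hker
    have hBle : Ideal.span (s : Set R) • (⊤ : Submodule R N) ≤ LinearMap.ker g := by
      rw [hker]
      exact Submodule.smul_mono_left (Ideal.span_mono (by
        rw [Finset.coe_insert]
        exact Set.subset_insert _ _))
    obtain ⟨h1s, h1k⟩ := ih (N ⧸ (Ideal.span (s : Set R) • (⊤ : Submodule R N)))
      (Submodule.mkQ _) (Submodule.mkQ_surjective _) (Submodule.ker_mkQ _)
    have hg₂ : Function.Surjective
        ((Ideal.span (s : Set R) • (⊤ : Submodule R N)).liftQ g hBle) := by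
      intro z
      obtain ⟨n, rfl⟩ := hg z
      exact ⟨Submodule.Quotient.mk n, rfl⟩
    have hcomp : ModuleCat.ofHom g =
        ModuleCat.ofHom (Submodule.mkQ (Ideal.span (s : Set R) • (⊤ : Submodule R N))) ≫
        ModuleCat.ofHom ((Ideal.span (s : Set R) • (⊤ : Submodule R N)).liftQ g hBle) := by
      ext y
      rfl
    have hker₂ : ∀ y : N ⧸ (Ideal.span (s : Set R) • (⊤ : Submodule R N)),
        ((Ideal.span (s : Set R) • (⊤ : Submodule R N)).liftQ g hBle) y = 0 ↔
          ∃ y', x • y' = y := by
      intro y
      constructor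
      · intro hy
        obtain ⟨n, rfl⟩ := Submodule.Quotient.mk_surjective _ y
        have hn : n ∈ LinearMap.ker g := hy
        rw [hker, Finset.coe_insert, Ideal.span_insert, Submodule.sup_smul] at hn
        obtain ⟨a, ha, b, hb, rfl⟩ := Submodule.mem_sup.1 hn
        rw [Submodule.ideal_span_singleton_smul,
          Submodule.mem_smul_pointwise_iff_exists] at ha
        obtain ⟨a', _, rfl⟩ := ha
        refine ⟨Submodule.Quotient.mk a', ?_⟩
        rw [Submodule.Quotient.mk_add, Submodule.Quotient.mk_smul,
          (Submodule.Quotient.mk_eq_zero _).2 hb, add_zero]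
      · rintro ⟨y', rfl⟩
        obtain ⟨n', rfl⟩ := Submodule.Quotient.mk_surjective _ y'
        rw [map_smul]
        change x • g n' = 0
        rw [← map_smul]
        change x • n' ∈ LinearMap.ker g
        rw [hker]
        exact Submodule.smul_mem_smul (Ideal.subset_span (by simp)) Submodule.mem_top
    obtain ⟨h2s, h2k⟩ := Hmap_of_ker_eq_smul I i
      ((Ideal.span (s : Set R) • (⊤ : Submodule R N)).liftQ g hBle) hg₂ x hker₂
      (fun K => hcd K ((Module.support_subset_of_injective _ (Submodule.injective_subtype K)).trans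
        (Module.support_subset_of_surjective _ (Submodule.mkQ_surjective _))))
    refine ⟨?_, ?_⟩
    · intro z
      obtain ⟨w, rfl⟩ := h2s z
      obtain ⟨v, rfl⟩ := h1s w
      exact ⟨v, by rw [hcomp, Hmap_comp]⟩
    · intro a ha
      rw [hcomp, Hmap_comp] at ha
      obtain ⟨b'', hb''⟩ := h2k _ ha
      obtain ⟨b, rfl⟩ := h1s b''
      have h3 : Hmap I i
          (ModuleCat.ofHom (Submodule.mkQ (Ideal.span (s : Set R) • (⊤ : Submodule R N))))
          (a - x • b) = 0 := by
        rw [map_sub, map_smul, hb'', sub_self]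
      have h4 := h1k _ h3
      have h5 : a = (a - x • b) + x • b := by abel
      rw [h5, Finset.coe_insert, Ideal.span_insert, Submodule.sup_smul]
      refine Submodule.add_mem _ (Submodule.mem_sup_right h4) (Submodule.mem_sup_left ?_)
      exact Submodule.smul_mem_smul (Ideal.mem_span_singleton_self x) Submodule.mem_top

/-- if `H^i_I(N/𝔞N) = 0` (and `H^{i+1}_I` vanishes on modules supported in `Supp N`) then
`𝔞 H^i_I(N) = H^i_I(N)`. -/
theorem ideal_smul_top_eq_top_of_subsingleton (i : ℕ) (N : Type u) [AddCommGroup N] [Module R N]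
    (hcd : ∀ (K : Type u) [AddCommGroup K] [Module R K],
      Module.support R K ⊆ Module.support R N →
      Subsingleton ((localCohomology I (i + 1)).obj (ModuleCat.of R K)))
    (𝔞 : Ideal R) (h𝔞 : 𝔞.FG)
    (hsub : Subsingleton ((localCohomology I i).obj
      (ModuleCat.of R (N ⧸ (𝔞 • ⊤ : Submodule R N))))) :
    𝔞 • (⊤ : Submodule R ((localCohomology I i).obj (ModuleCat.of R N))) = ⊤ := by
  obtain ⟨s, rfl⟩ := h𝔞
  rw [eq_top_iff]
  intro a _
  exact (Hmap_of_ker_eq_span_smul I i N hcd s _ (Submodule.mkQ _) (Submodule.mkQ_surjective _)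
    (Submodule.ker_mkQ _)).2 a (Subsingleton.elim _ _)

end RightExact

end Groth.Agent.Lib.Helper92.LC
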