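import Groth.Agent.Lib.Helper92.LocCohNonVan

/-!
# Consequences of Grothendieck's non-vanishing theorem
-/

open CategoryTheory CategoryTheory.Limits Opposite
open scoped Pointwise

namespace Groth.Agent.Lib.Helper92.LC

universe u

section Param
variable {R : Type u} [CommRing R] [IsNoetherianRing R] [IsLocalRing R]

/-- existence of a parameter element: if `dim M = n + 1` there is `x ∈ m` with
`dim M/xM = n`. -/
theorem exists_parameter (M : Type u) [AddCommGroup M] [Module R M] [Module.Finite R M] (n : ℕ)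
    (hdim : Module.supportDim R M = ((n + 1 : ℕ) : WithBot ℕ∞)) :
    ∃ x ∈ IsLocalRing.maximalIdeal R,
      Module.supportDim R (QuotSMulTop x M) = (n : WithBot ℕ∞) := by
  have hfinMin : (Module.annihilator R M).minimalPrimes.Finite :=
    Ideal.finite_minimalPrimes_of_isNoetherianRing R _
  have ht : ∀ q ∈ hfinMin.toFinset, q.IsPrime := fun q hq => ((hfinMin.mem_toFinset).1 hq).1.1
  have htI : ∀ q ∈ hfinMin.toFinset, ¬ IsLocalRing.maximalIdeal R ≤ q := by
    intro q hq hmq
    have hq' := (hfinMin.mem_toFinset).1 hq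
    have hpos : (0 : WithBot ℕ∞) < Module.supportDim R M := by
      rw [hdim]
      exact_mod_cast Nat.succ_pos n
    rw [Module.supportDim, Order.krullDim_pos_iff] at hpos
    obtain ⟨a, b, hab⟩ := hpos
    have ha : Module.annihilator R M ≤ a.1.asIdeal := Module.annihilator_le_of_mem_support a.2
    have h1 : a.1.asIdeal ≤ q := (IsLocalRing.le_maximalIdeal a.1.isPrime.ne_top).trans hmq
    have h2 : q ≤ a.1.asIdeal := hq'.2 ⟨a.1.isPrime, ha⟩ h1
    have h3 : b.1.asIdeal ≤ q := (IsLocalRing.le_maximalIdeal b.1.isPrime.ne_top).trans hmq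
    have hab' : a.1.asIdeal < b.1.asIdeal := hab
    exact absurd (lt_of_lt_of_le hab' (h3.trans h2)) (lt_irrefl _)
  have hnot : ¬ ((IsLocalRing.maximalIdeal R : Set R) ⊆
      ⋃ q ∈ (↑hfinMin.toFinset : Set (Ideal R)), ((fun q : Ideal R => q) q : Set R)) := by
    intro hsub
    obtain ⟨q, hq, hmq⟩ := (Ideal.subset_union_prime (R := R) (s := hfinMin.toFinset)
      (f := fun q => q) ⊥ ⊥ (fun q hq _ _ => ht q hq)).1 hsub
    exact htI q hq hmq
  obtain ⟨x, hx, hxU⟩ := Set.not_subset.1 hnot
  have hxq : ∀ q ∈ hfinMin.toFinset, x ∉ q := by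
    intro q hq hxq
    apply hxU
    simp only [Set.mem_iUnion]
    exact ⟨q, Finset.mem_coe.2 hq, hxq⟩
  refine ⟨x, hx, ?_⟩
  apply eq_of_add_one_eq
  rw [← hdim]
  exact Module.supportDim_quotSMulTop_succ_eq_of_notMem_minimalPrimes_of_mem_jacobson
    (fun p hp => hxq p ((hfinMin.mem_toFinset).2 hp))
    ((IsLocalRing.maximalIdeal_le_jacobson _) hx)

end Param

section Surj
variable {R : Type u} [CommRing R] [IsNoetherianRing R] (I : Ideal R)

/-- multiplication by `x` is surjective on `H^n_I(M)` when `dim M ≤ n` and `dim M/xM < n`. -/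
theorem smul_surjective_top_rel (n : ℕ) (M : Type u) [AddCommGroup M] [Module R M]
    (hdim : Module.supportDim R M ≤ (n : WithBot ℕ∞)) (x : R)
    (hx : Module.supportDim R (QuotSMulTop x M) < (n : WithBot ℕ∞)) :
    Function.Surjective
      (fun y : (localCohomology I n).obj (ModuleCat.of R M) => x • y) := by
  have hker : ∀ (e : M), (x • (⊤ : Submodule R M)).mkQ e = 0 ↔ ∃ e', x • e' = e := by
    intro e
    rw [Submodule.mkQ_apply, Submodule.Quotient.mk_eq_zero,
      Submodule.mem_smul_pointwise_iff_exists]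
    constructor
    · rintro ⟨e', -, h⟩
      exact ⟨e', h⟩
    · rintro ⟨e', h⟩
      exact ⟨e', Submodule.mem_top, h⟩
  obtain ⟨-, hk⟩ := Hmap_of_ker_eq_smul I n
    (x • (⊤ : Submodule R M)).mkQ (Submodule.mkQ_surjective _) x hker
    (fun K => subsingleton_of_support_subset I (n + 1) M K
      (Module.support_subset_of_injective _ (Submodule.injective_subtype K))
      (lt_of_le_of_lt hdim (by exact_mod_cast Nat.lt_succ_self n)))
  have hQ : Subsingleton ((localCohomology I n).obj (ModuleCat.of R (QuotSMulTop x M))) :=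
    subsingleton_of_supportDim_lt I n _ hx
  intro a
  exact hk a (Subsingleton.elim _ _)

end Surj

section NotFinite
variable {R : Type u} [CommRing R] [IsNoetherianRing R] [IsLocalRing R]

/-- the top local cohomology `H^n_m(M)`, `n = dim M > 0`, is not finitely generated. -/
theorem not_finite_top (M : Type u) [AddCommGroup M] [Module R M] [Module.Finite R M] (n : ℕ)
    (hn0 : 0 < n) (hn : Module.supportDim R M = (n : WithBot ℕ∞)) :
    ¬ Module.Finite R
      ((localCohomology (IsLocalRing.maximalIdeal R) n).obj (ModuleCat.of R M)) := by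
  intro hfin
  have hnt := nontrivial_top M n hn
  obtain ⟨k, rfl⟩ : ∃ k, n = k + 1 := ⟨n - 1, by omega⟩
  obtain ⟨x, hx, hxdim⟩ := exists_parameter M k hn
  have hsurj := smul_surjective_top_rel (IsLocalRing.maximalIdeal R) (k + 1) M (le_of_eq hn) x
    (by rw [hxdim]; exact_mod_cast Nat.lt_succ_self k)
  have htop : (⊤ : Submodule R
      ((localCohomology (IsLocalRing.maximalIdeal R) (k + 1)).obj (ModuleCat.of R M))) ≤
      IsLocalRing.maximalIdeal R • ⊤ := by
    intro a _
    obtain ⟨b, rfl⟩ := hsurj a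
    exact Submodule.smul_mem_smul hx Submodule.mem_top
  have hbot := Submodule.eq_bot_of_le_smul_of_le_jacobson_bot (IsLocalRing.maximalIdeal R)
    (⊤ : Submodule R
      ((localCohomology (IsLocalRing.maximalIdeal R) (k + 1)).obj (ModuleCat.of R M)))
    Module.Finite.fg_top htop (IsLocalRing.maximalIdeal_le_jacobson _)
  obtain ⟨a, b, hab⟩ := hnt
  apply hab
  have ha : a ∈ (⊤ : Submodule R
      ((localCohomology (IsLocalRing.maximalIdeal R) (k + 1)).obj (ModuleCat.of R M))) :=
    Submodule.mem_top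
  have hb : b ∈ (⊤ : Submodule R
      ((localCohomology (IsLocalRing.maximalIdeal R) (k + 1)).obj (ModuleCat.of R M))) :=
    Submodule.mem_top
  rw [hbot, Submodule.mem_bot] at ha hb
  rw [ha, hb]

end NotFinite

end Groth.Agent.Lib.Helper92.LC
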