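import Groth.Agent.Lib.Helper80.TensorLoc
import Groth.Agent.Lib.Helper67.EquiCat
import Groth.Agent.Lib.Helper85.CanonAss
import Groth.Agent.S0543

/-!
# helper92: depth of a completion at a minimal prime over an extended prime
-/

set_option autoImplicit false
set_option linter.style.haveILetI false
universe u

namespace Groth.Agent.Lib.Helper92.Boot

open IsLocalRing LocCoh TensorProduct

section Fibre

variable {S : Type u} [CommRing S] [IsNoetherianRing S] [IsLocalRing S]

/-- a quotient `L/𝔞L` of a nonzero finite module over a local ring, where the maximal ideal is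
minimal over `𝔞`, has depth `0` -/
theorem depth_quot_eq_zero_of_minimal (L : Type u) [AddCommGroup L] [Module S L]
    [Module.Finite S L] [Nontrivial L] (𝔞 : Ideal S) (h𝔞 : maximalIdeal S ∈ 𝔞.minimalPrimes) :
    depth S (L ⧸ 𝔞 • (⊤ : Submodule S L)) = 0 := by
  have hle : 𝔞 ≤ maximalIdeal S := h𝔞.1.2
  have hne : 𝔞 • (⊤ : Submodule S L) ≠ ⊤ := by
    intro h
    have h1 : (⊤ : Submodule S L) = ⊥ :=
      Submodule.eq_bot_of_le_smul_of_le_jacobson_bot 𝔞 ⊤ Module.Finite.fg_top (le_of_eq h.symm)
        (hle.trans (IsLocalRing.maximalIdeal_le_jacobson _))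
    exact top_ne_bot h1
  haveI : Nontrivial (L ⧸ 𝔞 • (⊤ : Submodule S L)) := Submodule.Quotient.nontrivial_iff.2 hne
  have hrad : maximalIdeal S ≤ 𝔞.radical := by
    rw [Ideal.radical_eq_sInf]
    apply le_sInf
    rintro Q ⟨hQ𝔞, hQ⟩
    exact h𝔞.2 ⟨hQ, hQ𝔞⟩ (le_maximalIdeal hQ.ne_top)
  have h1 : Module.supportDim S (L ⧸ 𝔞 • (⊤ : Submodule S L)) ≤ 0 :=
    Groth.Agent.Lib.Helper85.Canon.supportDim_le_zero_of_le_annihilator _ 𝔞 hrad (by
      intro a ha
      rw [Module.mem_annihilator]
      intro y
      obtain ⟨y', rfl⟩ := Submodule.Quotient.mk_surjective _ y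
      rw [← Submodule.Quotient.mk_smul, Submodule.Quotient.mk_eq_zero]
      exact Submodule.smul_mem_smul ha Submodule.mem_top)
  have h2 := Groth.Agent.Lib.Helper67.depth_le_supportDim (R := S)
    (L ⧸ 𝔞 • (⊤ : Submodule S L))
  have h3 : ((depth S (L ⧸ 𝔞 • (⊤ : Submodule S L)) : ℕ∞) : WithBot ℕ∞) ≤ ((0 : ℕ∞) : WithBot ℕ∞) :=
    h2.trans h1
  exact le_antisymm (by exact_mod_cast h3) bot_le

end Fibre

section Cpl

variable (B : Type u) [CommRing B] [IsNoetherianRing B] (J : Ideal B)
  (N : Type u) [AddCommGroup N] [Module B N] [Module.Finite B N]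

/-- **depth of the completion at a minimal prime over an extended prime** -/
theorem depth_cpl_localization (P : Ideal B) [P.IsPrime] (p' : Ideal (AdicCompletion J B))
    [p'.IsPrime] (hp' : p' ∈ (P.map (algebraMap B (AdicCompletion J B))).minimalPrimes) :
    depth (Localization.AtPrime p') (LocalizedModule p'.primeCompl (AdicCompletion J N)) =
      depth (Localization.AtPrime P) (LocalizedModule P.primeCompl N) := by
  haveI : IsNoetherianRing (AdicCompletion J B) := Groth.Agent.S0543.result B J
  have hcomap : p'.comap (algebraMap B (AdicCompletion J B)) = P :=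
    Groth.Agent.Lib.Helper67.EquiCat.comap_eq_of_mem_minimalPrimes_map P p' hp'
  subst hcomap
  haveI : IsNoetherianRing (Localization.AtPrime p') :=
    IsLocalization.isNoetherianRing p'.primeCompl _ inferInstance
  let e := AdicCompletion.ofTensorProductEquivOfFiniteNoetherian J N
  let eloc := IsLocalizedModule.mapEquiv p'.primeCompl
    (LocalizedModule.mkLinearMap p'.primeCompl (AdicCompletion J B ⊗[B] N))
    (LocalizedModule.mkLinearMap p'.primeCompl (AdicCompletion J N)) (Localization.AtPrime p') e
  rw [← Groth.Agent.Lib.Helper67.depth_congr eloc]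
  obtain ⟨h1, -⟩ := Groth.Agent.Lib.Helper80.TensorLoc.formulas (A := B)
    (B := AdicCompletion J B) N (AdicCompletion J B) p'
  rw [h1]
  -- the fibre has depth zero
  haveI : Nontrivial (LocalizedModule p'.primeCompl (AdicCompletion J B)) := by
    let ε := IsLocalizedModule.linearEquiv p'.primeCompl
      (LocalizedModule.mkLinearMap p'.primeCompl (AdicCompletion J B))
      (Algebra.linearMap (AdicCompletion J B) (Localization.AtPrime p'))
    exact ε.toEquiv.nontrivial
  have hmin : maximalIdeal (Localization.AtPrime p') ∈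
      ((p'.comap (algebraMap B (AdicCompletion J B))).map
        (algebraMap B (Localization.AtPrime p'))).minimalPrimes := by
    have hmap : (p'.comap (algebraMap B (AdicCompletion J B))).map
        (algebraMap B (Localization.AtPrime p')) =
        ((p'.comap (algebraMap B (AdicCompletion J B))).map
          (algebraMap B (AdicCompletion J B))).map
          (algebraMap (AdicCompletion J B) (Localization.AtPrime p')) := by
      rw [Ideal.map_map, ← IsScalarTower.algebraMap_eq]
    rw [hmap]
    refine ⟨⟨inferInstance, ?_⟩, ?_⟩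
    · rw [← Localization.AtPrime.map_eq_maximalIdeal]
      exact Ideal.map_mono hp'.1.2
    · rintro Q ⟨hQ, hQa⟩ hQm
      haveI := hQ
      have h2 : (p'.comap (algebraMap B (AdicCompletion J B))).map
          (algebraMap B (AdicCompletion J B)) ≤
          Q.comap (algebraMap (AdicCompletion J B) (Localization.AtPrime p')) :=
        Ideal.map_le_iff_le_comap.1 hQa
      have h3 : Q.comap (algebraMap (AdicCompletion J B) (Localization.AtPrime p')) ≤ p' := by
        have := Ideal.comap_mono (f := algebraMap (AdicCompletion J B) (Localization.AtPrime p')) hQm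
        rwa [show Ideal.comap (algebraMap (AdicCompletion J B) (Localization.AtPrime p'))
          (maximalIdeal (Localization.AtPrime p')) = p' from
          Localization.AtPrime.under_maximalIdeal] at this
      have h4 := hp'.2 ⟨Ideal.comap_isPrime _ Q, h2⟩ h3
      rw [← Localization.AtPrime.map_eq_maximalIdeal,
        ← IsLocalization.map_comap p'.primeCompl (Localization.AtPrime p') Q]
      exact Ideal.map_mono h4
  have h0 : depth (Localization.AtPrime p')
      (EGA4.FibLocMod B (AdicCompletion J B) p' (AdicCompletion J B)) = 0 :=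
    depth_quot_eq_zero_of_minimal (LocalizedModule p'.primeCompl (AdicCompletion J B)) _ hmin
  rw [h0, add_zero]

end Cpl

end Groth.Agent.Lib.Helper92.Boot
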