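import Groth.Agent.Lib.Helper68.LeftDerivedLES2
import Mathlib.Algebra.Homology.SingleHomology
import Mathlib.Algebra.Homology.QuasiIso
import Mathlib.CategoryTheory.Abelian.LeftDerived

/-!
# Left derived functors via acyclic resolutions (helper92)

If `G : C ⥤ D` is right exact and `F` is a chain complex resolving `M` (a quasi-isomorphism
`F ⟶ M[0]`) whose terms are left-`G`-acyclic, then `H_i(G F) ≅ (L_i G)(M)`.
-/

set_option autoImplicit false
universe v u v' u'

open CategoryTheory Category Limits HomologicalComplex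

namespace Groth.Agent.Lib.Helper92.AcyclicRes

open Groth.Agent.Lib.Helper68.LeftDerivedLES

variable {C : Type u} [Category.{v} C] [Abelian C] [HasProjectiveResolutions C]
variable {D : Type u'} [Category.{v'} D] [Abelian D] (G : C ⥤ D) [G.Additive]
variable (F : ChainComplex C ℕ)

/-- the short complex `opcycles (k+1) ⟶ F_k ⟶ opcycles k` -/
noncomputable def sc (k : ℕ) : ShortComplex C :=
  ShortComplex.mk (F.fromOpcycles (k + 1) k) (F.pOpcycles k) (by
    rw [← cancel_epi (F.pOpcycles (k + 1)), p_fromOpcycles_assoc, d_pOpcycles, comp_zero])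

lemma mono_fromOpcycles (k : ℕ) (h : F.ExactAt (k + 1)) : Mono (F.fromOpcycles (k + 1) k) := by
  have h1 : Mono (F.sc (k + 1)).fromOpcycles := ShortComplex.Exact.mono_fromOpcycles h
  have h2 : (ComplexShape.down ℕ).next (k + 1) = k := by simp
  have key : ∀ j, (ComplexShape.down ℕ).next (k + 1) = j → Mono (F.fromOpcycles (k + 1) j) := by
    rintro _ rfl
    exact h1
  exact key k h2

lemma sc_shortExact (k : ℕ) (h : F.ExactAt (k + 1)) : (sc F k).ShortExact := by
  have : Mono (sc F k).f := mono_fromOpcycles F k h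
  have : Epi (sc F k).g := by dsimp [sc]; infer_instance
  refine ShortComplex.ShortExact.mk (ShortComplex.exact_of_g_is_cokernel _ ?_)
  exact isCokernelOfComp (F.pOpcycles (k + 1)) (F.d (k + 1) k)
    (F.opcyclesIsCokernel (k + 1) k (by simp)) (sc F k).zero (F.p_fromOpcycles (k + 1) k)

variable [PreservesFiniteColimits G]

/-- the comparison `opcycles_k (G F) ≅ G (opcycles_k F)` -/
noncomputable def opcyclesIso (k : ℕ) :
    ((G.mapHomologicalComplex (ComplexShape.down ℕ)).obj F).opcycles k ≅ G.obj (F.opcycles k) :=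
  IsColimit.coconePointUniqueUpToIso
    (((G.mapHomologicalComplex (ComplexShape.down ℕ)).obj F).opcyclesIsCokernel (k + 1) k (by simp))
    (CokernelCofork.mapIsColimit _ (F.opcyclesIsCokernel (k + 1) k (by simp)) G)

/-- `pOpcycles` of `G F`, with domain written as `G.obj (F.X k)` -/
noncomputable def pOp (k : ℕ) :
    G.obj (F.X k) ⟶ ((G.mapHomologicalComplex (ComplexShape.down ℕ)).obj F).opcycles k :=
  ((G.mapHomologicalComplex (ComplexShape.down ℕ)).obj F).pOpcycles k

omit [PreservesFiniteColimits G] in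
instance (k : ℕ) : Epi (pOp G F k) :=
  inferInstanceAs (Epi (((G.mapHomologicalComplex (ComplexShape.down ℕ)).obj F).pOpcycles k))

/-- `fromOpcycles` of `G F`, with codomain written as `G.obj (F.X k)` -/
noncomputable def fromOp (k : ℕ) :
    ((G.mapHomologicalComplex (ComplexShape.down ℕ)).obj F).opcycles (k + 1) ⟶ G.obj (F.X k) :=
  ((G.mapHomologicalComplex (ComplexShape.down ℕ)).obj F).fromOpcycles (k + 1) k

omit [PreservesFiniteColimits G] in
@[reassoc (attr := simp)]
lemma pOp_fromOp (k : ℕ) : pOp G F (k + 1) ≫ fromOp G F k = G.map (F.d (k + 1) k) :=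
  ((G.mapHomologicalComplex (ComplexShape.down ℕ)).obj F).p_fromOpcycles (k + 1) k

omit [PreservesFiniteColimits G] in
@[reassoc (attr := simp)]
lemma homologyι_fromOp (k : ℕ) :
    ((G.mapHomologicalComplex (ComplexShape.down ℕ)).obj F).homologyι (k + 1) ≫ fromOp G F k = 0 :=
  ((G.mapHomologicalComplex (ComplexShape.down ℕ)).obj F).homologyι_comp_fromOpcycles (k + 1) k

omit [PreservesFiniteColimits G] in
/-- homology is the kernel of `fromOp` -/
noncomputable def homologyIsKernel' (k : ℕ) :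
    IsLimit (KernelFork.ofι
      (((G.mapHomologicalComplex (ComplexShape.down ℕ)).obj F).homologyι (k + 1))
      (homologyι_fromOp G F k)) :=
  ((G.mapHomologicalComplex (ComplexShape.down ℕ)).obj F).homologyIsKernel (k + 1) k (by simp)

@[reassoc (attr := simp)]
lemma pOp_opcyclesIso_hom (k : ℕ) :
    pOp G F k ≫ (opcyclesIso G F k).hom = G.map (F.pOpcycles k) :=
  IsColimit.comp_coconePointUniqueUpToIso_hom
    (((G.mapHomologicalComplex (ComplexShape.down ℕ)).obj F).opcyclesIsCokernel (k + 1) k (by simp))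
    (CokernelCofork.mapIsColimit _ (F.opcyclesIsCokernel (k + 1) k (by simp)) G)
    WalkingParallelPair.one

@[reassoc (attr := simp)]
lemma opcyclesIso_hom_map_fromOpcycles (k : ℕ) :
    (opcyclesIso G F (k + 1)).hom ≫ G.map (F.fromOpcycles (k + 1) k) = fromOp G F k := by
  rw [← cancel_epi (pOp G F (k + 1)), pOp_opcyclesIso_hom_assoc, pOp_fromOp, ← G.map_comp,
    p_fromOpcycles]

@[reassoc (attr := simp)]
lemma opcyclesIso_inv_fromOp (k : ℕ) :
    (opcyclesIso G F (k + 1)).inv ≫ fromOp G F k = G.map (F.fromOpcycles (k + 1) k) := by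
  rw [← opcyclesIso_hom_map_fromOpcycles, Iso.inv_hom_id_assoc]

section Main

variable (hex : ∀ k, F.ExactAt (k + 1))
variable (hac : ∀ j n, IsZero ((G.leftDerived (n + 1)).obj (F.X j)))

include hex hac

/-- `H_{k+1}(G F) ≅ L₁G(opcycles_k F)` -/
lemma nonempty_homology_succ_iso (k : ℕ) :
    Nonempty (((G.mapHomologicalComplex (ComplexShape.down ℕ)).obj F).homology (k + 1) ≅
      (G.leftDerived 1).obj (F.opcycles k)) := by
  have hS := sc_shortExact F k (hex k)
  have hmono : Mono (δ₀ G hS) := mono_δ₀ G hS (hac k 0)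
  have : Mono (ShortComplex.mk (δ₀ G hS) (G.map (sc F k).f) (δ₀_map_f G hS)).f := hmono
  obtain ⟨d, hd_mono, hd_zero, ⟨hker⟩⟩ : ∃ d : (G.leftDerived 1).obj (F.opcycles k) ⟶
      G.obj (F.opcycles (k + 1)), Mono d ∧ ∃ h : d ≫ G.map (F.fromOpcycles (k + 1) k) = 0,
        Nonempty (IsLimit (KernelFork.ofι d h)) :=
    ⟨δ₀ G hS, hmono, δ₀_map_f G hS, ⟨(exact_δ₀ G hS).fIsKernel⟩⟩
  have hker' := homologyIsKernel' G F k
  have z1 : (((G.mapHomologicalComplex (ComplexShape.down ℕ)).obj F).homologyι (k + 1) ≫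
      (opcyclesIso G F (k + 1)).hom) ≫ G.map (F.fromOpcycles (k + 1) k) = 0 := by
    rw [assoc, opcyclesIso_hom_map_fromOpcycles, homologyι_fromOp]
  have z2 : (d ≫ (opcyclesIso G F (k + 1)).inv) ≫ fromOp G F k = 0 := by
    rw [assoc, opcyclesIso_inv_fromOp, hd_zero]
  obtain ⟨φ, hφ⟩ : ∃ φ : ((G.mapHomologicalComplex (ComplexShape.down ℕ)).obj F).homology (k + 1) ⟶
      (G.leftDerived 1).obj (F.opcycles k), φ ≫ d =
        ((G.mapHomologicalComplex (ComplexShape.down ℕ)).obj F).homologyι (k + 1) ≫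
          (opcyclesIso G F (k + 1)).hom :=
    ⟨_, (KernelFork.IsLimit.lift' hker
      (((G.mapHomologicalComplex (ComplexShape.down ℕ)).obj F).homologyι (k + 1) ≫
        (opcyclesIso G F (k + 1)).hom) z1).2⟩
  obtain ⟨ψ, hψ⟩ : ∃ ψ : (G.leftDerived 1).obj (F.opcycles k) ⟶
      ((G.mapHomologicalComplex (ComplexShape.down ℕ)).obj F).homology (k + 1),
      ψ ≫ ((G.mapHomologicalComplex (ComplexShape.down ℕ)).obj F).homologyι (k + 1) =
        d ≫ (opcyclesIso G F (k + 1)).inv :=
    ⟨_, (KernelFork.IsLimit.lift' hker' (d ≫ (opcyclesIso G F (k + 1)).inv) z2).2⟩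
  refine ⟨⟨φ, ψ, ?_, ?_⟩⟩
  · rw [← cancel_mono (((G.mapHomologicalComplex (ComplexShape.down ℕ)).obj F).homologyι (k + 1)),
      assoc, hψ, ← assoc, hφ, assoc, Iso.hom_inv_id, comp_id, id_comp]
  · rw [← cancel_mono d, assoc, hφ, ← assoc, hψ, assoc, Iso.inv_hom_id, comp_id, id_comp]

/-- dimension shifting along the opcycles sequences -/
lemma nonempty_shift (k n : ℕ) :
    Nonempty ((G.leftDerived (n + 2)).obj (F.opcycles k) ≅
      (G.leftDerived (n + 1)).obj (F.opcycles (k + 1))) := by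
  have hS := sc_shortExact F k (hex k)
  have h := isIso_δ G hS (n + 1) (hac k (n + 1)) (hac k n)
  exact ⟨@asIso _ _ _ _ (δ G hS (n + 1)) h⟩

lemma nonempty_chain : ∀ (k n m : ℕ), m = n + 1 + k →
    Nonempty ((G.leftDerived (n + 1)).obj (F.opcycles k) ≅
      (G.leftDerived m).obj (F.opcycles 0)) := by
  intro k
  induction k with
  | zero =>
    rintro n m rfl
    exact ⟨Iso.refl _⟩
  | succ k ih =>
    rintro n m rfl
    obtain ⟨e1⟩ := nonempty_shift G F hex hac k n
    obtain ⟨e2⟩ := ih (n + 1) (n + 1 + (k + 1)) (by omega)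
    exact ⟨e1.symm ≪≫ e2⟩

/-- `H_{k+1}(G F) ≅ L_{k+1}G(opcycles_0 F)` -/
lemma nonempty_homology_succ_iso' (k : ℕ) :
    Nonempty (((G.mapHomologicalComplex (ComplexShape.down ℕ)).obj F).homology (k + 1) ≅
      (G.leftDerived (k + 1)).obj (F.opcycles 0)) := by
  obtain ⟨e1⟩ := nonempty_homology_succ_iso G F hex hac k
  obtain ⟨e2⟩ := nonempty_chain G F hex hac k 0 (k + 1) (by omega)
  exact ⟨e1 ≪≫ e2⟩

omit hex hac in
/-- `H_0(G F) ≅ L_0G(opcycles_0 F)` -/
lemma nonempty_homology_zero_iso :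
    Nonempty (((G.mapHomologicalComplex (ComplexShape.down ℕ)).obj F).homology 0 ≅
      (G.leftDerived 0).obj (F.opcycles 0)) :=
  ⟨ChainComplex.isoHomologyι₀ ((G.mapHomologicalComplex (ComplexShape.down ℕ)).obj F) ≪≫
    opcyclesIso G F 0 ≪≫ (G.leftDerivedZeroIsoSelf.app (F.opcycles 0)).symm⟩

lemma nonempty_homology_iso_opcycles (i : ℕ) :
    Nonempty (((G.mapHomologicalComplex (ComplexShape.down ℕ)).obj F).homology i ≅
      (G.leftDerived i).obj (F.opcycles 0)) := by
  cases i with
  | zero => exact nonempty_homology_zero_iso G F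
  | succ k => exact nonempty_homology_succ_iso' G F hex hac k

end Main

/-- **Acyclic resolutions compute left derived functors.** -/
theorem nonempty_homology_iso_leftDerived {M : C}
    (φ : F ⟶ (ChainComplex.single₀ C).obj M) [QuasiIso φ]
    (hac : ∀ j n, IsZero ((G.leftDerived (n + 1)).obj (F.X j))) (i : ℕ) :
    Nonempty (((G.mapHomologicalComplex (ComplexShape.down ℕ)).obj F).homology i ≅
      (G.leftDerived i).obj M) := by
  have hex : ∀ k, F.ExactAt (k + 1) := by
    intro k
    rw [← quasiIsoAt_iff_exactAt' φ (k + 1) (ChainComplex.exactAt_succ_single_obj _ _)]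
    infer_instance
  obtain ⟨e⟩ := nonempty_homology_iso_opcycles G F hex hac i
  have e0 : F.opcycles 0 ≅ M :=
    (ChainComplex.isoHomologyι₀ F).symm ≪≫ isoOfQuasiIsoAt φ 0 ≪≫ singleObjHomologySelfIso _ _ _
  exact ⟨e ≪≫ (G.leftDerived i).mapIso e0⟩

end Groth.Agent.Lib.Helper92.AcyclicRes
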