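import Groth.Agent.Lib.Helper85.CanonDual
import Groth.Agent.Lib.Helper85.DepthLC
import Groth.Agent.Lib.Helper90.DimParam
import Groth.Agent.Lib.Helper92.LocCohNonVan
import Groth.Agent.Lib.Helper92.LocCohH0

/-! The acyclicity lemma (Peskine–Szpiro) via local cohomology. -/

open CategoryTheory CategoryTheory.Limits Opposite

namespace Groth.Agent.Lib.Helper92.Acyc

open Groth.Agent.Lib.Helper92.LC

set_option linter.unusedSectionVars false

universe u
variable {R : Type u} [CommRing R] [IsNoetherianRing R] (I : Ideal R)

/-- `H^j` of linearly equivalent modules -/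
theorem subsingleton_of_equiv (j : ℕ) {X Y : Type u} [AddCommGroup X] [Module R X]
    [AddCommGroup Y] [Module R Y] (e : X ≃ₗ[R] Y)
    (h : Subsingleton ((localCohomology I j).obj (ModuleCat.of R X))) :
    Subsingleton ((localCohomology I j).obj (ModuleCat.of R Y)) :=
  (((localCohomology I j).mapIso e.toModuleIso).toLinearEquiv.symm.toEquiv).subsingleton

/-- `H^0` of a submodule -/
theorem subsingleton_H0_of_injective {X Y : Type u} [AddCommGroup X] [Module R X]
    [AddCommGroup Y] [Module R Y] (f : X →ₗ[R] Y) (hf : Function.Injective f)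
    (h : Subsingleton ((localCohomology I 0).obj (ModuleCat.of R Y))) :
    Subsingleton ((localCohomology I 0).obj (ModuleCat.of R X)) := by
  have hS := sesOfInjective_shortExact f hf
  have hinj := Hmap_f_zero_injective I hS
  exact hinj.subsingleton

/-- depth of an image -/
theorem subsingleton_range (j : ℕ) {X Y : Type u} [AddCommGroup X] [Module R X]
    [AddCommGroup Y] [Module R Y] (f : X →ₗ[R] Y)
    (hX : Subsingleton ((localCohomology I j).obj (ModuleCat.of R X)))
    (hK : Subsingleton ((localCohomology I (j + 1)).obj (ModuleCat.of R (LinearMap.ker f)))) :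
    Subsingleton ((localCohomology I j).obj (ModuleCat.of R (LinearMap.range f))) := by
  let S : ShortComplex (ModuleCat.{u} R) :=
    ModuleCat.shortComplexOfCompEqZero (LinearMap.ker f).subtype f.rangeRestrict
      (by
        ext x
        exact x.2)
  have hS : S.ShortExact := by
    refine ModuleCat.shortComplex_shortExact _ ?_ (Submodule.injective_subtype _)
      f.surjective_rangeRestrict
    intro x
    constructor
    · intro hx
      exact ⟨⟨x, congrArg Subtype.val hx⟩, rfl⟩
    · rintro ⟨y, rfl⟩
      apply Subtype.ext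
      exact y.2
  refine ⟨fun a b => ?_⟩
  suffices h0 : ∀ z : (localCohomology I j).obj S.X₃, z = 0 from (h0 a).trans (h0 b).symm
  intro z
  have hδ : δ I j hS z = 0 := by
    have : Subsingleton ((localCohomology I (j + 1)).obj S.X₁) := hK
    exact Subsingleton.elim _ _
  obtain ⟨y, rfl⟩ := exact₃ I j hS z hδ
  have : Subsingleton ((localCohomology I j).obj S.X₂) := hX
  rw [Subsingleton.elim y 0, map_zero]

/-- `H^0` of a quotient -/
theorem subsingleton_H0_quotient {Z : Type u} [AddCommGroup Z] [Module R Z] (B : Submodule R Z)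
    (hZ : Subsingleton ((localCohomology I 0).obj (ModuleCat.of R Z)))
    (hB : Subsingleton ((localCohomology I 1).obj (ModuleCat.of R B))) :
    Subsingleton ((localCohomology I 0).obj (ModuleCat.of R (Z ⧸ B))) := by
  let S : ShortComplex (ModuleCat.{u} R) :=
    ModuleCat.shortComplexOfCompEqZero B.subtype B.mkQ
      (by ext x; exact (Submodule.Quotient.mk_eq_zero _).2 x.2)
  have hS : S.ShortExact :=
    ModuleCat.shortComplex_shortExact _ (LinearMap.exact_subtype_mkQ B)
      (Submodule.injective_subtype _) (Submodule.mkQ_surjective _)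
  refine ⟨fun a b => ?_⟩
  suffices h0 : ∀ z : (localCohomology I 0).obj S.X₃, z = 0 from (h0 a).trans (h0 b).symm
  intro z
  have hδ : δ I 0 hS z = 0 := by
    have : Subsingleton ((localCohomology I (0 + 1)).obj S.X₁) := hB
    exact Subsingleton.elim _ _
  obtain ⟨y, rfl⟩ := exact₃ I 0 hS z hδ
  have : Subsingleton ((localCohomology I 0).obj S.X₂) := hZ
  rw [Subsingleton.elim y 0, map_zero]

section Local

variable [IsLocalRing R]

/-- a finite length module with vanishing `H^0_m` is zero -/
theorem subsingleton_of_isFiniteLength {Q : Type u} [AddCommGroup Q] [Module R Q]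
    (hfl : IsFiniteLength R Q)
    (h0 : Subsingleton ((localCohomology (IsLocalRing.maximalIdeal R) 0).obj (ModuleCat.of R Q))) :
    Subsingleton Q := by
  have hfin : Module.Finite R Q := by
    rw [isFiniteLength_iff_isNoetherian_isArtinian] at hfl
    have := hfl.1
    infer_instance
  have hdim := Groth.Agent.Lib.Helper90.DimParam.supportDim_le_zero_of_isFiniteLength hfl
  have htors := isPowerTorsion_of_supportDim_le_zero Q hdim
  have e := γEquiv (IsLocalRing.maximalIdeal R) (ModuleCat.of R Q)
  have hsub : Subsingleton (DRing.torsionSub (IsLocalRing.maximalIdeal R) Q) :=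
    e.symm.toEquiv.subsingleton
  refine ⟨fun a b => ?_⟩
  have ha : a ∈ DRing.torsionSub (IsLocalRing.maximalIdeal R) Q := htors a
  have hb : b ∈ DRing.torsionSub (IsLocalRing.maximalIdeal R) Q := htors b
  exact congrArg Subtype.val (Subsingleton.elim (⟨a, ha⟩ : DRing.torsionSub _ Q) ⟨b, hb⟩)

/-- exactness of a short complex from depth conditions and finite length homology -/
theorem exact_of_depth (S : ShortComplex (ModuleCat.{u} R))
    (h0 : Subsingleton ((localCohomology (IsLocalRing.maximalIdeal R) 0).obj S.X₂))
    (hB : Subsingleton ((localCohomology (IsLocalRing.maximalIdeal R) 1).obj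
      (ModuleCat.of R (LinearMap.range S.f.hom))))
    (hfl : IsFiniteLength R S.homology) : S.Exact := by
  set m := IsLocalRing.maximalIdeal R
  -- cycles have no `H^0`
  have hZ : Subsingleton ((localCohomology m 0).obj (ModuleCat.of R (LinearMap.ker S.g.hom))) :=
    subsingleton_H0_of_injective m (LinearMap.ker S.g.hom).subtype
      (Submodule.injective_subtype _) h0
  -- boundaries inside cycles
  have e : LinearMap.range S.f.hom ≃ₗ[R] LinearMap.range S.moduleCatToCycles := by
    refine LinearEquiv.ofBijective
      ((LinearMap.codRestrict (LinearMap.range S.moduleCatToCycles)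
        ((LinearMap.codRestrict (LinearMap.ker S.g.hom) (LinearMap.range S.f.hom).subtype ?_)) ?_))
      ⟨?_, ?_⟩
    · rintro ⟨y, x, rfl⟩
      change S.g.hom (S.f.hom x) = 0
      rw [← ModuleCat.comp_apply, S.zero]
      rfl
    · rintro ⟨y, x, rfl⟩
      exact ⟨x, Subtype.ext rfl⟩
    · intro a b hab
      exact Subtype.ext (congrArg (fun z => z.1.1) hab)
    · rintro ⟨z, x, rfl⟩
      exact ⟨⟨S.f.hom x, x, rfl⟩, Subtype.ext (Subtype.ext rfl)⟩
  have hB' := subsingleton_of_equiv m 1 e hB
  have hQ := subsingleton_H0_quotient m (LinearMap.range S.moduleCatToCycles) hZ hB'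
  have hfl' : IsFiniteLength R
      (LinearMap.ker S.g.hom ⧸ LinearMap.range S.moduleCatToCycles) :=
    S.moduleCatHomologyIso.toLinearEquiv.isFiniteLength hfl
  have hsub := subsingleton_of_isFiniteLength hfl' hQ
  rw [S.exact_iff_isZero_homology]
  have hsub' : Subsingleton S.moduleCatLeftHomologyData.H := hsub
  have : IsZero S.moduleCatLeftHomologyData.H := ModuleCat.isZero_of_subsingleton _
  exact this.of_iso S.moduleCatHomologyIso

section Complex

variable (K : CochainComplex (ModuleCat.{u} R) ℕ) (g : ℕ)
  (hK : ∀ i j, j < g →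
    Subsingleton ((localCohomology (IsLocalRing.maximalIdeal R) j).obj (K.X i)))
  (hfl : ∀ i, IsFiniteLength R (K.homology i))

include hK hfl in
theorem exact_sc'_zero (hg : 0 < g) : (K.sc' 0 0 1).Exact := by
  apply exact_of_depth
  · exact hK 0 0 hg
  · have hd : K.d 0 0 = 0 := K.shape _ _ (by simp)
    have hsub : Subsingleton (LinearMap.range (K.sc' 0 0 1).f.hom) := by
      refine ⟨fun a b => ?_⟩
      obtain ⟨a, x, rfl⟩ := a
      obtain ⟨b, y, rfl⟩ := b
      apply Subtype.ext
      change (K.d 0 0).hom x = (K.d 0 0).hom y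
      rw [hd]
      rfl
    exact subsingleton_of_subsingleton _ 1 (ModuleCat.of R (LinearMap.range (K.sc' 0 0 1).f.hom))
  · exact (K.homologyIsoSc' 0 0 1 (by simp) (by simp)).toLinearEquiv.isFiniteLength (hfl 0)

include hK hfl in
theorem ker_d_zero (hg : 0 < g) : LinearMap.ker (K.d 0 1).hom = ⊥ := by
  have h := exact_sc'_zero K g hK hfl hg
  rw [ShortComplex.moduleCat_exact_iff] at h
  rw [eq_bot_iff]
  intro x hx
  obtain ⟨y, hy⟩ := h x hx
  have hd : K.d 0 0 = 0 := K.shape _ _ (by simp)
  change (K.d 0 0).hom y = x at hy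
  rw [hd] at hy
  rw [Submodule.mem_bot, ← hy]
  rfl

include hK hfl in
theorem exact_sc'_succ_and_depth : ∀ i, i + 1 ≤ g →
    ∀ j, j + (i + 1) ≤ g →
      Subsingleton ((localCohomology (IsLocalRing.maximalIdeal R) j).obj
        (ModuleCat.of R (LinearMap.range (K.d i (i + 1)).hom))) := by
  intro i
  induction i with
  | zero =>
    intro hi j hj
    apply subsingleton_range _ j (K.d 0 1).hom (hK 0 j (by omega))
    have hker := ker_d_zero K g hK hfl (by omega)
    have hsub : Subsingleton (LinearMap.ker (K.d 0 1).hom) := by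
      rw [hker]; infer_instance
    exact subsingleton_of_subsingleton _ (j + 1) (ModuleCat.of R (LinearMap.ker (K.d 0 1).hom))
  | succ i ih =>
    intro hi j hj
    have Q := ih (by omega)
    have hex : (K.sc' i (i + 1) (i + 1 + 1)).Exact := by
      apply exact_of_depth
      · exact hK (i + 1) 0 (by omega)
      · exact Q 1 (by omega)
      · exact (K.homologyIsoSc' i (i + 1) (i + 1 + 1) (by simp) (by simp)).toLinearEquiv.isFiniteLength
          (hfl (i + 1))
    have hker : LinearMap.range (K.d i (i + 1)).hom = LinearMap.ker (K.d (i + 1) (i + 1 + 1)).hom :=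
      (ShortComplex.moduleCat_exact_iff_range_eq_ker _).1 hex
    apply subsingleton_range _ j (K.d (i + 1) (i + 1 + 1)).hom (hK (i + 1) j (by omega))
    rw [← hker]
    exact Q (j + 1) (by omega)

include hK hfl in
/-- the acyclicity lemma -/
theorem isZero_homology (i : ℕ) (hi : i < g) : IsZero (K.homology i) := by
  cases i with
  | zero =>
    have h := exact_sc'_zero K g hK hfl hi
    rw [← K.exactAt_iff' 0 0 1 (by simp) (by simp), K.exactAt_iff_isZero_homology] at h
    exact h
  | succ i =>
    have Q := exact_sc'_succ_and_depth K g hK hfl i (by omega)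
    have hex : (K.sc' i (i + 1) (i + 1 + 1)).Exact := by
      apply exact_of_depth
      · exact hK (i + 1) 0 (by omega)
      · exact Q 1 (by omega)
      · exact (K.homologyIsoSc' i (i + 1) (i + 1 + 1) (by simp) (by simp)).toLinearEquiv.isFiniteLength
          (hfl (i + 1))
    rw [← K.exactAt_iff' i (i + 1) (i + 1 + 1) (by simp) (by simp),
      K.exactAt_iff_isZero_homology] at hex
    exact hex

end Complex

end Local

end Groth.Agent.Lib.Helper92.Acyc
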