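import Groth.Agent.Lib.Helper92.Acyclicity

/-! The acyclicity lemma, homological indexing, and a matrix version. -/

open CategoryTheory CategoryTheory.Limits Opposite

namespace Groth.Agent.Lib.Helper92.Acyc

open Groth.Agent.Lib.Helper92.LC

set_option linter.unusedSectionVars false

universe u
variable {R : Type u} [CommRing R] [IsNoetherianRing R] [IsLocalRing R]

/-- injectivity from depth and finite length kernel -/
theorem ker_eq_bot_of_depth {X Y : Type u} [AddCommGroup X] [Module R X] [AddCommGroup Y]
    [Module R Y] (φ : X →ₗ[R] Y)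
    (h0 : Subsingleton ((localCohomology (IsLocalRing.maximalIdeal R) 0).obj (ModuleCat.of R X)))
    (hfl : IsFiniteLength R (LinearMap.ker φ)) : LinearMap.ker φ = ⊥ := by
  have hZ := subsingleton_H0_of_injective (IsLocalRing.maximalIdeal R) (LinearMap.ker φ).subtype
    (Submodule.injective_subtype _) h0
  have hsub := subsingleton_of_isFiniteLength hfl hZ
  rw [eq_bot_iff]
  intro x hx
  have := Subsingleton.elim (⟨x, hx⟩ : LinearMap.ker φ) 0
  exact congrArg Subtype.val this

section Desc

variable (e : ℕ) (M : ℕ → ModuleCat.{u} R) (φ : ∀ i, M (i + 1) ⟶ M i)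
  (hφ : ∀ i, i + 2 ≤ e → φ (i + 1) ≫ φ i = 0)
  (hM : ∀ i j, j < e →
    Subsingleton ((localCohomology (IsLocalRing.maximalIdeal R) j).obj (M i)))
  (hfl_top : ∀ i, i + 1 = e → IsFiniteLength R (LinearMap.ker (φ i).hom))
  (hfl : ∀ i (h : i + 2 ≤ e), IsFiniteLength R (ShortComplex.mk (φ (i + 1)) (φ i) (hφ i h)).homology)

include hM hfl_top in
theorem ker_top (i : ℕ) (hi : i + 1 = e) : LinearMap.ker (φ i).hom = ⊥ :=
  ker_eq_bot_of_depth (φ i).hom (hM (i + 1) 0 (by omega)) (hfl_top i hi)

include hφ hM hfl_top hfl in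
theorem desc_depth : ∀ k i, i + 1 + k = e → ∀ j, j + (k + 1) ≤ e →
    Subsingleton ((localCohomology (IsLocalRing.maximalIdeal R) j).obj
      (ModuleCat.of R (LinearMap.range (φ i).hom))) := by
  intro k
  induction k with
  | zero =>
    intro i hi j hj
    apply subsingleton_range _ j (φ i).hom (hM (i + 1) j (by omega))
    have hker := ker_top e M φ hM hfl_top i (by omega)
    have hsub : Subsingleton (LinearMap.ker (φ i).hom) := by
      rw [hker]; infer_instance
    exact subsingleton_of_subsingleton _ (j + 1) (ModuleCat.of R (LinearMap.ker (φ i).hom))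
  | succ k ih =>
    intro i hi j hj
    have Q := ih (i + 1) (by omega)
    have hex : (ShortComplex.mk (φ (i + 1)) (φ i) (hφ i (by omega))).Exact := by
      apply exact_of_depth
      · exact hM (i + 1) 0 (by omega)
      · exact Q 1 (by omega)
      · exact hfl i (by omega)
    have hker : LinearMap.range (φ (i + 1)).hom = LinearMap.ker (φ i).hom :=
      (ShortComplex.moduleCat_exact_iff_range_eq_ker _).1 hex
    apply subsingleton_range _ j (φ i).hom (hM (i + 1) j (by omega))
    rw [← hker]
    exact Q (j + 1) (by omega)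

include hφ hM hfl_top hfl in
theorem desc_exact (i : ℕ) (hi : i + 2 ≤ e) :
    LinearMap.ker (φ i).hom = LinearMap.range (φ (i + 1)).hom := by
  obtain ⟨k, hk⟩ : ∃ k, i + 1 + 1 + k = e := ⟨e - (i + 2), by omega⟩
  have Q := desc_depth e M φ hφ hM hfl_top hfl k (i + 1) hk
  have hex : (ShortComplex.mk (φ (i + 1)) (φ i) (hφ i hi)).Exact := by
    apply exact_of_depth
    · exact hM (i + 1) 0 (by omega)
    · exact Q 1 (by omega)
    · exact hfl i hi
  exact ((ShortComplex.moduleCat_exact_iff_range_eq_ker _).1 hex).symm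

end Desc

section Matrix

/-- finite length from torsion on the punctured spectrum -/
theorem isFiniteLength_of_forall_prime {X : Type u} [AddCommGroup X] [Module R X]
    [Module.Finite R X]
    (h : ∀ (p : Ideal R) [p.IsPrime], p ≠ IsLocalRing.maximalIdeal R →
      ∀ x : X, ∃ s ∉ p, s • x = 0) : IsFiniteLength R X := by
  apply Groth.Agent.Lib.Helper90.DimParam.isFiniteLength_of_supportDim_le_zero
  have hall : ∀ q ∈ Module.support R X, q.asIdeal = IsLocalRing.maximalIdeal R := by
    intro q hq
    by_contra hne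
    exact (Module.notMem_support_iff'.2 (h q.asIdeal hne)) hq
  have hsub : Subsingleton (Module.support R X) := by
    refine ⟨fun a b => ?_⟩
    apply Subtype.ext
    apply PrimeSpectrum.ext
    rw [hall a.1 a.2, hall b.1 b.2]
  exact Order.krullDim_nonpos_of_subsingleton

variable (p : Ideal R) [p.IsPrime]

/-- a vector mapping to zero in the localization is killed by an element outside `p` -/
theorem exists_smul_eq_zero_of_map {n : ℕ} (x : Fin n → R)
    (hx : ∀ k, algebraMap R (Localization.AtPrime p) (x k) = 0) : ∃ t ∉ p, t • x = 0 := by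
  have h1 : ∀ k, ∃ m : p.primeCompl, (m : R) * x k = 0 := fun k =>
    (IsLocalization.map_eq_zero_iff p.primeCompl (Localization.AtPrime p) (x k)).1 (hx k)
  choose m hm using h1
  refine ⟨∏ k, (m k : R), ?_, ?_⟩
  · have : (∏ k, m k : p.primeCompl).1 ∉ p := (∏ k, m k : p.primeCompl).2
    rwa [Submonoid.coe_finsetProd] at this
  · ext k
    rw [Pi.smul_apply, smul_eq_mul, Pi.zero_apply,
      ← Finset.mul_prod_erase Finset.univ (fun k => (m k : R)) (Finset.mem_univ k),
      mul_comm ((m k : R)), mul_assoc, hm k, mul_zero]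

variable {a b c : ℕ} (A : Matrix (Fin a) (Fin b) R) (A' : Matrix (Fin b) (Fin c) R)

theorem exists_smul_eq_zero_of_ker_eq_bot
    (hker : LinearMap.ker
      (A.map (algebraMap R (Localization.AtPrime p))).mulVecLin = ⊥)
    (x : Fin b → R) (hx : A.mulVecLin x = 0) : ∃ t ∉ p, t • x = 0 := by
  apply exists_smul_eq_zero_of_map
  have h1 : (algebraMap R (Localization.AtPrime p)) ∘ x ∈ LinearMap.ker
      (A.map (algebraMap R (Localization.AtPrime p))).mulVecLin := by
    rw [LinearMap.mem_ker]
    ext i
    rw [Matrix.mulVecLin_apply, ← RingHom.map_mulVec, Pi.zero_apply]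
    have : (A.mulVec x) i = 0 := congrFun hx i
    rw [this, map_zero]
  rw [hker, Submodule.mem_bot] at h1
  intro k
  exact congrFun h1 k

theorem exists_smul_mem_range
    (hker : LinearMap.ker (A.map (algebraMap R (Localization.AtPrime p))).mulVecLin =
      LinearMap.range (A'.map (algebraMap R (Localization.AtPrime p))).mulVecLin)
    (x : Fin b → R) (hx : A.mulVecLin x = 0) :
    ∃ t ∉ p, ∃ y : Fin c → R, A'.mulVecLin y = t • x := by
  have h1 : (algebraMap R (Localization.AtPrime p)) ∘ x ∈ LinearMap.ker
      (A.map (algebraMap R (Localization.AtPrime p))).mulVecLin := by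
    rw [LinearMap.mem_ker]
    ext i
    rw [Matrix.mulVecLin_apply, ← RingHom.map_mulVec, Pi.zero_apply]
    have : (A.mulVec x) i = 0 := congrFun hx i
    rw [this, map_zero]
  rw [hker] at h1
  obtain ⟨y', hy'⟩ := h1
  obtain ⟨s, hs⟩ := IsLocalization.exist_integer_multiples_of_finite p.primeCompl y'
  choose y hy using hs
  -- `s • x - A' y` maps to zero
  have h2 : ∀ k, algebraMap R (Localization.AtPrime p) (((s : R) • x - A'.mulVec y) k) = 0 := by
    intro k
    rw [Pi.sub_apply, map_sub, RingHom.map_mulVec, Pi.smul_apply, smul_eq_mul, map_mul]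
    have h3 : (algebraMap R (Localization.AtPrime p)) ∘ y = (s : R) • y' := by
      ext i
      rw [Function.comp_apply, hy i, Pi.smul_apply]
    rw [h3, Matrix.mulVec_smul, Pi.smul_apply]
    have h4 : (A'.map (algebraMap R (Localization.AtPrime p))).mulVec y' k =
        algebraMap R (Localization.AtPrime p) (x k) := congrFun hy' k
    rw [h4, Algebra.smul_def, sub_self]
  obtain ⟨t, ht, h5⟩ := exists_smul_eq_zero_of_map p _ h2
  refine ⟨t * s, ?_, t • y, ?_⟩
  · intro hmem
    rcases Ideal.IsPrime.mem_or_mem inferInstance hmem with h | h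
    · exact ht h
    · exact s.2 h
  · rw [smul_sub, sub_eq_zero] at h5
    rw [map_smul, Matrix.mulVecLin_apply, ← h5, smul_smul]

end Matrix

end Groth.Agent.Lib.Helper92.Acyc
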