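import Groth.Agent.Lib.Helper92.LocCohDTExact

/-!
# helper92: `cd(R, I) ≤ 1` ⟹ the inclusion `I^k → R` lifts through generators of `I`

If `H^2_I(N) = 0` for all `N` and `I = (f_1,…,f_n)`, then for some `k` there are linear maps
`ψ_i : I^k → R` with `∑ f_i ψ_i(a) = a` for all `a ∈ I^k`.  (This is the algebraic heart of
"`Spec R ∖ V(I)` is affine".)
-/

open CategoryTheory CategoryTheory.Limits Opposite

namespace Groth.Agent.Lib.Helper92.AffineCd

open Groth.Agent.Lib.Helper92.IdealTransform Groth.Agent.Lib.Helper92.LC LocCoh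

universe u
variable {R : Type u} [CommRing R] [IsNoetherianRing R] (I : Ideal R)

theorem exists_lift_of_H2 {n : ℕ} (f : Fin n → R) (hf : Ideal.span (Set.range f) = I)
    (h2 : ∀ N : ModuleCat.{u} R, Subsingleton ((localCohomology I 2).obj N)) :
    ∃ (k : ℕ) (ψ : Fin n → (↥(I ^ k) →ₗ[R] R)), ∀ a : ↥(I ^ k), ∑ i, f i * ψ i a = (a : R) := by
  classical
  let π : (Fin n → R) →ₗ[R] R := Fintype.linearCombination R f
  have hrange : LinearMap.range π = I := by
    rw [← hf]
    exact Fintype.range_linearCombination R f
  let K : Submodule R (Fin n → R) := LinearMap.ker π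
  have hS := sesOfInjective_shortExact (R := R) K.subtype (Submodule.injective_subtype _)
  have hsurj := DT_map_g_surjective I hS (h2 _)
  have hle : LinearMap.range K.subtype ≤ LinearMap.ker π := by
    rw [Submodule.range_subtype]
  let πbar : ((Fin n → R) ⧸ LinearMap.range K.subtype) →ₗ[R] R :=
    (LinearMap.range K.subtype).liftQ π hle
  have hbij : Function.Bijective ((idealTransform I).map (ModuleCat.ofHom πbar)).hom := by
    apply map_bijective_of_torsion
    · intro x hx
      have : x = 0 := by
        obtain ⟨y, rfl⟩ := Submodule.Quotient.mk_surjective _ x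
        rw [LinearMap.mem_ker] at hx
        have hy : π y = 0 := by simpa [πbar] using hx
        rw [Submodule.Quotient.mk_eq_zero, Submodule.range_subtype]
        exact hy
      rw [this]
      exact Submodule.zero_mem _
    · intro m
      obtain ⟨r, rfl⟩ := Submodule.Quotient.mk_surjective _ m
      refine ⟨1, fun a ha => ?_⟩
      rw [pow_one] at ha
      rw [← Submodule.Quotient.mk_smul, Submodule.Quotient.mk_eq_zero]
      have : a • r ∈ LinearMap.range π := by
        rw [hrange]
        exact I.mul_mem_right r ha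
      obtain ⟨y, hy⟩ := this
      exact ⟨Submodule.Quotient.mk y, by simpa [πbar] using hy⟩
  have hcomp : ModuleCat.ofHom π = (sesOfInjective (R := R) K.subtype).g ≫ ModuleCat.ofHom πbar := by
    ext x
    simp [πbar, sesOfInjective]
  obtain ⟨z, hz⟩ := hbij.2 (toDT I R (1 : R))
  obtain ⟨y, hy⟩ := hsurj z
  have hπy : ((idealTransform I).map (ModuleCat.ofHom π)).hom y = toDT I R (1 : R) := by
    rw [hcomp, Functor.map_comp]
    change ((idealTransform I).map (ModuleCat.ofHom πbar)).hom
      (((idealTransform I).map (sesOfInjective (R := R) K.subtype).g).hom y) = _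
    rw [hy, hz]
  obtain ⟨t, ψ, rfl⟩ := exists_repL I (Fin n → R) y
  rw [map_mkL, toDT_eq_zero, mkL_eq_mkL_iff] at hπy
  obtain ⟨k, hs, ht, hres⟩ := hπy
  refine ⟨k, fun i => (LinearMap.proj i) ∘ₗ res I (Fin n → R) hs ψ, fun a => ?_⟩
  have h1 := LinearMap.congr_fun hres a
  simp only [res_apply, LinearMap.coe_comp, Function.comp_apply, smulMap_apply, smul_eq_mul,
    mul_one] at h1
  rw [← h1]
  simp only [LinearMap.coe_comp, Function.comp_apply, res_apply, LinearMap.proj_apply]
  change _ = Fintype.linearCombination R f _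
  rw [Fintype.linearCombination_apply]
  refine Finset.sum_congr rfl fun i _ => ?_
  rw [smul_eq_mul, mul_comm]

end Groth.Agent.Lib.Helper92.AffineCd
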