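import Groth.Agent.Lib.Helper92.AffineCd
import Groth.Agent.Lib.Helper39.PushCompl.Glue
import Mathlib.AlgebraicGeometry.Morphisms.Affine

/-!
# helper92: `cd(A, I) ≤ 1` ⟹ `Spec A ∖ V(I)` is affine (Noetherian `A`)
-/

set_option autoImplicit false
universe u

namespace Groth.Agent.Lib.Helper92.AffineCd

open AlgebraicGeometry StructureSheaf TopologicalSpace Opposite CategoryTheory
open Groth.Agent.Lib.Helper48 Groth.Agent.Lib.Helper85.ZClosed Groth.Agent.Lib.Helper39.PushCompl

variable (A : Type u) [CommRing A] (I : Ideal A)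

theorem sum_smul_glue_eq_one {n k : ℕ} (f : Fin n → A) (ψ : Fin n → (↥(I ^ k) →ₗ[A] A))
    (hψ : ∀ a : ↥(I ^ k), ∑ i, f i * ψ i a = (a : A)) :
    ∑ i, f i • (glue (ψ i) : Sec A A (openC A I)) = 1 := by
  apply section_ext
  intro x
  obtain ⟨a, ha, hax⟩ := exists_notMem I k x.1 ((mem_openCompl_iff A I x.1).1 x.2)
  have h1 : ∀ (s : Finset (Fin n)), (∑ i ∈ s, f i • (glue (ψ i) : Sec A A (openC A I))).1 x =
      LocalizedModule.mk (∑ i ∈ s, f i * ψ i ⟨a, ha⟩) ⟨a, hax⟩ := by
    intro s
    induction s using Finset.induction_on with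
    | empty =>
      simp only [Finset.sum_empty]
      rw [LocalizedModule.zero_mk]
      rfl
    | insert i s hi ih =>
      rw [Finset.sum_insert hi, Finset.sum_insert hi]
      change f i • glueFun (ψ i) x +
        (∑ i ∈ s, f i • (glue (ψ i) : Sec A A (openC A I))).1 x = _
      rw [ih, glueFun_eq (ψ i) x a ha hax, LocalizedModule.smul'_mk, LocalizedModule.mk_add_mk]
      rw [LocalizedModule.mk_eq]
      refine ⟨1, ?_⟩
      simp only [one_smul, Submonoid.smul_def, smul_eq_mul, Submonoid.coe_mul]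
      ring
  rw [h1 Finset.univ, hψ ⟨a, ha⟩]
  change _ = (1 : Localizations A x.1)
  have h11 : (1 : Localizations A x.1) = LocalizedModule.mk 1 1 := by
    rw [OreLocalization.one_def]
  rw [h11, LocalizedModule.mk_eq]
  refine ⟨1, ?_⟩
  simp [Submonoid.smul_def]

/-- If `H^2_I` vanishes identically on a Noetherian ring, then `Spec A ∖ V(I)` is affine. -/
theorem isAffine_puncturedOpen [IsNoetherianRing A]
    (h2 : ∀ N : ModuleCat.{u} A, Subsingleton ((localCohomology I 2).obj N)) :
    IsAffine (↑(LocCoh.puncturedOpen A I) : Scheme.{u}) := by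
  classical
  obtain ⟨n, f, hf⟩ : ∃ (n : ℕ) (f : Fin n → A), Ideal.span (Set.range f) = I :=
    (Submodule.fg_iff_exists_fin_generating_family).1 (IsNoetherian.noetherian I)
  obtain ⟨k, ψ, hψ⟩ := exists_lift_of_H2 I f hf h2
  have hsum := sum_smul_glue_eq_one A I f ψ hψ
  let U : (Spec (CommRingCat.of A)).Opens := LocCoh.puncturedOpen A I
  let r : Fin n → Γ(Spec (CommRingCat.of A), U) := fun i =>
    (Spec (CommRingCat.of A)).presheaf.map (homOfLE (le_top : U ≤ ⊤)).op
      ((Scheme.ΓSpecIso (CommRingCat.of A)).inv (f i))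
  change IsAffineOpen U
  refine isAffineOpen_of_isAffineOpen_basicOpen U (Set.range r) ?_ ?_
  · rw [Ideal.eq_top_iff_one]
    let g : Fin n → Γ(Spec (CommRingCat.of A), U) := fun i => (glue (ψ i) : Sec A A (openC A I))
    have h1 : (1 : Γ(Spec (CommRingCat.of A), U)) = ∑ i, r i * g i := by
      refine Eq.trans hsum.symm ?_
      refine Finset.sum_congr rfl fun i _ => ?_
      exact Algebra.smul_def (f i) (glue (ψ i) : Sec A A (openC A I))
    rw [h1]
    exact Ideal.sum_mem _ fun i _ =>
      Ideal.mul_mem_right _ _ (Ideal.subset_span (Set.mem_range_self i))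
  · rintro _ ⟨i, rfl⟩
    have h1 : (Spec (CommRingCat.of A)).basicOpen (r i) =
        U ⊓ PrimeSpectrum.basicOpen (f i) := by
      rw [Scheme.basicOpen_res, basicOpen_eq_of_affine]
    have h2 : U ⊓ PrimeSpectrum.basicOpen (f i) = PrimeSpectrum.basicOpen (f i) := by
      apply inf_eq_right.2
      intro x hx
      change x ∈ (PrimeSpectrum.zeroLocus (I : Set A))ᶜ
      intro hmem
      have hle := (PrimeSpectrum.mem_zeroLocus _ _).1 hmem
      exact hx (hle (hf ▸ Ideal.subset_span (Set.mem_range_self i)))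
    rw [h1, h2]
    exact IsAffineOpen.Spec_basicOpen (R := CommRingCat.of A) (f i)

end Groth.Agent.Lib.Helper92.AffineCd
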