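import Groth.Agent.Lib.Helper92.HLVTDomain
import Groth.Agent.Lib.Helper92.LocCohMV
import Groth.Agent.Lib.Helper92.LocCohNonVan
import Groth.Agent.Lib.Helper92.LocCohCompare

/-!
# Consequences of HLVT: the Mayer–Vietoris core of the connectedness theorems (helper92)
-/

set_option autoImplicit false
universe u

open CategoryTheory IsLocalRing

namespace Groth.Agent.Lib.Helper92.HLVT

open Groth.Agent.Lib.Helper92

section General

variable {R : Type u} [CommRing R]

theorem radical_inf_sup_eq (a b X : Ideal R) :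
    ((a ⊔ X) ⊓ (b ⊔ X)).radical = ((a ⊓ b) ⊔ X).radical := by
  apply le_antisymm
  · rw [Ideal.radical_le_radical_iff, Ideal.radical_eq_sInf ((a ⊓ b) ⊔ X)]
    refine le_sInf fun Q ⟨hle, hQ⟩ => ?_
    have h1 : a ⊓ b ≤ Q := le_sup_left.trans hle
    have h2 : X ≤ Q := le_sup_right.trans hle
    rcases (Ideal.IsPrime.inf_le hQ).1 h1 with h | h
    · exact inf_le_left.trans (sup_le h h2)
    · exact inf_le_right.trans (sup_le h h2)
  · apply Ideal.radical_mono
    exact le_inf (sup_le_sup_right inf_le_left X) (sup_le_sup_right inf_le_right X)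

variable [IsNoetherianRing R]

theorem cdLE_of_radical_eq {I J : Ideal R} (h : I.radical = J.radical) (r : ℕ)
    (hI : LocCoh.CdLE R I r) : LocCoh.CdLE R J r := by
  intro M _ _ i hi
  have := hI M i hi
  exact (((localCohomology.isoOfSameRadical h i).app
      (ModuleCat.of R M)).toLinearEquiv).symm.toEquiv.subsingleton

theorem cdLE_sup_span_finset (I : Ideal R) (r : ℕ) (hI : LocCoh.CdLE R I r) (s : Finset R) :
    LocCoh.CdLE R (I ⊔ Ideal.span (s : Set R)) (r + s.card) := by
  classical
  induction s using Finset.induction_on with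
  | empty =>
    rw [Finset.coe_empty, Ideal.span_empty, Finset.card_empty, sup_bot_eq, add_zero]
    exact hI
  | insert a s ha ih =>
    rw [Finset.card_insert_of_notMem ha, Finset.coe_insert, Ideal.span_insert,
      sup_comm (Ideal.span {a}), ← sup_assoc, ← add_assoc]
    exact LC.cdLE_sup_span_singleton _ _ ih a

variable [IsLocalRing R]

/-- D1: cutting by `|t|` elements of the maximal ideal drops the dimension by at most `|t|` -/
theorem dim_le_dim_sup_span_add_card (J : Ideal R) (hJ : J ≠ ⊤) (t : Finset R)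
    (ht : (t : Set R) ⊆ maximalIdeal R) :
    ringKrullDim (R ⧸ J) ≤ ringKrullDim (R ⧸ (J ⊔ Ideal.span (t : Set R))) + t.card := by
  classical
  haveI : Nontrivial (R ⧸ J) := Ideal.Quotient.nontrivial_iff.2 hJ
  haveI : IsLocalRing (R ⧸ J) :=
    IsLocalRing.of_surjective' (Ideal.Quotient.mk J) Ideal.Quotient.mk_surjective
  let s : Finset (R ⧸ J) := t.image (Ideal.Quotient.mk J)
  have hs : (s : Set (R ⧸ J)) ⊆ Ring.jacobson (R ⧸ J) := by
    rw [IsLocalRing.ringJacobson_eq_maximalIdeal]
    intro y hy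
    rw [Finset.coe_image] at hy
    obtain ⟨x, hx, rfl⟩ := hy
    rw [← IsLocalRing.map_maximalIdeal_of_surjective (Ideal.Quotient.mk J)
      Ideal.Quotient.mk_surjective]
    exact Ideal.mem_map_of_mem _ (ht hx)
  have h1 := ringKrullDim_le_ringKrullDim_quotient_add_card s hs
  have h2 : Ideal.span (s : Set (R ⧸ J)) = (Ideal.span (t : Set R)).map (Ideal.Quotient.mk J) := by
    rw [Ideal.map_span, Finset.coe_image]
  have h3 : ringKrullDim ((R ⧸ J) ⧸ Ideal.span (s : Set (R ⧸ J))) =
      ringKrullDim (R ⧸ (J ⊔ Ideal.span (t : Set R))) := by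
    rw [h2]
    exact ringKrullDim_eq_of_ringEquiv (DoubleQuot.quotQuotEquivQuotSup J (Ideal.span (t : Set R)))
  rw [h3] at h1
  refine h1.trans (add_le_add_right ?_ _)
  exact_mod_cast Finset.card_image_le

/-- D2: a system of parameters modulo `J` -/
theorem exists_finset_primary (J : Ideal R) (hJ : J ≠ ⊤) :
    ∃ t : Finset R, (t : Set R) ⊆ maximalIdeal R ∧
      (t.card : WithBot ℕ∞) ≤ ringKrullDim (R ⧸ J) ∧
      (J ⊔ Ideal.span (t : Set R)).radical = maximalIdeal R := by
  classical
  haveI : Nontrivial (R ⧸ J) := Ideal.Quotient.nontrivial_iff.2 hJ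
  haveI : IsLocalRing (R ⧸ J) :=
    IsLocalRing.of_surjective' (Ideal.Quotient.mk J) Ideal.Quotient.mk_surjective
  obtain ⟨s, hmin, hcard⟩ :=
    Ideal.exists_finset_card_eq_height_of_isNoetherianRing (maximalIdeal (R ⧸ J))
  have hsurj : Function.Surjective (Ideal.Quotient.mk J) := Ideal.Quotient.mk_surjective
  let σ := Function.surjInv hsurj
  have hσ : ∀ y, Ideal.Quotient.mk J (σ y) = y := Function.surjInv_eq hsurj
  let t : Finset R := s.image σ
  have hmem : ∀ x : R, Ideal.Quotient.mk J x ∈ maximalIdeal (R ⧸ J) → x ∈ maximalIdeal R := by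
    intro x hx
    by_contra hcon
    have hu : IsUnit x := by
      by_contra h
      exact hcon ((IsLocalRing.mem_maximalIdeal x).2 h)
    exact ((IsLocalRing.mem_maximalIdeal _).1 hx) (hu.map (Ideal.Quotient.mk J))
  have hsle : Ideal.span (s : Set (R ⧸ J)) ≤ maximalIdeal (R ⧸ J) := hmin.1.2
  refine ⟨t, ?_, ?_, ?_⟩
  · intro x hx
    rw [Finset.coe_image] at hx
    obtain ⟨y, hy, rfl⟩ := hx
    apply hmem
    rw [hσ]
    exact hsle (Ideal.subset_span hy)
  · have h1 : (t.card : WithBot ℕ∞) ≤ (s.card : WithBot ℕ∞) := by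
      exact_mod_cast Finset.card_image_le
    refine h1.trans (le_of_eq ?_)
    rw [← IsLocalRing.maximalIdeal_height_eq_ringKrullDim, ← hcard]
    rfl
  · apply le_antisymm
    · have hle : J ⊔ Ideal.span (t : Set R) ≤ maximalIdeal R := by
        refine sup_le (le_maximalIdeal hJ) (Ideal.span_le.2 ?_)
        intro x hx
        rw [Finset.coe_image] at hx
        obtain ⟨y, hy, rfl⟩ := hx
        apply hmem
        rw [hσ]
        exact hsle (Ideal.subset_span hy)
      have := Ideal.radical_mono hle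
      rwa [(maximalIdeal.isMaximal R).isPrime.radical] at this
    · rw [Ideal.radical_eq_sInf]
      refine le_sInf fun Q ⟨hle, hQ⟩ => ?_
      have hJQ : J ≤ Q := le_sup_left.trans hle
      have htQ : Ideal.span (t : Set R) ≤ Q := le_sup_right.trans hle
      have hQ' : (Q.map (Ideal.Quotient.mk J)).IsPrime :=
        Ideal.isPrime_map_quotientMk_of_isPrime hJQ
      have hsQ : Ideal.span (s : Set (R ⧸ J)) ≤ Q.map (Ideal.Quotient.mk J) := by
        rw [Ideal.span_le]
        intro y hy
        have : σ y ∈ Q := htQ (Ideal.subset_span (by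
          rw [Finset.coe_image]; exact ⟨y, hy, rfl⟩))
        have h2 := Ideal.mem_map_of_mem (Ideal.Quotient.mk J) this
        rwa [hσ] at h2
      have h3 : maximalIdeal (R ⧸ J) ≤ Q.map (Ideal.Quotient.mk J) :=
        hmin.2 ⟨hQ', hsQ⟩ (le_maximalIdeal hQ'.ne_top)
      intro x hx
      have h4 : Ideal.Quotient.mk J x ∈ maximalIdeal (R ⧸ J) := by
        rw [← IsLocalRing.map_maximalIdeal_of_surjective (Ideal.Quotient.mk J) hsurj]
        exact Ideal.mem_map_of_mem _ hx
      exact (Ideal.mem_quotient_iff_mem hJQ).1 (h3 h4)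

end General

/-- **Mayer–Vietoris core of the connectedness theorems** -/
theorem nontrivial_H_inf (R : Type u) [CommRing R] [IsDomain R] [IsLocalRing R]
    [IsNoetherianRing R] [IsAdicComplete (maximalIdeal R) R] (n : ℕ)
    (hn : ringKrullDim R = ((n + 1 : ℕ) : WithBot ℕ∞)) (a b : Ideal R)
    (ha : 1 ≤ ringKrullDim (R ⧸ a)) (hb : 1 ≤ ringKrullDim (R ⧸ b))
    (hab : (a ⊔ b).radical = maximalIdeal R) :
    Nontrivial (LocCoh.H (a ⊓ b) n R) := by
  obtain ⟨-, d, -, hd⟩ := LC.mayer_vietoris a b n (ModuleCat.of R R)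
  have h1 : Subsingleton (LocCoh.H a (n + 1) R) := hlvt_complete_domain_ring R (n + 1) hn a ha
  have h2 : Subsingleton (LocCoh.H b (n + 1) R) := hlvt_complete_domain_ring R (n + 1) hn b hb
  have h3 : Nontrivial (LocCoh.H (a ⊔ b) (n + 1) R) := by
    have hsd : Module.supportDim R R = ((n + 1 : ℕ) : WithBot ℕ∞) := by
      rw [Module.supportDim_self_eq_ringKrullDim, hn]
    have := LC.nontrivial_top (R := R) R (n + 1) hsd
    have hrad : (a ⊔ b).radical = (maximalIdeal R).radical := by
      rw [hab, (maximalIdeal.isMaximal R).isPrime.radical]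
    exact (((localCohomology.isoOfSameRadical hrad (n + 1)).app
      (ModuleCat.of R R)).toLinearEquiv).symm.injective.nontrivial
  by_contra hne
  have hss : Subsingleton (LocCoh.H (a ⊓ b) n R) := not_nontrivial_iff_subsingleton.1 hne
  obtain ⟨y, hy⟩ := exists_ne (0 : LocCoh.H (a ⊔ b) (n + 1) R)
  have h0 : LC.mvα a b (n + 1) (ModuleCat.of R R) y = 0 := Subsingleton.elim _ _
  obtain ⟨z, rfl⟩ := (hd y).1 h0
  apply hy
  rw [Subsingleton.elim z 0, map_zero]

end Groth.Agent.Lib.Helper92.HLVT
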