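import Mathlib
import Groth.Prelude.Def_GrLC
import Groth.Agent.Lib.Helper30.GradedInj
import Groth.Agent.Lib.Helper30.GradedExt
import Groth.Agent.Lib.Helper30.GradedSub
import Groth.Agent.Lib.Helper30.GradedGam

/-!
# `Ext^n_R(R/q, X)` of a graded module is (isomorphic to) a graded module (helper92, for S18636)

Dimension shifting along embeddings into graded-injective modules (`Helper30.starEmb`).
-/

set_option autoImplicit false
universe u
open CategoryTheory Abelian DirectSum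

namespace Groth.Agent.Lib.Helper92.BassGr

open Groth.Agent.Lib.Helper30

section Tors

variable {R : Type u} [CommRing R] (q : Ideal R)

/-- The submodule of elements killed by the ideal `q`. -/
def tors (C : Type u) [AddCommGroup C] [Module R C] : Submodule R C where
  carrier := {x | ∀ r ∈ q, r • x = 0}
  add_mem' ha hb r hr := by rw [smul_add, ha r hr, hb r hr, add_zero]
  zero_mem' r _ := smul_zero r
  smul_mem' c x hx r hr := by rw [smul_comm, hx r hr, smul_zero]

variable (C : Type u) [AddCommGroup C] [Module R C]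

theorem mem_tors (x : C) : x ∈ tors q C ↔ ∀ r ∈ q, r • x = 0 := Iff.rfl

/-- The map `R/q → C` attached to an element killed by `q`. -/
def homOf (x : tors q C) : (R ⧸ q) →ₗ[R] C :=
  Submodule.liftQ q (LinearMap.toSpanSingleton R C x.1) (fun r hr => by
    rw [LinearMap.mem_ker, LinearMap.toSpanSingleton_apply]
    exact x.2 r hr)

theorem homOf_mk (x : tors q C) (r : R) : homOf q C x (Ideal.Quotient.mk q r) = r • x.1 := rfl

theorem homOf_one (x : tors q C) : homOf q C x 1 = x.1 := by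
  have := homOf_mk q C x 1
  rwa [map_one, one_smul] at this

theorem eval_one_mem (φ : (R ⧸ q) →ₗ[R] C) : φ 1 ∈ tors q C := by
  intro r hr
  rw [← map_smul]
  have : r • (1 : R ⧸ q) = 0 := by
    rw [Algebra.smul_def, mul_one]
    exact Ideal.Quotient.eq_zero_iff_mem.2 hr
  rw [this, map_zero]

theorem homOf_eval_one (φ : (R ⧸ q) →ₗ[R] C) : homOf q C ⟨φ 1, eval_one_mem q C φ⟩ = φ := by
  apply LinearMap.ext
  intro y
  obtain ⟨r, rfl⟩ := Ideal.Quotient.mk_surjective y
  rw [homOf_mk]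
  change r • φ 1 = _
  rw [← map_smul, Algebra.smul_def, mul_one]
  rfl

/-- `tors q C ≃ Hom(R/q, C)`. -/
def torsEquiv : tors q C ≃ₗ[R] ((R ⧸ q) →ₗ[R] C) where
  toFun := homOf q C
  map_add' x y := by
    apply LinearMap.ext
    intro z
    obtain ⟨r, rfl⟩ := Ideal.Quotient.mk_surjective z
    rw [LinearMap.add_apply, homOf_mk, homOf_mk, homOf_mk]
    exact smul_add r x.1 y.1
  map_smul' c x := by
    apply LinearMap.ext
    intro z
    obtain ⟨r, rfl⟩ := Ideal.Quotient.mk_surjective z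
    rw [RingHom.id_apply, LinearMap.smul_apply, homOf_mk, homOf_mk]
    exact smul_comm r c x.1
  invFun φ := ⟨φ 1, eval_one_mem q C φ⟩
  left_inv x := Subtype.ext (homOf_one q C x)
  right_inv φ := homOf_eval_one q C φ

/-- `tors q C ≃ Ext^0(R/q, C)`. -/
noncomputable def torsExt : tors q C ≃ₗ[R]
    Ext.{u} (ModuleCat.of R (R ⧸ q)) (ModuleCat.of R C) 0 :=
  (torsEquiv q C).trans (((ModuleCat.homLinearEquiv (M := ModuleCat.of R (R ⧸ q))
    (N := ModuleCat.of R C) (S := R)).symm).trans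
    (Ext.linearEquiv₀ (R := R) (X := ModuleCat.of R (R ⧸ q)) (Y := ModuleCat.of R C)).symm)

theorem torsExt_apply (x : tors q C) :
    torsExt q C x = Ext.mk₀ (ModuleCat.ofHom (homOf q C x)) := by
  simp only [torsExt, LinearEquiv.trans_apply, Ext.linearEquiv₀_symm_apply]
  rfl

end Tors

section Shift

variable {R : Type u} [CommRing R]

/-- The short complex of a short exact sequence of modules. -/
noncomputable abbrev scOf {X J C : Type u} [AddCommGroup X] [Module R X] [AddCommGroup J] [Module R J]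
    [AddCommGroup C] [Module R C] (f : X →ₗ[R] J) (g : J →ₗ[R] C) (hfg : ∀ x, g (f x) = 0) :
    ShortComplex (ModuleCat.{u} R) :=
  ShortComplex.mk (ModuleCat.ofHom f) (ModuleCat.ofHom g) (by
    apply ModuleCat.hom_ext
    apply LinearMap.ext
    intro x
    exact hfg x)

theorem scOf_shortExact {X J C : Type u} [AddCommGroup X] [Module R X] [AddCommGroup J]
    [Module R J] [AddCommGroup C] [Module R C] (f : X →ₗ[R] J) (g : J →ₗ[R] C)
    (hfg : ∀ x, g (f x) = 0) (hf : Function.Injective f) (hg : Function.Surjective g)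
    (hex : ∀ y, g y = 0 → ∃ x, f x = y) : (scOf f g hfg).ShortExact := by
  have h1 : Mono (scOf f g hfg).f := (ModuleCat.mono_iff_injective _).2 hf
  have h2 : Epi (scOf f g hfg).g := (ModuleCat.epi_iff_surjective _).2 hg
  refine ShortComplex.ShortExact.mk' ?_ h1 h2
  rw [ShortComplex.moduleCat_exact_iff]
  intro y hy
  exact hex y hy

/-- Dimension shifting in degrees `≥ 1`. -/
theorem nonempty_shift {S : ShortComplex (ModuleCat.{u} R)} (hS : S.ShortExact)
    (Q : ModuleCat.{u} R) (n : ℕ) (h1 : Subsingleton (Ext.{u} Q S.X₂ (n + 1)))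
    (h2 : Subsingleton (Ext.{u} Q S.X₂ (n + 2))) :
    Nonempty (Ext.{u} Q S.X₃ (n + 1) ≃ₗ[R] Ext.{u} Q S.X₁ (n + 2)) := by
  refine ⟨LinearEquiv.ofBijective
    (Ext.postcompOfLinear hS.extClass R Q (rfl : n + 1 + 1 = n + 2)) ⟨?_, ?_⟩⟩
  · rw [← LinearMap.ker_eq_bot, LinearMap.ker_eq_bot']
    intro x₃ hx₃
    have hx₃' : x₃.comp hS.extClass rfl = 0 := hx₃
    obtain ⟨x₂, rfl⟩ := Ext.covariant_sequence_exact₃ _ hS x₃ rfl hx₃'
    rw [Subsingleton.elim x₂ 0, Ext.zero_comp]
  · intro x₁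
    obtain ⟨x₃, hx₃⟩ := Ext.covariant_sequence_exact₁ _ hS x₁ (Subsingleton.elim _ _) rfl
    exact ⟨x₃, hx₃⟩

variable (q : Ideal R)

/-- The restriction of a linear map to the `q`-torsion. -/
def torsMap {J C : Type u} [AddCommGroup J] [Module R J] [AddCommGroup C] [Module R C]
    (g : J →ₗ[R] C) : tors q J →ₗ[R] tors q C :=
  (g ∘ₗ (tors q J).subtype).codRestrict (tors q C) (fun x r hr => by
    change r • g x.1 = 0
    rw [← map_smul, x.2 r hr, map_zero])

theorem torsMap_apply {J C : Type u} [AddCommGroup J] [Module R J] [AddCommGroup C] [Module R C]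
    (g : J →ₗ[R] C) (x : tors q J) : (torsMap q g x : C) = g x.1 := rfl

/-- `Ext^1(R/q, X)` as a cokernel. -/
theorem nonempty_ext_one {X J C : Type u} [AddCommGroup X] [Module R X] [AddCommGroup J]
    [Module R J] [AddCommGroup C] [Module R C] (f : X →ₗ[R] J) (g : J →ₗ[R] C)
    (hfg : ∀ x, g (f x) = 0) (hf : Function.Injective f) (hg : Function.Surjective g)
    (hex : ∀ y, g y = 0 → ∃ x, f x = y)
    (h1 : Subsingleton (Ext.{u} (ModuleCat.of R (R ⧸ q)) (ModuleCat.of R J) 1)) :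
    Nonempty (Ext.{u} (ModuleCat.of R (R ⧸ q)) (ModuleCat.of R X) 1 ≃ₗ[R]
      (tors q C ⧸ LinearMap.range (torsMap q g))) := by
  have hS := scOf_shortExact f g hfg hf hg hex
  let Q := ModuleCat.of R (R ⧸ q)
  let Δ : tors q C →ₗ[R] Ext.{u} Q (ModuleCat.of R X) 1 :=
    (Ext.postcompOfLinear hS.extClass R Q (rfl : 0 + 1 = 1)) ∘ₗ (torsExt q C).toLinearMap
  have hΔ : ∀ c, Δ c = (Ext.mk₀ (ModuleCat.ofHom (homOf q C c))).comp hS.extClass rfl := by
    intro c
    rw [← torsExt_apply]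
    rfl
  have hsurj : Function.Surjective Δ := by
    intro x₁
    have h1' : Subsingleton (Ext.{u} Q (scOf f g hfg).X₂ 1) := h1
    obtain ⟨x₃, hx₃⟩ := Ext.covariant_sequence_exact₁ Q hS x₁ (Subsingleton.elim _ _)
      (rfl : 0 + 1 = 1)
    let y₃ : Ext.{u} (ModuleCat.of R (R ⧸ q)) (ModuleCat.of R C) 0 := x₃
    refine ⟨(torsExt q C).symm y₃, ?_⟩
    have e1 : torsExt q C ((torsExt q C).symm y₃) = y₃ := (torsExt q C).apply_symm_apply y₃
    change (torsExt q C ((torsExt q C).symm y₃)).comp hS.extClass rfl = x₁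
    rw [e1]
    exact hx₃
  have hker : LinearMap.ker Δ = LinearMap.range (torsMap q g) := by
    ext c
    rw [LinearMap.mem_ker, hΔ]
    constructor
    · intro hc
      obtain ⟨x₂, hx₂⟩ := Ext.covariant_sequence_exact₃ Q hS _ rfl hc
      obtain ⟨φ, rfl⟩ := (Ext.mk₀_bijective _ _).2 x₂
      rw [Ext.mk₀_comp_mk₀] at hx₂
      have hφ := (Ext.mk₀_bijective _ _).1 hx₂
      refine ⟨⟨φ.hom 1, eval_one_mem q J φ.hom⟩, ?_⟩
      apply Subtype.ext
      rw [torsMap_apply]
      have h2 := congrArg (fun ψ => ψ.hom (1 : R ⧸ q)) hφ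
      change g (φ.hom 1) = homOf q C c 1 at h2
      rw [homOf_one] at h2
      exact h2
    · rintro ⟨j, rfl⟩
      have h3 : ModuleCat.ofHom (homOf q C (torsMap q g j)) =
          ModuleCat.ofHom (homOf q J j) ≫ ModuleCat.ofHom g := by
        apply ModuleCat.hom_ext
        apply LinearMap.ext
        intro z
        obtain ⟨r, rfl⟩ := Ideal.Quotient.mk_surjective z
        change homOf q C (torsMap q g j) (Ideal.Quotient.mk q r) =
          g (homOf q J j (Ideal.Quotient.mk q r))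
        rw [homOf_mk, homOf_mk, torsMap_apply, map_smul]
      have h4 : (Ext.mk₀ (ModuleCat.ofHom g)).comp hS.extClass (zero_add 1) = 0 :=
        hS.comp_extClass
      rw [h3, ← Ext.mk₀_comp_mk₀, Ext.comp_assoc_of_second_deg_zero, h4, Ext.comp_zero]
  exact ⟨((Submodule.quotEquivOfEq _ _ hker).symm.trans
    (LinearMap.quotKerEquivOfSurjective Δ hsurj)).symm⟩

end Shift

section Graded

variable {R : Type u} [CommRing R] (𝒜 : ℤ → AddSubgroup R) [GradedRing 𝒜]
  (q : HomogeneousIdeal 𝒜)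

theorem tors_isHomogeneous (X : GrLC.GMod.{u} 𝒜) :
    (tors q.toIdeal X.carrier).IsHomogeneous X.gr := by
  classical
  intro g x hx r hr
  rw [← sum_support_decompose 𝒜 r, Finset.sum_smul]
  apply Finset.sum_eq_zero
  intro h _
  have hrh : (decompose 𝒜 r h : R) ∈ q.toIdeal := q.isHomogeneous h hr
  have h0 : (decompose 𝒜 r h : R) • x = 0 := hx _ hrh
  have := decompose_smul_of_mem 𝒜 X.gr (decompose 𝒜 r h).2 x g
  rw [h0, decompose_zero] at this
  exact this.symm

/-- the graded module of `q`-torsion elements -/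
noncomputable def gTors (X : GrLC.GMod.{u} 𝒜) : GrLC.GMod.{u} 𝒜 :=
  gmodSub 𝒜 X.gr (tors q.toIdeal X.carrier) (tors_isHomogeneous 𝒜 q X)

theorem torsMap_isGrHom (J C : GrLC.GMod.{u} 𝒜) (g : J.carrier →ₗ[R] C.carrier)
    (hg : GrLC.IsGrHom J.gr C.gr g) :
    GrLC.IsGrHom (gTors 𝒜 q J).gr (gTors 𝒜 q C).gr (torsMap q.toIdeal g) := by
  intro i x hx
  have hx' : (x : J.carrier) ∈ J.gr i := (mem_subGr J.gr _ i x).1 hx
  exact (mem_subGr C.gr _ i _).2 (hg i _ hx')

variable [IsNoetherianRing R]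

theorem ext_isGr (n : ℕ) : ∀ X : GrLC.GMod.{u} 𝒜,
    ∃ G : GrLC.GMod.{u} 𝒜, Nonempty
      (Ext.{u} (ModuleCat.of R (R ⧸ q.toIdeal)) (ModuleCat.of R X.carrier) n ≃ₗ[R] G.carrier) := by
  have hvan : ∀ (J : GrLC.GMod.{u} 𝒜), GrLC.IsStarInj 𝒜 J.gr → ∀ i : ℕ,
      Subsingleton (Ext.{u} (ModuleCat.of R (R ⧸ q.toIdeal)) (ModuleCat.of R J.carrier)
        (i + 1)) := by
    intro J hJ i
    let Qg := gmodQuot 𝒜 𝒜 q.toIdeal q.isHomogeneous
    have : Module.Finite R Qg.carrier := inferInstanceAs (Module.Finite R (R ⧸ q.toIdeal))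
    exact ext_subsingleton_of_isStarInj 𝒜 J.gr hJ i Qg inferInstance
  induction n with
  | zero =>
    intro X
    exact ⟨gTors 𝒜 q X, ⟨(torsExt q.toIdeal X.carrier).symm⟩⟩
  | succ n ih =>
    intro X
    let E := starEmb 𝒜 X
    let B : Submodule R E.Y.carrier := LinearMap.range E.f
    have hB : B.IsHomogeneous E.Y.gr := range_isHomogeneous X.gr E.Y.gr E.f E.grHom
    let C : GrLC.GMod.{u} 𝒜 := gmodQuot 𝒜 E.Y.gr B hB
    let g : E.Y.carrier →ₗ[R] C.carrier := B.mkQ
    have hg : GrLC.IsGrHom E.Y.gr C.gr g := fun _ m hm => ⟨m, hm, rfl⟩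
    have hfg : ∀ x, g (E.f x) = 0 := fun x =>
      (Submodule.Quotient.mk_eq_zero B).2 ⟨x, rfl⟩
    have hgs : Function.Surjective g := Submodule.mkQ_surjective B
    have hex : ∀ y, g y = 0 → ∃ x, E.f x = y := fun y hy =>
      (Submodule.Quotient.mk_eq_zero B).1 hy
    cases n with
    | zero =>
      obtain ⟨e⟩ := nonempty_ext_one q.toIdeal E.f g hfg E.inj hgs hex (hvan E.Y E.starInj 0)
      have hT := torsMap_isGrHom 𝒜 q E.Y C g hg
      let tm : (gTors 𝒜 q E.Y).carrier →ₗ[R] (gTors 𝒜 q C).carrier := torsMap q.toIdeal g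
      have hR : (LinearMap.range tm).IsHomogeneous (gTors 𝒜 q C).gr :=
        range_isHomogeneous (gTors 𝒜 q E.Y).gr (gTors 𝒜 q C).gr tm hT
      exact ⟨gmodQuot 𝒜 (gTors 𝒜 q C).gr (LinearMap.range tm) hR, ⟨e⟩⟩
    | succ n =>
      obtain ⟨G, ⟨e⟩⟩ := ih C
      have hS := scOf_shortExact E.f g hfg E.inj hgs hex
      obtain ⟨e'⟩ := nonempty_shift (R := R) hS (ModuleCat.of R (R ⧸ q.toIdeal)) n
        (hvan E.Y E.starInj n) (hvan E.Y E.starInj (n + 1))
      exact ⟨G, ⟨e'.symm.trans e⟩⟩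

end Graded

end Groth.Agent.Lib.Helper92.BassGr
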