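import Groth.Agent.Lib.Helper92.BootMain
import Groth.Prelude.Def_Formal2

/-!
# helper92: monotonicity of `dim (A/p)_q` in `q`
-/

set_option autoImplicit false
set_option linter.style.haveILetI false
universe u

namespace Groth.Agent.Lib.Helper92.Boot

open IsLocalRing

theorem dimBetween_mono (A : Type u) [CommRing A] (p r q : Ideal A) [r.IsPrime] [q.IsPrime]
    (hrq : r ≤ q) : Formal2.dimBetween A p r ≤ Formal2.dimBetween A p q := by
  change ringKrullDim (Localization.AtPrime r ⧸ p.map (algebraMap A (Localization.AtPrime r))) ≤
    ringKrullDim (Localization.AtPrime q ⧸ p.map (algebraMap A (Localization.AtPrime q)))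
  rw [ringKrullDim_quotient, ringKrullDim_quotient]
  have hle : ∀ Q : PrimeSpectrum (Localization.AtPrime r),
      Q.asIdeal.comap (algebraMap A (Localization.AtPrime r)) ≤ q := fun Q =>
    (Groth.Agent.Lib.Helper67.comap_le_of_atPrime r Q).trans hrq
  have hprime : ∀ Q : PrimeSpectrum (Localization.AtPrime r),
      ((Q.asIdeal.comap (algebraMap A (Localization.AtPrime r))).map
        (algebraMap A (Localization.AtPrime q))).IsPrime := fun Q => by
    haveI : (Q.asIdeal.comap (algebraMap A (Localization.AtPrime r))).IsPrime :=
      Ideal.comap_isPrime _ _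
    exact Ideal.isPrime_map_of_isLocalizationAtPrime q (hle Q)
  have hunder : ∀ Q : PrimeSpectrum (Localization.AtPrime r),
      ((Q.asIdeal.comap (algebraMap A (Localization.AtPrime r))).map
        (algebraMap A (Localization.AtPrime q))).comap (algebraMap A (Localization.AtPrime q)) =
      Q.asIdeal.comap (algebraMap A (Localization.AtPrime r)) := fun Q => by
    haveI : (Q.asIdeal.comap (algebraMap A (Localization.AtPrime r))).IsPrime :=
      Ideal.comap_isPrime _ _
    exact Ideal.under_map_of_isLocalizationAtPrime q (hle Q)
  let F : PrimeSpectrum.zeroLocus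
        ((p.map (algebraMap A (Localization.AtPrime r)) : Ideal (Localization.AtPrime r)) :
          Set (Localization.AtPrime r)) →
      PrimeSpectrum.zeroLocus
        ((p.map (algebraMap A (Localization.AtPrime q)) : Ideal (Localization.AtPrime q)) :
          Set (Localization.AtPrime q)) := fun Q =>
    ⟨⟨(Q.1.asIdeal.comap (algebraMap A (Localization.AtPrime r))).map
        (algebraMap A (Localization.AtPrime q)), hprime Q.1⟩, by
      rw [PrimeSpectrum.mem_zeroLocus, SetLike.coe_subset_coe]
      apply Ideal.map_mono
      have h1 := Q.2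
      rw [PrimeSpectrum.mem_zeroLocus, SetLike.coe_subset_coe] at h1
      exact Ideal.map_le_iff_le_comap.1 h1⟩
  apply Order.krullDim_le_of_strictMono F
  apply strictMono_of_le_iff_le
  intro Q₁ Q₂
  constructor
  · intro h
    show (F Q₁).1.asIdeal ≤ (F Q₂).1.asIdeal
    exact Ideal.map_mono (Ideal.comap_mono h)
  · intro h
    have h1 : (F Q₁).1.asIdeal ≤ (F Q₂).1.asIdeal := h
    have h2 := Ideal.comap_mono (f := algebraMap A (Localization.AtPrime q)) h1
    change ((Q₁.1.asIdeal.comap (algebraMap A (Localization.AtPrime r))).map
        (algebraMap A (Localization.AtPrime q))).comap (algebraMap A (Localization.AtPrime q)) ≤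
      ((Q₂.1.asIdeal.comap (algebraMap A (Localization.AtPrime r))).map
        (algebraMap A (Localization.AtPrime q))).comap (algebraMap A (Localization.AtPrime q)) at h2
    rw [hunder Q₁.1, hunder Q₂.1] at h2
    have h3 := Ideal.map_mono (f := algebraMap A (Localization.AtPrime r)) h2
    have e1 : Ideal.map (algebraMap A (Localization.AtPrime r))
        (Q₁.1.asIdeal.comap (algebraMap A (Localization.AtPrime r))) = Q₁.1.asIdeal :=
      IsLocalization.map_comap r.primeCompl (Localization.AtPrime r) Q₁.1.asIdeal
    have e2 : Ideal.map (algebraMap A (Localization.AtPrime r))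
        (Q₂.1.asIdeal.comap (algebraMap A (Localization.AtPrime r))) = Q₂.1.asIdeal :=
      IsLocalization.map_comap r.primeCompl (Localization.AtPrime r) Q₂.1.asIdeal
    rw [e1, e2] at h3
    exact h3

end Groth.Agent.Lib.Helper92.Boot
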