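import Groth.Agent.Lib.Helper92.BootDepth
import Groth.Agent.Lib.Helper67.IterLoc2
import Groth.Agent.Lib.Helper67.SuppLoc

/-!
# helper92: the depth bootstrap lemma (completion of `A_q` along `I`)
-/

set_option autoImplicit false
set_option linter.style.haveILetI false
universe u

namespace Groth.Agent.Lib.Helper92.Boot

open IsLocalRing LocCoh TensorProduct

theorem depth_congr_ideal {A : Type u} [CommRing A] (M : Type u) [AddCommGroup M] [Module A M]
    (p₁ p₂ : Ideal A) [p₁.IsPrime] [p₂.IsPrime] (h : p₁ = p₂) :
    depth (Localization.AtPrime p₁) (LocalizedModule p₁.primeCompl M) =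
      depth (Localization.AtPrime p₂) (LocalizedModule p₂.primeCompl M) := by
  subst h
  rfl

variable (A : Type u) [CommRing A] [IsNoetherianRing A] (I : Ideal A)
  (M : Type u) [AddCommGroup M] [Module A M] [Module.Finite A M]

/-- for `q₀` minimal over `p + I` and `I ⊄ p`: a prime `p'` of the `I`-adic completion of `A_{q₀}`
outside `V(I')`, meeting `V(I')` only in maximal ideals, with `depth M'_{p'} = depth M_p` -/
theorem exists_prime_cpl (p q₀ : Ideal A) [p.IsPrime] [q₀.IsPrime]
    (hmin : q₀ ∈ (p ⊔ I).minimalPrimes) (hpI : ¬ I ≤ p) :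
    ∃ p' : PrimeSpectrum (AdicCompletion (I.map (algebraMap A (Localization.AtPrime q₀)))
        (Localization.AtPrime q₀)),
      ¬ I.map (algebraMap A (AdicCompletion (I.map (algebraMap A (Localization.AtPrime q₀)))
        (Localization.AtPrime q₀))) ≤ p'.asIdeal ∧
      (∀ q' : PrimeSpectrum (AdicCompletion (I.map (algebraMap A (Localization.AtPrime q₀)))
        (Localization.AtPrime q₀)), p' ≤ q' →
        I.map (algebraMap A (AdicCompletion (I.map (algebraMap A (Localization.AtPrime q₀)))
          (Localization.AtPrime q₀))) ≤ q'.asIdeal → q'.asIdeal.IsMaximal) ∧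
      depth (Localization.AtPrime p'.asIdeal) (LocalizedModule p'.asIdeal.primeCompl
        (AdicCompletion (I.map (algebraMap A (Localization.AtPrime q₀)))
          (LocalizedModule q₀.primeCompl M))) =
        depth (Localization.AtPrime p) (LocalizedModule p.primeCompl M) := by
  set B := Localization.AtPrime q₀ with hB
  set J := I.map (algebraMap A B) with hJ
  haveI : IsNoetherianRing B := IsLocalization.isNoetherianRing q₀.primeCompl _ inferInstance
  haveI : IsNoetherianRing (AdicCompletion J B) := Groth.Agent.S0543.result B J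
  have hpq : p ≤ q₀ := le_sup_left.trans hmin.1.2
  have hIq : I ≤ q₀ := le_sup_right.trans hmin.1.2
  set P := p.map (algebraMap A B) with hP
  haveI hPprime : P.IsPrime := Ideal.isPrime_map_of_isLocalizationAtPrime q₀ hpq
  have hPcomap : P.comap (algebraMap A B) = p := Ideal.under_map_of_isLocalizationAtPrime q₀ hpq
  have hJm : J ≤ maximalIdeal B := by
    rw [← Localization.AtPrime.map_eq_maximalIdeal]
    exact Ideal.map_mono hIq
  have hPm : P ≤ maximalIdeal B := le_maximalIdeal hPprime.ne_top
  let π := AdicCompletion.evalOneₐ J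
  have hπ : Function.Surjective π.toRingHom := AdicCompletion.evalOneₐ_surjective J
  have hker : RingHom.ker π.toRingHom = J.map (algebraMap B (AdicCompletion J B)) :=
    AdicCompletion.ker_evalOneₐ_eq_map J (IsNoetherian.noetherian J)
  have hcomp : π.toRingHom.comp (algebraMap B (AdicCompletion J B)) = Ideal.Quotient.mk J :=
    AdicCompletion.evalOneₐ_comp_algebraMap_eq_mk J
  have hne : P.map (algebraMap B (AdicCompletion J B)) ≠ ⊤ := by
    intro h
    have h1 : (P.map (algebraMap B (AdicCompletion J B))).map π.toRingHom = ⊤ := by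
      rw [h]
      exact Ideal.map_top _
    rw [Ideal.map_map, hcomp] at h1
    have h2 := Ideal.comap_map_of_surjective (Ideal.Quotient.mk J) Ideal.Quotient.mk_surjective P
    rw [h1, Ideal.comap_top, ← RingHom.ker_eq_comap_bot, Ideal.mk_ker] at h2
    have h3 : (⊤ : Ideal B) ≤ maximalIdeal B := h2 ▸ sup_le hPm hJm
    exact (maximalIdeal.isMaximal B).ne_top (top_le_iff.1 h3)
  obtain ⟨⟨p', hp'min⟩⟩ := Ideal.nonempty_minimalPrimes hne
  haveI hp'prime : p'.IsPrime := hp'min.1.1
  have hcomap' : p'.comap (algebraMap B (AdicCompletion J B)) = P :=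
    Groth.Agent.Lib.Helper67.EquiCat.comap_eq_of_mem_minimalPrimes_map P p' hp'min
  have hImap : I.map (algebraMap A (AdicCompletion J B)) =
      J.map (algebraMap B (AdicCompletion J B)) := by
    rw [hJ, Ideal.map_map, ← IsScalarTower.algebraMap_eq]
  refine ⟨⟨p', hp'prime⟩, ?_, ?_, ?_⟩
  · intro hle
    apply hpI
    have h1 : I ≤ (p'.comap (algebraMap B (AdicCompletion J B))).comap (algebraMap A B) := by
      rw [Ideal.comap_comap, ← IsScalarTower.algebraMap_eq]
      exact Ideal.map_le_iff_le_comap.1 hle
    rwa [hcomap', hPcomap] at h1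
  · intro q' hp'q' hIq'
    rw [hImap] at hIq'
    have hkerle : RingHom.ker π.toRingHom ≤ q'.asIdeal := hker ▸ hIq'
    set rB := q'.asIdeal.comap (algebraMap B (AdicCompletion J B)) with hrBdef
    haveI : rB.IsPrime := Ideal.comap_isPrime _ _
    have hPr : P ≤ rB := by
      rw [← hcomap']
      exact Ideal.comap_mono hp'q'
    have hJr : J ≤ rB := Ideal.map_le_iff_le_comap.1 hIq'
    have hrB : rB = maximalIdeal B := by
      have hr1 : p ⊔ I ≤ rB.comap (algebraMap A B) := by
        refine sup_le ?_ (Ideal.map_le_iff_le_comap.1 hJr)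
        rw [← hPcomap]
        exact Ideal.comap_mono hPr
      have hr2 : rB.comap (algebraMap A B) ≤ q₀ :=
        Groth.Agent.Lib.Helper67.comap_le_of_atPrime q₀ ⟨rB, inferInstance⟩
      have hr3 : rB.comap (algebraMap A B) = q₀ :=
        le_antisymm hr2 (hmin.2 ⟨Ideal.comap_isPrime _ _, hr1⟩ hr2)
      have hr4 : Ideal.map (algebraMap A B) (rB.comap (algebraMap A B)) = rB :=
        IsLocalization.map_comap q₀.primeCompl B rB
      rw [← hr4, hr3, Localization.AtPrime.map_eq_maximalIdeal]
    have hmbar : (Ideal.map (Ideal.Quotient.mk J) (maximalIdeal B)).IsMaximal :=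
      Ideal.IsMaximal.map_of_surjective_of_ker_le Ideal.Quotient.mk_surjective
        (by rw [Ideal.mk_ker]; exact hJm)
    have hself : Ideal.comap π.toRingHom (Ideal.map π.toRingHom q'.asIdeal) = q'.asIdeal := by
      rw [Ideal.comap_map_of_surjective _ hπ, ← RingHom.ker_eq_comap_bot]
      exact sup_eq_left.2 hkerle
    have hqbar : Ideal.map (Ideal.Quotient.mk J) (maximalIdeal B) =
        Ideal.map π.toRingHom q'.asIdeal := by
      apply hmbar.eq_of_le
      · intro htop
        rw [htop, Ideal.comap_top] at hself
        exact q'.isPrime.ne_top hself.symm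
      · rw [← hrB, ← hcomp, ← Ideal.map_map]
        exact Ideal.map_mono Ideal.map_comap_le
    rw [← hself, ← hqbar]
    exact Ideal.comap_isMaximal_of_surjective _ hπ
  · change depth (Localization.AtPrime p') (LocalizedModule p'.primeCompl
      (AdicCompletion J (LocalizedModule q₀.primeCompl M))) = _
    rw [depth_cpl_localization B J (LocalizedModule q₀.primeCompl M) P p' hp'min]
    rw [(Groth.Agent.Lib.Helper67.depth_supportDim_localization_localization q₀.primeCompl P M).1]
    exact depth_congr_ideal M _ _ hPcomap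

end Groth.Agent.Lib.Helper92.Boot
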