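import Groth.Agent.Lib.Helper92.HLVTFinite
import Groth.Agent.Lib.Helper76.PowSeries
import Groth.Agent.Lib.Helper77.RegularPowerSeries
import Groth.Agent.Lib.Helper77.RegularLocalization
import Groth.Agent.Lib.Helper38.PowerSeriesNormal
import Groth.Agent.Lib.Helper85.RegGor
import Groth.Agent.S0581
import Groth.Agent.Lib.Helper98.LCTop

/-!
# HLVT for complete local domains (helper92)
-/

set_option autoImplicit false
universe u

open CategoryTheory IsLocalRing

namespace Groth.Agent.Lib.Helper92.HLVT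

open Groth.Agent.Lib.Helper92

section PS

open MvPowerSeries Groth.Agent.Lib.Helper76

theorem maximalIdeal_mvPowerSeries_eq (Λ : Type u) [CommRing Λ] [IsLocalRing Λ] (n : ℕ) :
    maximalIdeal (MvPowerSeries (Fin n) Λ) = bigIdeal (maximalIdeal Λ) := by
  rw [← pow_one (bigIdeal (maximalIdeal Λ)), pow_bigIdeal_eq]
  ext f
  rw [IsLocalRing.mem_maximalIdeal, mem_nonunits_iff, isUnit_iff_constantCoeff, mem_coeffIdeal]
  constructor
  · intro hf α
    by_cases hα : α = 0
    · subst hα
      simpa using (IsLocalRing.mem_maximalIdeal _).2 hf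
    · have : 1 - α.degree = 0 := by
        have : α.degree ≠ 0 := fun h => hα ((Finsupp.degree_eq_zero_iff α).1 h)
        omega
      rw [this, pow_zero, Ideal.one_eq_top]
      exact Submodule.mem_top
  · intro hf
    have := hf 0
    simpa using this

theorem isAdicComplete_mvPowerSeries (Λ : Type u) [CommRing Λ] [IsLocalRing Λ]
    [IsAdicComplete (maximalIdeal Λ) Λ] (n : ℕ) :
    IsAdicComplete (maximalIdeal (MvPowerSeries (Fin n) Λ)) (MvPowerSeries (Fin n) Λ) := by
  rw [maximalIdeal_mvPowerSeries_eq]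
  exact isAdicComplete_bigIdeal _

theorem isIntegrallyClosed_mvPowerSeries (Λ : Type u) [CommRing Λ] [IsDomain Λ]
    [IsNoetherianRing Λ] [IsIntegrallyClosed Λ] (n : ℕ) :
    IsIntegrallyClosed (MvPowerSeries (Fin n) Λ) ∧ IsNoetherianRing (MvPowerSeries (Fin n) Λ) := by
  induction n with
  | zero =>
    exact ⟨IsIntegrallyClosed.of_equiv (MvPowerSeries.isEmptyEquiv (Fin 0) Λ).symm.toRingEquiv,
      isNoetherianRing_of_ringEquiv Λ (MvPowerSeries.isEmptyEquiv (Fin 0) Λ).symm.toRingEquiv⟩
  | succ n ih =>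
    obtain ⟨h1, h2⟩ := ih
    haveI : IsDomain (MvPowerSeries (Fin n) Λ) := NoZeroDivisors.to_isDomain _
    have := Groth.Agent.Lib.Helper38.PowerSeriesNormal.isIntegrallyClosed_powerSeries
      (MvPowerSeries (Fin n) Λ)
    have hN : IsNoetherianRing (PowerSeries (MvPowerSeries (Fin n) Λ)) := inferInstance
    exact ⟨IsIntegrallyClosed.of_equiv (MvPowerSeries.finSuccEquiv Λ n).symm.toRingEquiv,
      isNoetherianRing_of_ringEquiv _ (MvPowerSeries.finSuccEquiv Λ n).symm.toRingEquiv⟩

end PS

/-- **HLVT for a prime of coheight one in a complete local domain** -/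
theorem subsingleton_H_top_prime (R : Type u) [CommRing R] [IsDomain R] [IsLocalRing R]
    [IsNoetherianRing R] [IsAdicComplete (maximalIdeal R) R] (d : ℕ) (hd : ringKrullDim R = d)
    (P : Ideal R) [P.IsPrime] (hP : ringKrullDim (R ⧸ P) = 1) :
    Subsingleton (LocCoh.H P d R) := by
  obtain ⟨Λ, _, n, f, hΛ, hinj, hfin, -⟩ := Groth.Agent.S0581.result R
  letI : Algebra (MvPowerSeries (Fin n) Λ) R := f.toAlgebra
  haveI : Module.Finite (MvPowerSeries (Fin n) Λ) R := hfin
  obtain ⟨hdom, hloc, hpid, hcompl⟩ : ∃ (_ : IsDomain Λ) (_ : IsLocalRing Λ)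
      (_ : IsPrincipalIdealRing Λ), IsAdicComplete (maximalIdeal Λ) Λ := by
    rcases hΛ with hF | ⟨hdom, hdvr, hc, -⟩
    · letI := hF.toField
      refine ⟨inferInstance, inferInstance, inferInstance, ?_⟩
      rw [IsLocalRing.maximalIdeal_eq_bot]
      infer_instance
    · exact ⟨hdom, inferInstance, inferInstance, hc⟩
  haveI : IsRegularRing Λ :=
    Groth.Agent.Lib.Helper77.RegularLocalization.isRegularRing_of_isRegularLocalRing Λ
  haveI : IsRegularRing (MvPowerSeries (Fin n) Λ) :=
    Groth.Agent.Lib.Helper77.RegularPowerSeries.isRegularRing_mvPowerSeries Λ n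
  haveI : IsRegularLocalRing (MvPowerSeries (Fin n) Λ) :=
    IsRegularLocalRing.of_isRegularRing_of_isLocalRing _
  haveI : LocCoh.IsGorensteinLocalRing (MvPowerSeries (Fin n) Λ) :=
    Groth.Agent.Lib.Helper85.FLCrit.isGorensteinLocalRing_of_regular _
  haveI : LocCoh.IsGorensteinRing (MvPowerSeries (Fin n) Λ) :=
    Groth.Agent.Lib.Helper85.GorRing.gorRing_of_gorLocal _
  haveI : IsDomain (MvPowerSeries (Fin n) Λ) := NoZeroDivisors.to_isDomain _
  haveI := isAdicComplete_mvPowerSeries Λ n
  haveI := (isIntegrallyClosed_mvPowerSeries Λ n).1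
  exact subsingleton_H_top_of_finite_normal (MvPowerSeries (Fin n) Λ) R hinj d hd P hP

section Coheight

variable {R : Type u} [CommRing R]

theorem isMaximal_of_comap_mk_isMaximal (K : Ideal R) (J : Ideal (R ⧸ K)) (hJ : J ≠ ⊤)
    (h : (J.comap (Ideal.Quotient.mk K)).IsMaximal) : J.IsMaximal := by
  have h1 := Ideal.map_eq_top_or_isMaximal_of_surjective (Ideal.Quotient.mk K)
    Ideal.Quotient.mk_surjective h
  rw [Ideal.map_comap_of_surjective _ Ideal.Quotient.mk_surjective] at h1
  exact h1.resolve_left hJ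

variable [IsNoetherianRing R] [IsLocalRing R]

/-- if `dim R/I ≥ 1`, some prime containing `I` has coheight exactly one -/
theorem exists_prime_coheight_one (I : Ideal R) (hI : 1 ≤ ringKrullDim (R ⧸ I)) :
    ∃ P : Ideal R, P.IsPrime ∧ I ≤ P ∧ ringKrullDim (R ⧸ P) = 1 := by
  -- a non-maximal prime containing `I`
  have h1 : ∃ p : Ideal R, p.IsPrime ∧ I ≤ p ∧ p ≠ maximalIdeal R := by
    by_contra hcon
    push Not at hcon
    have : Ring.KrullDimLE 0 (R ⧸ I) := by
      rw [Ring.krullDimLE_zero_iff]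
      intro J hJ
      apply isMaximal_of_comap_mk_isMaximal I J hJ.ne_top
      have hp : (J.comap (Ideal.Quotient.mk I)).IsPrime := Ideal.comap_isPrime _ J
      have hle : I ≤ J.comap (Ideal.Quotient.mk I) := by
        intro x hx
        rw [Ideal.mem_comap, Ideal.Quotient.eq_zero_iff_mem.2 hx]
        exact J.zero_mem
      rw [hcon _ hp hle]
      exact maximalIdeal.isMaximal R
    have h2 : ringKrullDim (R ⧸ I) ≤ 0 := by
      have := Ring.krullDimLE_iff.1 this
      exact_mod_cast this
    exact absurd (hI.trans h2) (by decide)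
  obtain ⟨p, hp, hIp, hpm⟩ := h1
  -- a maximal such prime above `p`
  obtain ⟨Q, ⟨hQp, hpQ, hQm⟩, hQmax⟩ := set_has_maximal_iff_noetherian.2 ‹IsNoetherianRing R›
    {Q : Ideal R | Q.IsPrime ∧ p ≤ Q ∧ Q ≠ maximalIdeal R} ⟨p, hp, le_rfl, hpm⟩
  refine ⟨Q, hQp, hIp.trans hpQ, le_antisymm ?_ ?_⟩
  · have : Ring.KrullDimLE 1 (R ⧸ Q) := by
      haveI : IsDomain (R ⧸ Q) := Ideal.Quotient.isDomain Q
      rw [Ring.krullDimLE_one_iff_of_noZeroDivisors]
      intro J hJ0 hJ
      apply isMaximal_of_comap_mk_isMaximal Q J hJ.ne_top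
      have hp' : (J.comap (Ideal.Quotient.mk Q)).IsPrime := Ideal.comap_isPrime _ J
      have hle : Q ≤ J.comap (Ideal.Quotient.mk Q) := by
        intro x hx
        rw [Ideal.mem_comap, Ideal.Quotient.eq_zero_iff_mem.2 hx]
        exact J.zero_mem
      have hne : Q ≠ J.comap (Ideal.Quotient.mk Q) := by
        intro heq
        apply hJ0
        rw [eq_bot_iff]
        intro y hy
        obtain ⟨x, rfl⟩ := Ideal.Quotient.mk_surjective y
        have : x ∈ J.comap (Ideal.Quotient.mk Q) := hy
        rw [← heq] at this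
        rw [Ideal.mem_bot, Ideal.Quotient.eq_zero_iff_mem]
        exact this
      by_contra hmax
      have hne2 : J.comap (Ideal.Quotient.mk Q) ≠ maximalIdeal R := by
        intro h
        apply hmax
        rw [h]
        exact maximalIdeal.isMaximal R
      exact hQmax _ ⟨hp', hpQ.trans hle, hne2⟩ (lt_of_le_of_ne hle hne)
    have := Ring.krullDimLE_iff.1 this
    exact_mod_cast this
  · have hlt : Q < maximalIdeal R := lt_of_le_of_ne (le_maximalIdeal hQp.ne_top) hQm
    haveI := hQp
    have h2 := SDim.ringKrullDim_quotient_add_one_le hlt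
    have h0 : (0 : WithBot ℕ∞) ≤ ringKrullDim (R ⧸ maximalIdeal R) := ringKrullDim_nonneg_of_nontrivial
    calc (1 : WithBot ℕ∞) = 0 + 1 := by simp
      _ ≤ ringKrullDim (R ⧸ maximalIdeal R) + 1 := add_le_add_left h0 1
      _ ≤ _ := h2

end Coheight

/-- **HLVT for complete local domains**, ring case -/
theorem hlvt_complete_domain_ring (R : Type u) [CommRing R] [IsDomain R] [IsLocalRing R]
    [IsNoetherianRing R] [IsAdicComplete (maximalIdeal R) R] (d : ℕ) (hd : ringKrullDim R = d)
    (I : Ideal R) (hI : 1 ≤ ringKrullDim (R ⧸ I)) :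
    Subsingleton (LocCoh.H I d R) := by
  obtain ⟨P, hP, hIP, hdim⟩ := exists_prime_coheight_one I hI
  haveI := hP
  have h := subsingleton_H_top_prime R d hd P hdim
  by_contra hne
  have hnt : Nontrivial (LocCoh.H I d R) := not_subsingleton_iff_nontrivial.1 hne
  have := Groth.Agent.Lib.Helper98.LCTop.nontrivial_of_le d hd (ModuleCat.of R R) I P hIP
    (le_maximalIdeal hP.ne_top) hnt
  exact not_subsingleton_iff_nontrivial.2 this h

/-- **HLVT for complete local domains** -/
theorem hlvt_complete_domain (R : Type u) [CommRing R] [IsDomain R] [IsLocalRing R]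
    [IsNoetherianRing R] [IsAdicComplete (maximalIdeal R) R] (d : ℕ) (hd : ringKrullDim R = d)
    (I : Ideal R) (hI : 1 ≤ ringKrullDim (R ⧸ I)) (M : Type u) [AddCommGroup M] [Module R M]
    (i : ℕ) (hi : d ≤ i) : Subsingleton (LocCoh.H I i M) := by
  have hcd := LC.cdLE_of_ringKrullDim_le I d (le_of_eq hd)
  rcases lt_or_eq_of_le hi with hlt | rfl
  · exact hcd M i hlt
  · exact LC.subsingleton_top_of_ring I d hcd (hlvt_complete_domain_ring R d hd I hI) M

end Groth.Agent.Lib.Helper92.HLVT
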