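import Groth.Agent.Lib.Helper92.HLVTComplete
import Groth.Agent.Lib.Helper92.ConnDimRing
import Groth.Agent.Lib.Helper85.DualLC

/-!
# Coassociated primes of top local cohomology (helper92)
-/

set_option autoImplicit false
set_option linter.style.haveILetI false
universe u

open CategoryTheory IsLocalRing
open scoped Pointwise

namespace Groth.Agent.Lib.Helper92.Coass

open Groth.Agent.Lib.Helper92 Groth.Agent.Lib.Helper92.LC Groth.Agent.Lib.Helper92.HLVT
open Groth.Agent.Lib.Helper92.SDim Groth.Agent.Lib.Helper67 InjHull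

section Basic

variable {R : Type u} [CommRing R]

theorem smul_H_eq_zero_of_mem_annihilator (I : Ideal R) (i : ℕ) (M : Type u) [AddCommGroup M]
    [Module R M] (r : R) (hr : r ∈ Module.annihilator R M) (y : LocCoh.H I i M) : r • y = 0 := by
  have h0 : r • 𝟙 (ModuleCat.of R M) = 0 := by
    ext m
    exact Module.mem_annihilator.1 hr m
  have := Hmap_smul_id I i (M := ModuleCat.of R M) r y
  rw [h0, Hmap_zero] at this
  exact this.symm

theorem annihilator_le_annihilator_dual (I : Ideal R) (i : ℕ) (M : Type u) [AddCommGroup M]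
    [Module R M] (E : Type u) [AddCommGroup E] [Module R E] :
    Module.annihilator R M ≤ Module.annihilator R (LocCoh.H I i M →ₗ[R] E) := by
  intro r hr
  rw [Module.mem_annihilator]
  intro φ
  ext y
  rw [LinearMap.smul_apply, ← map_smul, smul_H_eq_zero_of_mem_annihilator I i M r hr y, map_zero]
  rfl

end Basic

section Sub

variable {R : Type u} [CommRing R] [IsNoetherianRing R] [IsLocalRing R]
  {E : Type u} [AddCommGroup E] [Module R E]

/-- associated primes of the dual of the top local cohomology are associated primes of `M` of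
maximal dimension -/
theorem ass_DI_subset (I : Ideal R) (M : Type u) [AddCommGroup M] [Module R M]
    [Module.Finite R M] (n : ℕ) (hn : Module.supportDim R M = n) (p : Ideal R)
    (hp : p ∈ associatedPrimes R (LocCoh.H I n M →ₗ[R] E)) :
    p ∈ associatedPrimes R M ∧ ringKrullDim (R ⧸ p) = n := by
  haveI hpp : p.IsPrime := IsAssociatedPrime.isPrime hp
  obtain ⟨N, hN, hmax⟩ := exists_largest (R := R) (M := M) (n : WithBot ℕ∞) (WithBot.bot_lt_coe _)
  have hq := supportDim_quotient_eq n hn N hN
  obtain ⟨e⟩ := Groth.Agent.Lib.Helper85.DualLC.nonempty_D_equiv_mkQ I E n M N hN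
  have hp' : p ∈ associatedPrimes R (LocCoh.H I n (M ⧸ N) →ₗ[R] E) := by
    rw [← LinearEquiv.AssociatedPrimes.eq e]
    exact hp
  have hsub : (p : Set R) ⊆ ⋃ q ∈ associatedPrimes R (M ⧸ N), (q : Set R) := by
    intro x hx
    rw [biUnion_associatedPrimes_eq_compl_regular R (M ⧸ N)]
    intro hreg
    have hreg' : IsSMulRegular (M ⧸ N) x := hreg
    have hxm : x ∈ maximalIdeal R := IsLocalRing.le_maximalIdeal hpp.ne_top hx
    have h1 := Module.supportDim_quotSMulTop_succ_eq_supportDim hreg' hxm
    rw [hq] at h1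
    have h2 : Module.supportDim R (QuotSMulTop x (M ⧸ N)) < (n : WithBot ℕ∞) :=
      Groth.Agent.Lib.Helper85.Canon.withBot_lt_of_add_one_le _ n h1.le
    have hsurj := smul_surjective_top_rel I n (M ⧸ N) hq.le x h2
    obtain ⟨-, φ, hφ⟩ := isAssociatedPrime_iff.1 hp'
    have hxφ : x • φ = 0 := by
      have : x ∈ Submodule.colon (⊥ : Submodule R (LocCoh.H I n (M ⧸ N) →ₗ[R] E)) {φ} := hφ ▸ hx
      rwa [Submodule.mem_colon_singleton, Submodule.mem_bot] at this
    have hφ0 : φ = 0 := by
      apply LinearMap.ext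
      intro z
      obtain ⟨w, rfl⟩ := hsurj z
      change φ (x • w) = 0
      rw [map_smul, ← LinearMap.smul_apply, hxφ]
      rfl
    apply hpp.ne_top
    rw [hφ, hφ0, eq_top_iff]
    intro r _
    rw [Submodule.mem_colon_singleton, smul_zero]
    exact Submodule.zero_mem _
  have hfin : (associatedPrimes R (M ⧸ N)).Finite := associatedPrimes.finite R (M ⧸ N)
  obtain ⟨q, hqmem, hpq⟩ := (Ideal.subset_union_prime (R := R) (s := hfin.toFinset)
    (f := fun q => q) ⊥ ⊥
    (fun q hq _ _ => IsAssociatedPrime.isPrime ((hfin.mem_toFinset).1 hq))).1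
    (by rw [Set.Finite.coe_toFinset]; exact hsub)
  have hqass : q ∈ associatedPrimes R (M ⧸ N) := (hfin.mem_toFinset).1 hqmem
  obtain ⟨hqM, hqd⟩ := mem_ass_of_mem_ass_quotient n hn N hN hmax q hqass
  haveI hqp : q.IsPrime := IsAssociatedPrime.isPrime hqass
  rcases eq_or_lt_of_le hpq with h | h
  · rw [h]
    exact ⟨hqM, hqd⟩
  · exfalso
    have h2 := ringKrullDim_quotient_add_one_le h
    have h3 : ringKrullDim (R ⧸ p) ≤ n := by
      rw [← hn]
      exact ringKrullDim_quotient_le_supportDim
        ((annihilator_le_annihilator_dual I n M E).trans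
          (annihilator_le_of_mem_associatedPrimes hp))
    rw [hqd] at h2
    have h4 : ((n + 1 : ℕ) : WithBot ℕ∞) ≤ (n : ℕ) := by exact_mod_cast h2.trans h3
    have h5 : n + 1 ≤ n := by exact_mod_cast h4
    omega

end Sub

section MinPrime

theorem exists_notMem_mul_pow_le {A : Type u} [CommRing A] [IsNoetherianRing A] (J p : Ideal A)
    (hp : p ∈ J.minimalPrimes) : ∃ s : A, s ∉ p ∧ ∃ k : ℕ, ∀ a ∈ p ^ k, s * a ∈ J := by
  classical
  have hpp : p.IsPrime := hp.1.1
  have hfin : J.minimalPrimes.Finite := Ideal.finite_minimalPrimes_of_isNoetherianRing A J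
  have hfin' : (J.minimalPrimes \ {p}).Finite := hfin.subset Set.sdiff_subset
  have hnle : ¬ sInf (J.minimalPrimes \ {p}) ≤ p := by
    intro h
    obtain ⟨q, hq, hqp⟩ := ConnDimRing.prime_sInf_le hfin' hpp h
    have hpq : p ≤ q := hp.2 hq.1.1 hqp
    exact hq.2 (le_antisymm hqp hpq)
  obtain ⟨s, hsQ, hsp⟩ := SetLike.not_le_iff_exists.1 hnle
  obtain ⟨k, hk⟩ := Ideal.exists_radical_pow_le_of_fg J (IsNoetherian.noetherian _)
  have hle : Ideal.span {s} * p ≤ J.radical := by
    rw [← Ideal.sInf_minimalPrimes, Ideal.mul_le]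
    intro x hx a ha
    rw [Ideal.mem_sInf]
    intro q hq
    by_cases hqp : q = p
    · rw [hqp]; exact Ideal.mul_mem_left _ _ ha
    · obtain ⟨c, rfl⟩ := Ideal.mem_span_singleton'.1 hx
      have hsq : s ∈ q := (Ideal.mem_sInf.1 hsQ) ⟨hq, hqp⟩
      exact Ideal.mul_mem_right _ _ (Ideal.mul_mem_left _ _ hsq)
  refine ⟨s ^ k, fun h => hsp (hpp.mem_of_pow_mem k h), k, fun a ha => ?_⟩
  have h1 : (Ideal.span {s} * p) ^ k ≤ J := (Ideal.pow_right_mono hle k).trans hk
  rw [mul_pow, Ideal.span_singleton_pow] at h1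
  exact h1 (Ideal.mul_mem_mul (Ideal.mem_span_singleton_self _) ha)

end MinPrime

section Complete

variable {R : Type u} [CommRing R] [IsNoetherianRing R] [IsLocalRing R]
  [IsAdicComplete (maximalIdeal R) R]

theorem hlvt_quotient_prime (J : Ideal R) (p : Ideal R) [hp : p.IsPrime] (n : ℕ)
    (hdim : ringKrullDim (R ⧸ p) = n) (h1 : 1 ≤ ringKrullDim (R ⧸ (J ⊔ p))) :
    Subsingleton (LocCoh.H J n (R ⧸ p)) := by
  haveI : IsLocalRing (R ⧸ p) :=
    IsLocalRing.of_surjective' (Ideal.Quotient.mk p) Ideal.Quotient.mk_surjective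
  haveI : IsAdicComplete (maximalIdeal (R ⧸ p)) (R ⧸ p) :=
    Groth.Agent.Lib.Helper38.ComplNagata.isAdicComplete_quotient R p
  have h2 : 1 ≤ ringKrullDim ((R ⧸ p) ⧸ J.map (Ideal.Quotient.mk p)) := by
    rw [ringKrullDim_eq_of_ringEquiv (DoubleQuot.quotQuotEquivQuotSup p J), sup_comm]
    exact h1
  have h3 : Subsingleton (LocCoh.H (J.map (Ideal.Quotient.mk p)) n (R ⧸ p)) :=
    hlvt_complete_domain (R ⧸ p) n hdim _ h2 (R ⧸ p) n le_rfl
  obtain ⟨φ, -⟩ := Helper98.CechRestrict.lc_restrict (R := R) (R' := R ⧸ p) J (R ⧸ p) n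
  exact φ.symm.toEquiv.subsingleton

/-- **HLVT, module version** -/
theorem hlvt_module (I : Ideal R) (n : ℕ) (X : Type u) [AddCommGroup X] [Module R X]
    [Module.Finite R X] :
    Module.supportDim R X ≤ (n : WithBot ℕ∞) →
    (∀ q : Ideal R, q.IsPrime → Module.annihilator R X ≤ q → ringKrullDim (R ⧸ q) = n →
      1 ≤ ringKrullDim (R ⧸ (I ⊔ q))) →
    Subsingleton (LocCoh.H I n X) := by
  induction ‹Module.Finite R X› using
    IsNoetherianRing.induction_on_isQuotientEquivQuotientPrime R with
  | subsingleton N => exact fun _ _ => subsingleton_of_subsingleton I n (ModuleCat.of R N)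
  | quotient N q0 e =>
    intro hdim hq
    haveI := q0.2
    suffices h : Subsingleton (LocCoh.H I n (R ⧸ q0.asIdeal)) from
      (((localCohomology I n).mapIso e.toModuleIso).toLinearEquiv).toEquiv.subsingleton
    have hdim' : ringKrullDim (R ⧸ q0.asIdeal) ≤ n := by
      rw [← Module.supportDim_quotient_eq_ringKrullDim, ← Module.supportDim_eq_of_equiv e]
      exact hdim
    by_cases hd : ringKrullDim (R ⧸ q0.asIdeal) = n
    · apply hlvt_quotient_prime I q0.asIdeal n hd
      apply hq q0.asIdeal q0.2 _ hd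
      rw [LinearEquiv.annihilator_eq e, Ideal.annihilator_quotient]
    · apply LC.subsingleton_of_supportDim_lt
      rw [Module.supportDim_quotient_eq_ringKrullDim]
      exact lt_of_le_of_ne hdim' hd
  | exact N₁ N₂ N₃ f g hf hg hfg h1 h3 =>
    intro hdim hq
    have h1' : Subsingleton (LocCoh.H I n N₁) := by
      apply h1 ((Module.supportDim_le_of_injective f hf).trans hdim)
      intro q hqp hann
      apply hq q hqp
      refine le_trans ?_ hann
      intro r hr
      rw [Module.mem_annihilator] at hr ⊢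
      intro x
      apply hf
      rw [map_smul, hr, map_zero]
    have h3' : Subsingleton (LocCoh.H I n N₃) := by
      apply h3 ((Module.supportDim_le_of_surjective g hg).trans hdim)
      intro q hqp hann
      apply hq q hqp
      refine le_trans ?_ hann
      intro r hr
      rw [Module.mem_annihilator] at hr ⊢
      intro x
      obtain ⟨y, rfl⟩ := hg x
      rw [← map_smul, hr, map_zero]
    let T : ShortComplex (ModuleCat.{u} R) :=
      ModuleCat.shortComplexOfCompEqZero f g hfg.linearMap_comp_eq_zero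
    have hT : T.ShortExact := ModuleCat.shortComplex_shortExact _ hfg hf hg
    refine ⟨fun y y' => ?_⟩
    suffices h0 : ∀ y : (localCohomology I n).obj T.X₂, y = 0 from (h0 y).trans (h0 y').symm
    intro y
    have h3'' : Subsingleton ((localCohomology I n).obj T.X₃) := h3'
    have h1'' : Subsingleton ((localCohomology I n).obj T.X₁) := h1'
    obtain ⟨x, rfl⟩ := exact₂ I n hT y (Subsingleton.elim _ _)
    rw [Subsingleton.elim x 0, map_zero]

omit [IsAdicComplete (maximalIdeal R) R] [IsNoetherianRing R] [IsLocalRing R] in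
/-- a prime of maximal dimension in the support is minimal over the annihilator -/
theorem mem_minimalPrimes_annihilator (M : Type u) [AddCommGroup M] [Module R M]
    [Module.Finite R M] (n : ℕ) (hn : Module.supportDim R M = n) (p : Ideal R) [hp : p.IsPrime]
    (hann : Module.annihilator R M ≤ p) (hpd : ringKrullDim (R ⧸ p) = n) :
    p ∈ (Module.annihilator R M).minimalPrimes := by
  refine ⟨⟨hp, hann⟩, ?_⟩
  rintro q ⟨hqp, hq⟩ hqle
  by_contra hnot
  have hlt : q < p := lt_of_le_of_ne hqle (fun h => hnot (h ▸ le_rfl))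
  haveI := hqp
  have h2 := ringKrullDim_quotient_add_one_le hlt
  have h3 : ringKrullDim (R ⧸ q) ≤ n := hn ▸ ringKrullDim_quotient_le_supportDim hq
  rw [hpd] at h2
  have h4 : ((n + 1 : ℕ) : WithBot ℕ∞) ≤ (n : ℕ) := by exact_mod_cast h2.trans h3
  have h5 : n + 1 ≤ n := by exact_mod_cast h4
  omega

/-- (g): if `dim R/(I + p) ≥ 1`, some `s ∉ p` kills `H^n_I(M)` -/
theorem exists_notMem_smul_H_eq_zero (I : Ideal R) (M : Type u) [AddCommGroup M] [Module R M]
    [Module.Finite R M] (n : ℕ) (hn : Module.supportDim R M = n) (p : Ideal R) [hp : p.IsPrime]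
    (hann : Module.annihilator R M ≤ p) (hpd : ringKrullDim (R ⧸ p) = n)
    (h1 : 1 ≤ ringKrullDim (R ⧸ (I ⊔ p))) :
    ∃ s : R, s ∉ p ∧ ∀ y : LocCoh.H I n M, s • y = 0 := by
  have hmin := mem_minimalPrimes_annihilator M n hn p hann hpd
  obtain ⟨s, hsp, k, hk⟩ := exists_notMem_mul_pow_le _ p hmin
  refine ⟨s, hsp, ?_⟩
  let N : Submodule R M := (p ^ k) • (⊤ : Submodule R M)
  have hsN : s ∈ Module.annihilator R N := by
    rw [Module.mem_annihilator]
    rintro ⟨x, hx⟩
    apply Subtype.ext
    change s • x = 0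
    refine Submodule.smul_induction_on hx ?_ ?_
    · intro a ha m _
      rw [← mul_smul]
      exact Module.mem_annihilator.1 (hk a ha) m
    · intro x y hx hy
      rw [smul_add, hx, hy, add_zero]
  -- vanishing for the quotient
  have hQ : Subsingleton (LocCoh.H I n (M ⧸ N)) := by
    apply hlvt_module I n (M ⧸ N)
    · rw [← hn]
      exact Module.supportDim_le_of_surjective N.mkQ (Submodule.mkQ_surjective N)
    · intro q hqp hq hqd
      have hpk : p ^ k ≤ Module.annihilator R (M ⧸ N) := by
        intro a ha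
        rw [Module.mem_annihilator]
        intro x
        obtain ⟨m, rfl⟩ := Submodule.Quotient.mk_surjective N x
        rw [← Submodule.Quotient.mk_smul, Submodule.Quotient.mk_eq_zero]
        exact Submodule.smul_mem_smul ha Submodule.mem_top
      have hpq : p ≤ q := hqp.le_of_pow_le (hpk.trans hq)
      have : p = q := by
        by_contra hne
        have hlt : p < q := lt_of_le_of_ne hpq hne
        haveI := hqp
        have h2 := ringKrullDim_quotient_add_one_le hlt
        rw [hqd, hpd] at h2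
        have h4 : ((n + 1 : ℕ) : WithBot ℕ∞) ≤ (n : ℕ) := by exact_mod_cast h2
        have h5 : n + 1 ≤ n := by exact_mod_cast h4
        omega
      rw [← this]
      exact h1
  let T : ShortComplex (ModuleCat.{u} R) :=
    ModuleCat.shortComplexOfCompEqZero N.subtype N.mkQ
      (by ext x; exact (Submodule.Quotient.mk_eq_zero _).2 x.2)
  have hT : T.ShortExact :=
    ModuleCat.shortComplex_shortExact _ (LinearMap.exact_subtype_mkQ N)
      (Submodule.injective_subtype _) (Submodule.mkQ_surjective _)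
  intro y
  have hQ' : Subsingleton ((localCohomology I n).obj T.X₃) := hQ
  obtain ⟨w, rfl⟩ := exact₂ I n hT (y : (localCohomology I n).obj T.X₂) (Subsingleton.elim _ _)
  rw [← map_smul]
  have : s • w = 0 := smul_H_eq_zero_of_mem_annihilator I n N s hsN w
  rw [this, map_zero]

variable {E : Type u} [AddCommGroup E] [Module R E] {f : ResidueField R →ₗ[R] E}

/-- (f): primes `p ∈ Assh M` with `√(I + p) = m` are coassociated to `H^n_I(M)` -/
theorem mem_ass_DI (hf : IsInjectiveHull f) (I : Ideal R) (M : Type u) [AddCommGroup M]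
    [Module R M] [Module.Finite R M] (n : ℕ) (hn : Module.supportDim R M = n) (p : Ideal R)
    [hp : p.IsPrime] (hann : Module.annihilator R M ≤ p) (hpd : ringKrullDim (R ⧸ p) = n)
    (hrad : (I ⊔ p).radical = maximalIdeal R) :
    p ∈ associatedPrimes R (LocCoh.H I n M →ₗ[R] E) := by
  let N : Submodule R M := p • (⊤ : Submodule R M)
  have hpX : p ≤ Module.annihilator R (M ⧸ N) := by
    intro a ha
    rw [Module.mem_annihilator]
    intro x
    obtain ⟨m, rfl⟩ := Submodule.Quotient.mk_surjective N x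
    rw [← Submodule.Quotient.mk_smul, Submodule.Quotient.mk_eq_zero]
    exact Submodule.smul_mem_smul ha Submodule.mem_top
  have hXp : Module.annihilator R (M ⧸ N) ≤ p := by
    have h1 : (⟨p, hp⟩ : PrimeSpectrum R) ∈ Module.support R (M ⧸ N) := by
      rw [Module.support_quotient]
      refine ⟨?_, ?_⟩
      · rw [Module.mem_support_iff_of_finite]
        exact hann
      · rw [PrimeSpectrum.mem_zeroLocus]
    exact Module.annihilator_le_of_mem_support h1
  have hX : Module.supportDim R (M ⧸ N) = n := by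
    apply le_antisymm
    · rw [← hn]
      exact Module.supportDim_le_of_surjective N.mkQ (Submodule.mkQ_surjective N)
    · rw [← hpd]
      exact ringKrullDim_quotient_le_supportDim hXp
  have hpassX : p ∈ associatedPrimes R (M ⧸ N) := by
    apply Module.associatedPrimes.minimalPrimes_annihilator_subset_associatedPrimes R _
    exact ⟨⟨hp, hXp⟩, fun q hq _ => hpX.trans hq.2⟩
  have h𝔪 := Groth.Agent.Lib.Helper85.DualLC.ass_D_top_supset hf (M ⧸ N) n hX p hpassX hpd
  -- `H^n_I(M/pM) ≅ H^n_m(M/pM)`
  have htors : LocCoh.IsPowerTorsion p (M ⧸ N) := by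
    intro x
    refine ⟨1, fun a ha => ?_⟩
    rw [pow_one] at ha
    exact Module.mem_annihilator.1 (hpX ha) x
  let e1 : LocCoh.H (I ⊔ p) n (M ⧸ N) ≃ₗ[R] LocCoh.H I n (M ⧸ N) :=
    LinearEquiv.ofBijective _
      (cmp_bijective_of_isPowerTorsion' I p n (ModuleCat.of R (M ⧸ N)) htors)
  have hrad' : (I ⊔ p).radical = (maximalIdeal R).radical := by
    rw [hrad, (maximalIdeal.isMaximal R).isPrime.radical]
  let e2 : LocCoh.H (I ⊔ p) n (M ⧸ N) ≃ₗ[R] LocCoh.H (maximalIdeal R) n (M ⧸ N) :=
    ((localCohomology.isoOfSameRadical hrad' n).app (ModuleCat.of R (M ⧸ N))).toLinearEquiv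
  let e3 : (LocCoh.H (maximalIdeal R) n (M ⧸ N) →ₗ[R] E) ≃ₗ[R] (LocCoh.H I n (M ⧸ N) →ₗ[R] E) :=
    LinearEquiv.congrLeft E R (e2.symm.trans e1)
  have hpX' : p ∈ associatedPrimes R (LocCoh.H I n (M ⧸ N) →ₗ[R] E) := by
    rw [← LinearEquiv.AssociatedPrimes.eq e3]
    exact h𝔪
  -- the surjection `H^n_I(M) → H^n_I(M/pM)`
  let T : ShortComplex (ModuleCat.{u} R) :=
    ModuleCat.shortComplexOfCompEqZero N.subtype N.mkQ
      (by ext x; exact (Submodule.Quotient.mk_eq_zero _).2 x.2)
  have hT : T.ShortExact :=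
    ModuleCat.shortComplex_shortExact _ (LinearMap.exact_subtype_mkQ N)
      (Submodule.injective_subtype _) (Submodule.mkQ_surjective _)
  have hN1 : Subsingleton ((localCohomology I (n + 1)).obj T.X₁) := by
    apply LC.subsingleton_of_supportDim_lt I (n + 1) N
    refine lt_of_le_of_lt ((Module.supportDim_le_of_injective N.subtype
      (Submodule.injective_subtype _)).trans hn.le) ?_
    exact_mod_cast Nat.lt_succ_self n
  have hsurj : Function.Surjective (Hmap I n T.g) := by
    intro z
    exact exact₃ I n hT z (Subsingleton.elim _ _)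
  let ι : (LocCoh.H I n (M ⧸ N) →ₗ[R] E) →ₗ[R] (LocCoh.H I n M →ₗ[R] E) :=
    LinearMap.lcomp R E (Hmap I n T.g)
  have hι : Function.Injective ι := by
    intro φ ψ h
    ext z
    obtain ⟨y, rfl⟩ := hsurj z
    exact LinearMap.congr_fun h y
  exact associatedPrimes.subset_of_injective hι hpX'

end Complete

end Groth.Agent.Lib.Helper92.Coass
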