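import Mathlib.GroupTheory.Exponent
import Mathlib.GroupTheory.SpecificGroups.Cyclic
import Mathlib.Data.ZMod.Basic
import Mathlib.Tactic

set_option autoImplicit false
universe u

namespace Groth.Agent.Lib.Helper92.EssentialElt

open AddSubgroup

variable {A : Type u} [AddCommGroup A]

theorem exists_of_prime_dvd (x : A) (hx : IsOfFinAddOrder x) (q : ℕ) (hq : q.Prime)
    (hqd : q ∣ addOrderOf x) : ∃ y : A, y ≠ 0 ∧ q • y = 0 := by
  have hd0 : 0 < addOrderOf x := hx.addOrderOf_pos
  refine ⟨(addOrderOf x / q) • x, ?_, ?_⟩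
  · intro h0
    have h1 : addOrderOf x ∣ addOrderOf x / q := addOrderOf_dvd_of_nsmul_eq_zero h0
    have h2 : 0 < addOrderOf x / q := Nat.div_pos (Nat.le_of_dvd hd0 hqd) hq.pos
    have h3 : addOrderOf x / q < addOrderOf x := Nat.div_lt_self hd0 hq.one_lt
    exact absurd (Nat.le_of_dvd h2 h1) (not_le.2 h3)
  · rw [← mul_nsmul, Nat.div_mul_cancel hqd, addOrderOf_nsmul_eq_zero]

variable (a : A) (ha : a ≠ 0) (h : ∀ B : AddSubgroup A, B ≠ ⊥ → a ∈ B)

include h in
theorem mem_zmultiples_of_ne_zero (x : A) (hx : x ≠ 0) : a ∈ zmultiples x :=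
  h _ (by simpa using hx)

include h in
theorem nsmul_eq_zero_of_exists (q : ℕ) (hex : ∃ y : A, y ≠ 0 ∧ q • y = 0) : q • a = 0 := by
  obtain ⟨y, hy0, hy⟩ := hex
  obtain ⟨k, hk⟩ := mem_zmultiples_iff.1 (mem_zmultiples_of_ne_zero a h y hy0)
  rw [← hk, smul_comm, hy, smul_zero]

include ha h in
theorem exists_prime (hfin : IsOfFinAddOrder a) : ∃ p : ℕ, p.Prime ∧ p • a = 0 := by
  have hd1 : addOrderOf a ≠ 1 := by
    rwa [Ne, AddMonoid.addOrderOf_eq_one_iff]
  obtain ⟨p, hp, hpd⟩ := Nat.exists_prime_and_dvd hd1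
  exact ⟨p, hp, nsmul_eq_zero_of_exists a h p (exists_of_prime_dvd a hfin p hp hpd)⟩

include ha in
theorem prime_unique {p q : ℕ} (hp : p.Prime) (hq : q.Prime) (hpa : p • a = 0) (hqa : q • a = 0) :
    q = p := by
  by_contra hne
  have hcop : Nat.Coprime p q := (Nat.coprime_primes hp hq).2 (Ne.symm hne)
  obtain ⟨u, v, huv⟩ := Nat.isCoprime_iff_coprime.2 hcop
  apply ha
  have h1 : (u * (p : ℤ) + v * (q : ℤ)) • a = 0 := by
    rw [add_smul, mul_smul, mul_smul, natCast_zsmul, natCast_zsmul, hpa, hqa, smul_zero, smul_zero,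
      add_zero]
  rw [huv, one_smul] at h1
  exact h1

include ha h in
theorem mem_zmultiples_of_nsmul_eq_zero {p : ℕ} (hp : p.Prime) (hpa : p • a = 0) (x : A)
    (hx : p • x = 0) : x ∈ zmultiples a := by
  by_cases hx0 : x = 0
  · rw [hx0]; exact zero_mem _
  obtain ⟨k, hk⟩ := mem_zmultiples_iff.1 (mem_zmultiples_of_ne_zero a h x hx0)
  have hpk : ¬ (p : ℤ) ∣ k := by
    rintro ⟨k', rfl⟩
    apply ha
    rw [← hk, mul_comm, mul_smul, natCast_zsmul, hx, smul_zero]
  have hcop : IsCoprime k (p : ℤ) :=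
    ((Nat.prime_iff_prime_int.1 hp).coprime_iff_not_dvd.2 hpk).symm
  obtain ⟨u, v, huv⟩ := hcop
  rw [mem_zmultiples_iff]
  refine ⟨u, ?_⟩
  have h1 : (u * k + v * (p : ℤ)) • x = u • a := by
    rw [add_smul, mul_smul, mul_smul, hk, natCast_zsmul, hx, smul_zero, add_zero]
  rw [huv, one_smul] at h1
  exact h1.symm

include ha h in
theorem addOrderOf_eq_prime_pow {p : ℕ} (hp : p.Prime) (hpa : p • a = 0) (x : A)
    (hx : IsOfFinAddOrder x) : ∃ j : ℕ, addOrderOf x = p ^ j := by
  refine ⟨_, Nat.eq_prime_pow_of_unique_prime_dvd hx.addOrderOf_pos.ne' ?_⟩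
  intro q hq hqd
  have hqa : q • a = 0 := nsmul_eq_zero_of_exists a h q (exists_of_prime_dvd x hx q hq hqd)
  exact prime_unique a ha hp hq hpa hqa

include ha h in
theorem exists_finset_torsion {p : ℕ} (hp : p.Prime) (hpa : p • a = 0) (j : ℕ) :
    ∃ F : Finset A, (∀ x, x ∈ F ↔ p ^ j • x = 0) ∧ F.card ≤ p ^ j := by
  classical
  -- the finite set containing the `p`-torsion
  set T : Finset A := (Finset.range p).image (fun k : ℕ => k • a) with hT
  have hTcard : T.card ≤ p := by
    calc T.card ≤ (Finset.range p).card := Finset.card_image_le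
      _ = p := Finset.card_range p
  have hTmem : ∀ z : A, p • z = 0 → z ∈ T := by
    intro z hz
    obtain ⟨k, hk⟩ := mem_zmultiples_iff.1 (mem_zmultiples_of_nsmul_eq_zero a ha h hp hpa z hz)
    rw [hT, Finset.mem_image]
    have hp0 : (p : ℤ) ≠ 0 := by exact_mod_cast hp.ne_zero
    refine ⟨(k % (p : ℤ)).toNat, ?_, ?_⟩
    · rw [Finset.mem_range]
      have h1 : k % (p : ℤ) < p := Int.emod_lt_of_pos k (by exact_mod_cast hp.pos)
      have h2 : 0 ≤ k % (p : ℤ) := Int.emod_nonneg k hp0
      omega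
    · have h2 : 0 ≤ k % (p : ℤ) := Int.emod_nonneg k hp0
      have h3 : ((k % (p : ℤ)).toNat : ℤ) = k % (p : ℤ) := Int.toNat_of_nonneg h2
      rw [← hk, ← natCast_zsmul, h3]
      conv_rhs => rw [← Int.emod_add_mul_ediv k p]
      rw [add_smul, mul_smul, natCast_zsmul, smul_comm, hpa, smul_zero, add_zero]
  induction j with
  | zero =>
    refine ⟨{0}, fun x => ?_, by simp⟩
    simp
  | succ j ih =>
    obtain ⟨F, hF, hFcard⟩ := ih
    have hfin : {x : A | p ^ (j + 1) • x = 0}.Finite := by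
      apply Set.Finite.of_finite_fibers (fun x : A => p • x)
      · apply (F.finite_toSet).subset
        rintro _ ⟨x, hx, rfl⟩
        simp only [Finset.mem_coe, hF]
        rw [← mul_nsmul, mul_comm, ← pow_succ]
        exact hx
      · rintro _ ⟨x₀, hx₀, rfl⟩
        apply ((T.finite_toSet).image (fun z => x₀ + z)).subset
        rintro x ⟨hx, hxx⟩
        refine ⟨x - x₀, ?_, by simp⟩
        simp only [Finset.mem_coe]
        apply hTmem
        simp only [Set.mem_preimage, Set.mem_singleton_iff] at hxx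
        rw [smul_sub, hxx, sub_self]
    refine ⟨hfin.toFinset, fun x => by simp, ?_⟩
    have hmaps : ∀ x ∈ hfin.toFinset, (fun x : A => p • x) x ∈ F := by
      intro x hx
      rw [Set.Finite.mem_toFinset] at hx
      have hx : p ^ (j + 1) • x = 0 := hx
      rw [hF, ← mul_nsmul, mul_comm, ← pow_succ]
      exact hx
    have hfib : ∀ y ∈ F, (hfin.toFinset.filter (fun x => (fun x : A => p • x) x = y)).card ≤ p := by
      intro y _
      by_cases hne : (hfin.toFinset.filter (fun x => (fun x : A => p • x) x = y)).Nonempty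
      · obtain ⟨x₀, hx₀⟩ := hne
        rw [Finset.mem_filter] at hx₀
        refine le_trans (Finset.card_le_card_of_injOn (fun x => x - x₀) ?_ ?_) hTcard
        · intro x hx
          rw [Finset.mem_coe, Finset.mem_filter] at hx
          simp only [Finset.mem_coe]
          apply hTmem
          have h1 : p • x = y := hx.2
          have h2 : p • x₀ = y := hx₀.2
          rw [smul_sub, h1, h2, sub_self]
        · intro x _ x' _ hxx'
          simpa using hxx'
      · rw [Finset.not_nonempty_iff_eq_empty] at hne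
        rw [hne]
        simp
    calc hfin.toFinset.card ≤ p * F.card :=
          Finset.card_le_mul_card_image_of_maps_to hmaps p hfib
      _ ≤ p * p ^ j := Nat.mul_le_mul_left p hFcard
      _ = p ^ (j + 1) := by rw [pow_succ, mul_comm]

end Groth.Agent.Lib.Helper92.EssentialElt
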