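import Mathlib
import Groth.Agent.Lib.Helper88.ExtLen
set_option autoImplicit false
set_option linter.style.haveILetI false
universe u
open CategoryTheory TensorProduct

namespace Groth.Agent.Lib.Helper92.FAdicX1

/-- cokernels of matrices commute with passing to a quotient ring -/
theorem nonempty_baseChange_coker (S : Type u) [CommRing S] (I : Ideal S) (c r : ℕ)
    (A : Matrix (Fin r) (Fin c) S) :
    Nonempty ((S ⧸ I) ⊗[S] ((Fin c → S) ⧸ LinearMap.range A.vecMulLinear) ≃ₗ[S ⧸ I]
      ((Fin c → S ⧸ I) ⧸ LinearMap.range (A.map (Ideal.Quotient.mk I)).vecMulLinear)) := by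
  classical
  set τ := A.vecMulLinear with hτ
  set N := LinearMap.range τ with hN
  set τ' := (A.map (Ideal.Quotient.mk I)).vecMulLinear with hτ'
  let pc := TensorProduct.piScalarRight S (S ⧸ I) (S ⧸ I) (Fin c)
  let pr := TensorProduct.piScalarRight S (S ⧸ I) (S ⧸ I) (Fin r)
  let g : (Fin c → S ⧸ I) →ₗ[S ⧸ I] (S ⧸ I) ⊗[S] ((Fin c → S) ⧸ N) :=
    (N.mkQ.baseChange (S ⧸ I)) ∘ₗ pc.symm.toLinearMap
  have hgsurj : Function.Surjective g := by
    have h1 : Function.Surjective (N.mkQ.baseChange (S ⧸ I)) := by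
      rw [LinearMap.baseChange_eq_ltensor]
      exact LinearMap.lTensor_surjective _ N.mkQ_surjective
    exact h1.comp pc.symm.surjective
  -- compatibility of τ' with the base change of τ
  have hcomp : pc.toLinearMap ∘ₗ (τ.baseChange (S ⧸ I)) = τ' ∘ₗ pr.toLinearMap := by
    apply TensorProduct.AlgebraTensorModule.curry_injective
    apply LinearMap.ext_ring
    apply LinearMap.pi_ext'
    intro j
    apply LinearMap.ext_ring
    ext i
    simp only [TensorProduct.AlgebraTensorModule.curry_apply, LinearMap.restrictScalars_comp,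
      TensorProduct.curry_apply, LinearMap.coe_comp, LinearMap.coe_restrictScalars,
      LinearEquiv.coe_coe, Function.comp_apply, LinearMap.baseChange_tmul, LinearMap.coe_single,
      pc, pr, TensorProduct.piScalarRight_apply, TensorProduct.piScalarRightHom_tmul]
    rw [hτ, hτ', Matrix.vecMulLinear_apply, Matrix.vecMulLinear_apply, Matrix.single_one_vecMul]
    simp only [Matrix.row]
    have hfun : (fun j_1 => ((Pi.single j (1 : S) : Fin r → S) j_1) • (1 : S ⧸ I)) =
        (Pi.single j (1 : S ⧸ I) : Fin r → S ⧸ I) := by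
      funext j'
      by_cases h : j' = j
      · subst h; simp
      · simp [Pi.single_eq_of_ne h]
    rw [hfun, Matrix.single_one_vecMul]
    simp only [Matrix.row, Matrix.map_apply]
    rw [Algebra.smul_def, Ideal.Quotient.algebraMap_eq, mul_one]
  have hex : Function.Exact (τ.baseChange (S ⧸ I)) (N.mkQ.baseChange (S ⧸ I)) := by
    rw [LinearMap.baseChange_eq_ltensor, LinearMap.baseChange_eq_ltensor]
    refine lTensor_exact (S ⧸ I) ?_ N.mkQ_surjective
    intro y
    rw [Set.mem_range]
    constructor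
    · intro hy
      have : y ∈ N := by
        rw [← Submodule.ker_mkQ N]; exact hy
      exact this
    · rintro ⟨w, rfl⟩
      exact (Submodule.Quotient.mk_eq_zero N).2 ⟨w, rfl⟩
  have hker : LinearMap.ker g = LinearMap.range τ' := by
    ext x
    rw [LinearMap.mem_ker, LinearMap.mem_range]
    change N.mkQ.baseChange (S ⧸ I) (pc.symm x) = 0 ↔ _
    rw [hex (pc.symm x), Set.mem_range]
    constructor
    · rintro ⟨y, hy⟩
      refine ⟨pr y, ?_⟩
      have := LinearMap.congr_fun hcomp y
      simp only [LinearMap.coe_comp, LinearEquiv.coe_coe, Function.comp_apply] at this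
      rw [← this, hy, LinearEquiv.apply_symm_apply]
    · rintro ⟨w, rfl⟩
      refine ⟨pr.symm w, ?_⟩
      have := LinearMap.congr_fun hcomp (pr.symm w)
      simp only [LinearMap.coe_comp, LinearEquiv.coe_coe, Function.comp_apply,
        LinearEquiv.apply_symm_apply] at this
      rw [← this, LinearEquiv.symm_apply_apply]
  exact ⟨((Submodule.quotEquivOfEq _ _ hker.symm).trans
    (g.quotKerEquivOfSurjective hgsurj)).symm⟩

/-- the matrix of `σ` in the standard bases (rows indexed by the target) -/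
def amat {R : Type u} [CommRing R] {c r : ℕ} (σ : (Fin c → R) →ₗ[R] (Fin r → R)) :
    Matrix (Fin r) (Fin c) R := Matrix.of fun j i => σ (Pi.single i 1) j

theorem apply_eq_sum {R : Type u} [CommRing R] {r : ℕ} (h : (Fin r → R) →ₗ[R] R) (v : Fin r → R) :
    h v = ∑ j, v j * h (Pi.single j 1) := by
  conv_lhs => rw [← Finset.univ_sum_single v]
  rw [map_sum]
  refine Finset.sum_congr rfl fun j _ => ?_
  have : (Pi.single j (v j) : Fin r → R) = v j • Pi.single j 1 := by
    rw [← Pi.single_smul, smul_eq_mul, mul_one]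
  rw [this, map_smul, smul_eq_mul]

/-- `Ext^1` of a module with a two-term free resolution is the cokernel of the transpose -/
theorem nonempty_ext_one_equiv_coker (R : Type u) [CommRing R] (M : Type u) [AddCommGroup M]
    [Module R M] (c r : ℕ) (π : (Fin r → R) →ₗ[R] M) (hπ : Function.Surjective π)
    (σ : (Fin c → R) →ₗ[R] (Fin r → R)) (hσ : Function.Injective σ)
    (hex : LinearMap.range σ = LinearMap.ker π) :
    Nonempty (Abelian.Ext.{u} (ModuleCat.of R M) (ModuleCat.of R R) 1 ≃ₗ[R]
      ((Fin c → R) ⧸ LinearMap.range (amat σ).vecMulLinear)) := by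
  classical
  obtain ⟨e3⟩ := Groth.Agent.Lib.Helper88.ExtLen.nonempty_coker_equiv_ext_one (N := R) π hπ
  let e : (Fin c → R) ≃ₗ[R] LinearMap.ker π :=
    (LinearEquiv.ofInjective σ hσ).trans (LinearEquiv.ofEq _ _ hex)
  have he : ∀ x, ((e x : LinearMap.ker π) : Fin r → R) = σ x := fun x => rfl
  let E : (LinearMap.ker π →ₗ[R] R) ≃ₗ[R] (Fin c → R) :=
    (LinearEquiv.arrowCongr e.symm (LinearEquiv.refl R R)).trans
      ((Pi.basisFun R (Fin c)).constr R).symm
  have hE : ∀ (f : LinearMap.ker π →ₗ[R] R) (i : Fin c), E f i = f (e (Pi.single i 1)) := by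
    intro f i
    simp [E, LinearEquiv.arrowCongr_apply, Module.Basis.constr_symm_apply]
  have hmap : Submodule.map E.toLinearMap
      (LinearMap.range (LinearMap.lcomp R R (LinearMap.ker π).subtype)) =
      LinearMap.range (amat σ).vecMulLinear := by
    ext g
    simp only [Submodule.mem_map, LinearMap.mem_range]
    constructor
    · rintro ⟨f, ⟨h, rfl⟩, rfl⟩
      refine ⟨fun j => h (Pi.single j 1), ?_⟩
      funext i
      rw [Matrix.vecMulLinear_apply]
      change _ = E _ i
      rw [hE, LinearMap.lcomp_apply, Submodule.subtype_apply, he, apply_eq_sum h]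
      simp only [Matrix.vecMul, dotProduct, amat, Matrix.of_apply]
      exact Finset.sum_congr rfl fun j _ => mul_comm _ _
    · rintro ⟨w, rfl⟩
      let h : (Fin r → R) →ₗ[R] R := (Pi.basisFun R (Fin r)).constr R w
      have hh : ∀ j, h (Pi.single j 1) = w j := by
        intro j
        have := (Pi.basisFun R (Fin r)).constr_basis R w j
        rwa [Pi.basisFun_apply] at this
      refine ⟨LinearMap.lcomp R R (LinearMap.ker π).subtype h, ⟨h, rfl⟩, ?_⟩
      funext i
      rw [Matrix.vecMulLinear_apply]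
      change E _ i = _
      rw [hE, LinearMap.lcomp_apply, Submodule.subtype_apply, he, apply_eq_sum h]
      simp only [Matrix.vecMul, dotProduct, amat, Matrix.of_apply, hh]
      exact Finset.sum_congr rfl fun j _ => mul_comm _ _
  exact ⟨e3.symm.trans (Submodule.Quotient.equiv _ _ E hmap)⟩

/-- X1 -/
theorem ext_one_baseChange_quotient (S : Type u) [CommRing S] (I : Ideal S) (M : Type u) [AddCommGroup M] [Module S M] (M' : Type u) [AddCommGroup M'] [Module (S ⧸ I) M'] (c r : ℕ) (π : (Fin r → S) →ₗ[S] M) (hπ : Function.Surjective π) (σ : (Fin c → S) →ₗ[S] (Fin r → S)) (hσ : Function.Injective σ) (hex : LinearMap.range σ = LinearMap.ker π) (π' : (Fin r → S ⧸ I) →ₗ[S ⧸ I] M') (hπ' : Function.Surjective π') (σ' : (Fin c → S ⧸ I) →ₗ[S ⧸ I] (Fin r → S ⧸ I)) (hσ' : Function.Injective σ') (hex' : LinearMap.range σ' = LinearMap.ker π') (hcompat : ∀ (v : Fin c → S) (j : Fin r), σ' (fun i => Ideal.Quotient.mk I (v i)) j = Ideal.Quotient.mk I (σ v j)) : Nonempty (TensorProduct S (S ⧸ I) (Abelian.Ext.{u} (ModuleCat.of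 S M) (ModuleCat.of S S) 1) ≃ₗ[S ⧸ I] Abelian.Ext.{u} (ModuleCat.of (S ⧸ I) M') (ModuleCat.of (S ⧸ I) (S ⧸ I)) 1) := by
  classical
  obtain ⟨e1⟩ := nonempty_ext_one_equiv_coker S M c r π hπ σ hσ hex
  obtain ⟨e2⟩ := nonempty_ext_one_equiv_coker (S ⧸ I) M' c r π' hπ' σ' hσ' hex'
  obtain ⟨e3⟩ := nonempty_baseChange_coker S I c r (amat σ)
  have hA : (amat σ).map (Ideal.Quotient.mk I) = amat σ' := by
    ext j i
    simp only [Matrix.map_apply, amat, Matrix.of_apply]
    rw [← hcompat]
    have hfun : (fun i_1 => (Ideal.Quotient.mk I) ((Pi.single i (1 : S) : Fin c → S) i_1)) =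
        (Pi.single i (1 : S ⧸ I) : Fin c → S ⧸ I) := by
      funext i'
      by_cases h : i' = i
      · subst h; simp
      · simp [Pi.single_eq_of_ne h]
    rw [hfun]
  have hrange : LinearMap.range ((amat σ).map (Ideal.Quotient.mk I)).vecMulLinear =
      LinearMap.range (amat σ').vecMulLinear := by rw [hA]
  exact ⟨(LinearEquiv.baseChange S (S ⧸ I) _ _ e1).trans
    (e3.trans ((Submodule.quotEquivOfEq _ _ hrange).trans e2.symm))⟩

end Groth.Agent.Lib.Helper92.FAdicX1
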