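import Groth.Agent.S11670

/-!
# helper92: cd-version of Faltings' connectedness theorem
-/

set_option autoImplicit false
universe u

namespace Groth.Agent.Lib.Helper92.FaltingsCd

open Groth.Agent.Lib.Helper92 Groth.Agent.Lib.Helper92.HLVT Groth.Agent.Lib.Helper92.ConnDimRing IsLocalRing
open Groth.Agent.Lib.Helper48 PrimeSpectrum Groth.Agent.S11670

/-- cd-version of the Grothendieck–Faltings connectedness bound:
`min(c(R)+1, sdim R) ≤ c(R/a) + cd(R,a) + 1` for a complete Noetherian local ring. -/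
theorem connDim_quotient_ge_of_cdLE (R : Type u) [CommRing R] [IsNoetherianRing R] [IsLocalRing R] [IsAdicComplete (IsLocalRing.maximalIdeal R) R] (a : Ideal R) (ha : a ≠ ⊤) (k : ℕ) (hcda : LocCoh.CdLE R a k) : min (LocCoh.connDim (PrimeSpectrum R) + 1) (LocCoh.subdim (PrimeSpectrum R)) ≤ LocCoh.connDim (PrimeSpectrum (R ⧸ a)) + (k : WithBot ℕ∞) + 1 := by
  classical
  haveI : Nontrivial (R ⧸ a) := Ideal.Quotient.nontrivial_iff.2 ha
  have ham : a ≤ maximalIdeal R := le_maximalIdeal ha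
  have hradm : a.radical ≤ maximalIdeal R := by
    have := Ideal.radical_mono ham
    rwa [(maximalIdeal.isMaximal R).isPrime.radical] at this
  obtain ⟨Z, hZc, hZn, hZd⟩ := exists_candidate (PrimeSpectrum (R ⧸ a))
  rw [hZd]
  by_cases hZe : (Zᶜ).Nonempty
  · -- the disconnected case
    have hnirr : ¬ IrreducibleSpace (PrimeSpectrum (R ⧸ a)) := by
      intro hirr
      apply hZn
      refine ⟨hZe, ?_⟩
      exact ((PreirreducibleSpace.isPreirreducible_univ).open_subset hZc.isOpen_compl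
        (Set.subset_univ _)).isPreconnected
    have hfinT : topologicalKrullDim (PrimeSpectrum (R ⧸ a)) < ⊤ := by
      rw [PrimeSpectrum.topologicalKrullDim_eq_ringKrullDim]
      haveI : IsLocalRing (R ⧸ a) :=
        IsLocalRing.of_surjective' (Ideal.Quotient.mk a) Ideal.Quotient.mk_surjective
      exact ringKrullDim_lt_top
    obtain ⟨hle, hiff⟩ := Groth.Agent.S11667.result (PrimeSpectrum (R ⧸ a)) hfinT
    have hlt : LocCoh.connDim (PrimeSpectrum (R ⧸ a)) < LocCoh.subdim (PrimeSpectrum (R ⧸ a)) :=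
      lt_of_le_of_ne hle (fun h => hnirr (hiff.1 h))
    obtain ⟨A, B, ⟨hA, hB, hAne, hBne, hAB⟩, hsub⟩ :=
      exists_families_of_not_isConnected Z hZc hZn
    have hPA : IsClosed (⋃₀ A) := isClosed_sUnion_of_subset hA
    have hPB : IsClosed (⋃₀ B) := isClosed_sUnion_of_subset hB
    -- the ideals
    set 𝔞' := vanishingIdeal (⋃₀ A) with h𝔞'
    set 𝔟' := vanishingIdeal (⋃₀ B) with h𝔟'
    have hzA : zeroLocus (𝔞' : Set (R ⧸ a)) = ⋃₀ A := by
      rw [zeroLocus_vanishingIdeal_eq_closure, hPA.closure_eq]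
    have hzB : zeroLocus (𝔟' : Set (R ⧸ a)) = ⋃₀ B := by
      rw [zeroLocus_vanishingIdeal_eq_closure, hPB.closure_eq]
    set 𝔞 := 𝔞'.comap (Ideal.Quotient.mk a) with h𝔞
    set 𝔟 := 𝔟'.comap (Ideal.Quotient.mk a) with h𝔟
    have hmapA : 𝔞.map (Ideal.Quotient.mk a) = 𝔞' :=
      Ideal.map_comap_of_surjective _ Ideal.Quotient.mk_surjective _
    have hmapB : 𝔟.map (Ideal.Quotient.mk a) = 𝔟' :=
      Ideal.map_comap_of_surjective _ Ideal.Quotient.mk_surjective _
    have haA : a ≤ 𝔞 := by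
      intro x hx
      rw [h𝔞, Ideal.mem_comap, Ideal.Quotient.eq_zero_iff_mem.2 hx]
      exact zero_mem _
    have haB : a ≤ 𝔟 := by
      intro x hx
      rw [h𝔟, Ideal.mem_comap, Ideal.Quotient.eq_zero_iff_mem.2 hx]
      exact zero_mem _
    -- dimensions
    have hdimA : ringKrullDim (R ⧸ 𝔞) = topologicalKrullDim (⋃₀ A) := by
      have := Groth.Agent.S11669.dim_double_quot a 𝔞
      rw [sup_eq_right.2 haA, hmapA] at this
      rw [← this, ← Groth.Agent.S11680.dim_zeroLocus, hzA]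
    have hdimB : ringKrullDim (R ⧸ 𝔟) = topologicalKrullDim (⋃₀ B) := by
      have := Groth.Agent.S11669.dim_double_quot a 𝔟
      rw [sup_eq_right.2 haB, hmapB] at this
      rw [← this, ← Groth.Agent.S11680.dim_zeroLocus, hzB]
    have hdimAB : ringKrullDim (R ⧸ (𝔞 ⊔ 𝔟)) = topologicalKrullDim ↥(⋃₀ A ∩ ⋃₀ B) := by
      have := Groth.Agent.S11669.dim_double_quot a (𝔞 ⊔ 𝔟)
      rw [sup_eq_right.2 (haA.trans le_sup_left), Ideal.map_sup, hmapA, hmapB] at this
      rw [← this, ← Groth.Agent.S11680.dim_zeroLocus]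
      have hz : zeroLocus ((𝔞' ⊔ 𝔟' : Ideal (R ⧸ a)) : Set (R ⧸ a)) = ⋃₀ A ∩ ⋃₀ B := by
        rw [← hzA, ← hzB]
        ext x
        simp only [mem_zeroLocus, SetLike.coe_subset_coe, Set.mem_inter_iff, sup_le_iff]
      rw [hz]
    have hsubA : LocCoh.subdim (PrimeSpectrum (R ⧸ a)) ≤ ringKrullDim (R ⧸ 𝔞) := by
      obtain ⟨C, hC⟩ := hAne
      rw [hdimA]
      exact (iInf₂_le C (hA hC)).trans (dim_mono (Set.subset_sUnion_of_mem hC))
    have hsubB : LocCoh.subdim (PrimeSpectrum (R ⧸ a)) ≤ ringKrullDim (R ⧸ 𝔟) := by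
      obtain ⟨C, hC⟩ := hBne
      rw [hdimB]
      exact (iInf₂_le C (hB hC)).trans (dim_mono (Set.subset_sUnion_of_mem hC))
    have hδ : ringKrullDim (R ⧸ (𝔞 ⊔ 𝔟)) ≤ topologicalKrullDim Z := by
      rw [hdimAB]
      exact dim_mono hsub
    have hδlt : ringKrullDim (R ⧸ (𝔞 ⊔ 𝔟)) < LocCoh.subdim (PrimeSpectrum (R ⧸ a)) := by
      rw [hZd] at hlt
      exact lt_of_le_of_lt hδ hlt
    -- properness
    have hAtop : 𝔞 ≠ ⊤ := by
      intro h
      have h1 : ringKrullDim (R ⧸ 𝔞) = ⊥ := by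
        rw [h]
        exact ringKrullDim_eq_bot_of_subsingleton
      rw [h1] at hsubA
      exact absurd (lt_of_lt_of_le hδlt hsubA) (not_lt_bot)
    have hBtop : 𝔟 ≠ ⊤ := by
      intro h
      have h1 : ringKrullDim (R ⧸ 𝔟) = ⊥ := by
        rw [h]
        exact ringKrullDim_eq_bot_of_subsingleton
      rw [h1] at hsubB
      exact absurd (lt_of_lt_of_le hδlt hsubB) (not_lt_bot)
    -- the cohomological dimension
    have hrad : (𝔞 ⊓ 𝔟).radical = a.radical := by
      apply le_antisymm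
      · rw [Ideal.radical_le_radical_iff, Ideal.radical_eq_sInf a]
        refine le_sInf fun Q ⟨hle, hQ⟩ => ?_
        have hQ' : (Q.map (Ideal.Quotient.mk a)).IsPrime :=
          Ideal.isPrime_map_quotientMk_of_isPrime hle
        have hcm : (Q.map (Ideal.Quotient.mk a)).comap (Ideal.Quotient.mk a) = Q := by
          rw [Ideal.comap_map_of_surjective _ Ideal.Quotient.mk_surjective,
            ← RingHom.ker_eq_comap_bot, Ideal.mk_ker, sup_eq_left.2 hle]
        have hx : (⟨Q.map (Ideal.Quotient.mk a), hQ'⟩ : PrimeSpectrum (R ⧸ a)) ∈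
            ⋃₀ A ∪ ⋃₀ B := by
          rw [← Set.sUnion_union, hAB, sUnion_irreducibleComponents]
          exact Set.mem_univ _
        rcases hx with hx | hx
        · rw [← hzA, mem_zeroLocus, SetLike.coe_subset_coe] at hx
          have := Ideal.comap_mono (f := Ideal.Quotient.mk a) hx
          rw [hcm] at this
          exact inf_le_left.trans this
        · rw [← hzB, mem_zeroLocus, SetLike.coe_subset_coe] at hx
          have := Ideal.comap_mono (f := Ideal.Quotient.mk a) hx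
          rw [hcm] at this
          exact inf_le_right.trans this
      · exact Ideal.radical_mono (le_inf haA haB)
    have hcd : LocCoh.CdLE R (𝔞 ⊓ 𝔟) k := cdLE_of_radical_eq hrad.symm _ hcda
    have hmain := Groth.Agent.S11669.result R 𝔞 𝔟 hAtop hBtop
      (lt_min (lt_of_lt_of_le hδlt hsubA) (lt_of_lt_of_le hδlt hsubB)) k hcd
    refine hmain.trans ?_
    exact add_le_add_left (add_le_add_left hδ _) _
  · -- `Z` is everything
    rw [Set.not_nonempty_iff_eq_empty, Set.compl_empty_iff] at hZe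
    rw [hZe, dim_univ_eq, PrimeSpectrum.topologicalKrullDim_eq_ringKrullDim]
    obtain ⟨p, hp, -⟩ := Ideal.exists_minimalPrimes_le (I := (⊥ : Ideal R))
      (J := maximalIdeal R) bot_le
    have hpp : p.IsPrime := hp.1.1
    haveI : Nontrivial (R ⧸ p) := Ideal.Quotient.nontrivial_iff.2 hpp.ne_top
    haveI : IsLocalRing (R ⧸ p) :=
      IsLocalRing.of_surjective' (Ideal.Quotient.mk p) Ideal.Quotient.mk_surjective
    have hcdq := cdLE_quotient a k hcda p
    have hne : a.map (Ideal.Quotient.mk p) ≠ ⊤ := Groth.Agent.S11669.map_ne_top a p ha hpp.ne_top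
    have h1 := dim_le_cd_add_dim (a.map (Ideal.Quotient.mk p)) hne k hcdq
    rw [Groth.Agent.S11669.dim_double_quot p a] at h1
    have h2 : ringKrullDim (R ⧸ (p ⊔ a)) ≤ ringKrullDim (R ⧸ a) := dim_quotient_anti le_sup_right
    refine (min_le_right _ _).trans ((subdim_le_of_minimalPrime p hp).trans ?_)
    refine (h1.trans (add_le_add_right h2 _)).trans ?_
    rw [add_comm (k : WithBot ℕ∞)]
    calc ringKrullDim (R ⧸ a) + (k : WithBot ℕ∞)
        = ringKrullDim (R ⧸ a) + (k : WithBot ℕ∞) + 0 := (add_zero _).symm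
      _ ≤ ringKrullDim (R ⧸ a) + (k : WithBot ℕ∞) + 1 := add_le_add_right zero_le_one _

end Groth.Agent.Lib.Helper92.FaltingsCd
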