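import Mathlib.Algebra.Category.ModuleCat.FilteredColimits
import Mathlib.Algebra.Homology.DerivedCategory.Ext.ExactSequences
import Mathlib.Algebra.Category.ModuleCat.Ext.HasExt
import Mathlib.CategoryTheory.Limits.ConcreteCategory.Basic
import Mathlib.Algebra.Category.ModuleCat.Projective
import Mathlib.RingTheory.Noetherian.Basic
import Mathlib.Algebra.Homology.ShortComplex.ModuleCat

open CategoryTheory CategoryTheory.Limits

namespace Groth.Agent.Lib.Helper92.FiltExt

universe u
variable {R : Type u} [CommRing R] {J : Type u} [SmallCategory J] [IsFiltered J]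
  (K : J ⥤ ModuleCat.{u} R) (c : Cocone K)

/-- elementwise characterisation of a filtered colimit cocone of modules -/
structure IsFiltColim : Prop where
  rep : ∀ m : c.pt, ∃ (j : J) (mj : K.obj j), (c.ι.app j).hom mj = m
  eqz : ∀ (j : J) (mj : K.obj j), (c.ι.app j).hom mj = 0 →
    ∃ (k : J) (f : j ⟶ k), (K.map f).hom mj = 0

theorem isFiltColim_of_isColimit (hc : IsColimit c) : IsFiltColim K c where
  rep m := Concrete.isColimit_exists_rep K hc m
  eqz j mj h := by
    have h' : (c.ι.app j) mj = (c.ι.app j) (0 : K.obj j) := by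
      rw [map_zero]; exact h
    obtain ⟨k, f, g, hfg⟩ := Concrete.isColimit_exists_of_rep_eq K hc mj 0 h'
    refine ⟨k, f, ?_⟩
    rw [map_zero] at hfg
    exact hfg

variable {K c}

theorem ι_map (j k : J) (f : j ⟶ k) (x : K.obj j) :
    (c.ι.app k).hom ((K.map f).hom x) = (c.ι.app j).hom x := by
  have := c.w f
  exact congrArg (fun g => g.hom x) this

theorem exists_common_rep (h : IsFiltColim K c) {ι : Type*} (s : Finset ι) (m : ι → c.pt) :
    ∃ (j : J) (mj : ι → K.obj j), ∀ l ∈ s, (c.ι.app j).hom (mj l) = m l := by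
  classical
  induction s using Finset.induction_on with
  | empty => exact ⟨IsFiltered.nonempty.some, fun _ => 0, by simp⟩
  | insert a s ha ih =>
    obtain ⟨j, mj, hj⟩ := ih
    obtain ⟨j', ma, hma⟩ := h.rep (m a)
    refine ⟨IsFiltered.max j j', fun l => if l = a then (K.map (IsFiltered.rightToMax j j')).hom ma
      else (K.map (IsFiltered.leftToMax j j')).hom (mj l), ?_⟩
    intro l hl
    by_cases hla : l = a
    · subst hla
      simp only [if_true]
      rw [ι_map, hma]
    · simp only [hla, if_false]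
      rw [ι_map]
      exact hj l (by simpa [hla] using hl)

theorem exists_common_zero (h : IsFiltColim K c) {ι : Type*} (s : Finset ι) (j : J)
    (mj : ι → K.obj j) (hz : ∀ l ∈ s, (c.ι.app j).hom (mj l) = 0) :
    ∃ (k : J) (f : j ⟶ k), ∀ l ∈ s, (K.map f).hom (mj l) = 0 := by
  classical
  induction s using Finset.induction_on with
  | empty => exact ⟨j, 𝟙 j, by simp⟩
  | insert a s ha ih =>
    obtain ⟨k₁, f₁, h₁⟩ := ih (fun l hl => hz l (Finset.mem_insert_of_mem hl))
    obtain ⟨k₂, f₂, h₂⟩ := h.eqz j (mj a) (hz a (Finset.mem_insert_self a s))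
    obtain ⟨k, g₁, g₂, hg⟩ := IsFiltered.span f₁ f₂
    refine ⟨k, f₁ ≫ g₁, ?_⟩
    intro l hl
    rcases Finset.mem_insert.1 hl with rfl | hl'
    · rw [hg, Functor.map_comp, ModuleCat.comp_apply, h₂, map_zero]
    · rw [Functor.map_comp, ModuleCat.comp_apply, h₁ l hl', map_zero]

end Groth.Agent.Lib.Helper92.FiltExt

namespace Groth.Agent.Lib.Helper92.FiltExt

open CategoryTheory.Abelian

universe u
variable {R : Type u} [CommRing R] {J : Type u} [SmallCategory J] [IsFiltered J]
  (K : J ⥤ ModuleCat.{u} R) (c : Cocone K)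

/-- every `Ext` class into the colimit comes from a finite stage -/
def PropA (N : ModuleCat.{u} R) (i : ℕ) : Prop :=
  ∀ x : Ext.{u} N c.pt i, ∃ (j : J) (xj : Ext.{u} N (K.obj j) i),
    xj.comp (Ext.mk₀ (c.ι.app j)) (add_zero i) = x

/-- an `Ext` class at a finite stage dying in the colimit dies at a later stage -/
def PropB (N : ModuleCat.{u} R) (i : ℕ) : Prop :=
  ∀ (j : J) (xj : Ext.{u} N (K.obj j) i), xj.comp (Ext.mk₀ (c.ι.app j)) (add_zero i) = 0 →
    ∃ (k : J) (f : j ⟶ k), xj.comp (Ext.mk₀ (K.map f)) (add_zero i) = 0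

variable {K c}

theorem propB_zero_of_finite (h : IsFiltColim K c) (N : ModuleCat.{u} R) [Module.Finite R N] :
    PropB K c N 0 := by
  intro j xj hx
  obtain ⟨φ, rfl⟩ := (Ext.mk₀_bijective _ _).2 xj
  rw [Ext.mk₀_comp_mk₀, Ext.mk₀_eq_zero_iff] at hx
  obtain ⟨S, hS⟩ := (Module.Finite.fg_top : (⊤ : Submodule R N).FG)
  obtain ⟨k, f, hk⟩ := exists_common_zero h S j (fun n => φ.hom n) (by
    intro n _
    exact congrArg (fun g => g.hom n) hx)
  refine ⟨k, f, ?_⟩
  rw [Ext.mk₀_comp_mk₀, Ext.mk₀_eq_zero_iff]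
  apply ModuleCat.hom_ext
  apply LinearMap.ext_on_range (v := fun n : S => (n : N))
  · rw [Subtype.range_coe_subtype]
    simpa using hS
  · rintro ⟨n, hn⟩
    exact hk n hn

theorem propA_zero_free (h : IsFiltColim K c) (p : ℕ) :
    PropA K c (ModuleCat.of R (Fin p → R)) 0 := by
  intro x
  obtain ⟨φ, rfl⟩ := (Ext.mk₀_bijective _ _).2 x
  obtain ⟨j, mj, hj⟩ := exists_common_rep h (Finset.univ : Finset (Fin p))
    (fun l => φ.hom (Pi.single l 1))
  refine ⟨j, Ext.mk₀ (ModuleCat.ofHom (Fintype.linearCombination R mj)), ?_⟩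
  rw [Ext.mk₀_comp_mk₀]
  congr 1
  apply ModuleCat.hom_ext
  apply LinearMap.pi_ext'
  intro l
  apply LinearMap.ext_ring
  simp only [ModuleCat.hom_comp, ModuleCat.hom_ofHom, LinearMap.coe_comp, Function.comp_apply,
    LinearMap.coe_single]
  rw [Fintype.linearCombination_apply_single, one_smul]
  exact hj l (Finset.mem_univ l)

theorem propA_succ_of_projective (N : ModuleCat.{u} R) [Projective N] (i : ℕ) :
    PropA K c N (i + 1) := by
  intro x
  refine ⟨IsFiltered.nonempty.some, 0, ?_⟩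
  rw [Ext.zero_comp, Ext.eq_zero_of_projective x]

theorem propB_succ_of_projective (N : ModuleCat.{u} R) [Projective N] (i : ℕ) :
    PropB K c N (i + 1) := by
  intro j xj _
  refine ⟨j, 𝟙 j, ?_⟩
  rw [Ext.eq_zero_of_projective xj, Ext.zero_comp]

end Groth.Agent.Lib.Helper92.FiltExt

namespace Groth.Agent.Lib.Helper92.FiltExt

open CategoryTheory.Abelian

universe u
variable {R : Type u} [CommRing R] {J : Type u} [SmallCategory J] [IsFiltered J]
  {K : J ⥤ ModuleCat.{u} R} {c : Cocone K}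
  {S : ShortComplex (ModuleCat.{u} R)} (hS : S.ShortExact)

include hS in
theorem propA_zero_of_ses (hA : PropA K c S.X₂ 0) (hB : PropB K c S.X₁ 0) :
    PropA K c S.X₃ 0 := by
  intro x
  obtain ⟨j, yj, hyj⟩ := hA ((Ext.mk₀ S.g).comp x (zero_add 0))
  have h0 : ((Ext.mk₀ S.f).comp yj (zero_add 0)).comp (Ext.mk₀ (c.ι.app j)) (add_zero 0) = 0 := by
    rw [Ext.comp_assoc _ _ _ (zero_add 0) (add_zero 0) (by omega), hyj,
      ← Ext.comp_assoc _ _ _ (zero_add 0) (zero_add 0) (by omega), Ext.mk₀_comp_mk₀, S.zero,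
      Ext.mk₀_zero, Ext.zero_comp]
  obtain ⟨k, f, hk⟩ := hB j _ h0
  rw [Ext.comp_assoc _ _ _ (zero_add 0) (add_zero 0) (by omega)] at hk
  obtain ⟨xk, hxk⟩ := Ext.contravariant_sequence_exact₂ hS _ _ hk
  refine ⟨k, xk, ?_⟩
  have := hS.epi_g
  apply Ext.precomp_mk₀_injective_of_epi c.pt S.g
  change (Ext.mk₀ S.g).comp (xk.comp (Ext.mk₀ (c.ι.app k)) (add_zero 0)) (zero_add 0) =
    (Ext.mk₀ S.g).comp x (zero_add 0)
  rw [← Ext.comp_assoc _ _ _ (zero_add 0) (add_zero 0) (by omega), hxk,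
    Ext.comp_assoc _ _ _ (add_zero 0) (add_zero 0) (by omega), Ext.mk₀_comp_mk₀, c.w f, hyj]

include hS in
theorem propA_succ_of_ses [Projective S.X₂] (i : ℕ) (hA : PropA K c S.X₁ i) :
    PropA K c S.X₃ (i + 1) := by
  intro x
  obtain ⟨y, hy⟩ := Ext.contravariant_sequence_exact₃ hS _ x (Ext.eq_zero_of_projective _)
    (add_comm 1 i)
  obtain ⟨j, yj, rfl⟩ := hA y
  refine ⟨j, hS.extClass.comp yj (add_comm 1 i), ?_⟩
  rw [Ext.comp_assoc _ _ _ (add_comm 1 i) (add_zero i) (by omega), hy]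

include hS in
theorem propB_succ_of_ses [Projective S.X₂] (i : ℕ) (hB : PropB K c S.X₁ i)
    (hA : PropA K c S.X₂ i) : PropB K c S.X₃ (i + 1) := by
  intro j xj hx
  obtain ⟨yj, rfl⟩ := Ext.contravariant_sequence_exact₃ hS _ xj (Ext.eq_zero_of_projective _)
    (add_comm 1 i)
  rw [Ext.comp_assoc _ _ _ (add_comm 1 i) (add_zero i) (by omega)] at hx
  obtain ⟨z, hz⟩ := Ext.contravariant_sequence_exact₁ hS _ _ (add_comm 1 i) hx
  obtain ⟨k, zk, rfl⟩ := hA z
  -- common stage
  let m := IsFiltered.max j k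
  let a : j ⟶ m := IsFiltered.leftToMax j k
  let b : k ⟶ m := IsFiltered.rightToMax j k
  have h0 : (yj.comp (Ext.mk₀ (K.map a)) (add_zero i) -
      (Ext.mk₀ S.f).comp (zk.comp (Ext.mk₀ (K.map b)) (add_zero i)) (zero_add i)).comp
        (Ext.mk₀ (c.ι.app m)) (add_zero i) = 0 := by
    rw [sub_eq_add_neg, Ext.add_comp, Ext.neg_comp, ← sub_eq_add_neg,
      Ext.comp_assoc _ _ _ (add_zero i) (add_zero 0) (by omega),
      Ext.mk₀_comp_mk₀, c.w a,
      Ext.comp_assoc _ _ _ (zero_add i) (add_zero i) (by omega),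
      Ext.comp_assoc _ _ _ (add_zero i) (add_zero 0) (by omega), Ext.mk₀_comp_mk₀, c.w b, hz,
      sub_self]
  obtain ⟨n, g, hg⟩ := hB m _ h0
  refine ⟨n, a ≫ g, ?_⟩
  rw [sub_eq_add_neg, Ext.add_comp, Ext.neg_comp, ← sub_eq_add_neg, sub_eq_zero,
    Ext.comp_assoc _ _ _ (add_zero i) (add_zero 0) (by omega),
    Ext.mk₀_comp_mk₀, ← Functor.map_comp] at hg
  rw [Ext.comp_assoc _ _ _ (add_comm 1 i) (add_zero i) (by omega), hg,
    Ext.comp_assoc _ _ _ (zero_add i) (add_zero i) (by omega),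
    ← Ext.comp_assoc _ _ _ (add_zero 1) (zero_add i) (by omega), hS.extClass_comp, Ext.zero_comp]

end Groth.Agent.Lib.Helper92.FiltExt

namespace Groth.Agent.Lib.Helper92.FiltExt

open CategoryTheory.Abelian

universe u
variable {R : Type u} [CommRing R] [IsNoetherianRing R] {J : Type u} [SmallCategory J]
  [IsFiltered J] {K : J ⥤ ModuleCat.{u} R} {c : Cocone K}

instance projective_fin (p : ℕ) : Projective (ModuleCat.of R (Fin p → R)) :=
  (IsProjective.iff_projective (R := R) _).1 inferInstance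

/-- `Ext^i(N, -)` commutes with filtered colimits for `N` finitely generated over a
Noetherian ring (elementwise form). -/
theorem propA_propB (h : IsFiltColim K c) (i : ℕ) :
    ∀ (N : ModuleCat.{u} R) [Module.Finite R N], PropA K c N i ∧ PropB K c N i := by
  induction i with
  | zero =>
    intro N _
    refine ⟨?_, propB_zero_of_finite h N⟩
    obtain ⟨p, f, hf⟩ := Module.Finite.exists_fin' R N
    have hS := LinearMap.shortExact_shortComplexKer hf
    exact propA_zero_of_ses hS (propA_zero_free h p)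
      (propB_zero_of_finite h (ModuleCat.of R (LinearMap.ker f)))
  | succ i ih =>
    intro N _
    obtain ⟨p, f, hf⟩ := Module.Finite.exists_fin' R N
    have hS := LinearMap.shortExact_shortComplexKer hf
    have : Projective (LinearMap.shortComplexKer f).X₂ := projective_fin p
    have hK := ih (ModuleCat.of R (LinearMap.ker f))
    refine ⟨propA_succ_of_ses hS i hK.1, propB_succ_of_ses hS i hK.2 ?_⟩
    rcases i with _ | i
    · exact propA_zero_free h p
    · exact propA_succ_of_projective _ i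

end Groth.Agent.Lib.Helper92.FiltExt
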