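import Groth.Agent.Lib.Helper92.GrIndPos
import Groth.Agent.Lib.Helper8.GrLCCompareRows
import Groth.Agent.Lib.Helper8.GrLCAinv
import Groth.Agent.Lib.Helper24.ExtReesG
import Groth.Agent.Lib.Helper98.CechRestrict
import Groth.Agent.Lib.Helper92.LocCohLoc

/-!
# Local cohomology of the extended Rees algebra versus the associated graded ring

`H^q_{G_+}(G) = 0 ⇒ H^q_{F^1}(A) = 0` for `q ≥ 1` (used for S19481).
-/

set_option autoImplicit false
set_option linter.unusedSectionVars false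
set_option maxHeartbeats 400000
universe u

open DirectSum GrLC LaurentPolynomial FiltBl
open Groth.Agent.Lib.Helper30
open Groth.Agent.Lib.Helper8.GrLCBase Groth.Agent.Lib.Helper8.GrLCLES
open Groth.Agent.Lib.Helper8.GrLCProd Groth.Agent.Lib.Helper8.GrLCShift
open Groth.Agent.Lib.Helper8.GrLCInd Groth.Agent.Lib.Helper8.GrLCAinv
open Groth.Agent.Lib.Helper24.ExtRees
open CategoryTheory

namespace Groth.Agent.Lib.Helper92.FiltLC

section Retract

variable {R : Type u} [CommRing R]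

/-- local cohomology of a retract of a module with vanishing local cohomology vanishes -/
theorem subsingleton_H_of_retract (I : Ideal R) (q : ℕ) {M N : Type u} [AddCommGroup M] [Module R M]
    [AddCommGroup N] [Module R N] (i : M →ₗ[R] N) (r : N →ₗ[R] M) (h : ∀ m, r (i m) = m)
    (hN : Subsingleton (LocCoh.H I q N)) : Subsingleton (LocCoh.H I q M) := by
  have key : ∀ x : LocCoh.H I q M, x = 0 := by
    intro x
    have h1 : ModuleCat.ofHom i ≫ ModuleCat.ofHom r = 𝟙 (ModuleCat.of R M) := by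
      ext m
      exact h m
    have h2 : ((localCohomology I q).map (ModuleCat.ofHom i ≫ ModuleCat.ofHom r)).hom x = x := by
      rw [h1, CategoryTheory.Functor.map_id]
      rfl
    rw [Functor.map_comp] at h2
    have h3 : ((localCohomology I q).map (ModuleCat.ofHom i)).hom x = 0 := Subsingleton.elim _ _
    rw [← h2]
    change ((localCohomology I q).map (ModuleCat.ofHom r)).hom
      (((localCohomology I q).map (ModuleCat.ofHom i)).hom x) = 0
    rw [h3, map_zero]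
  exact ⟨fun x y => by rw [key x, key y]⟩

theorem subsingleton_H_of_equiv (I : Ideal R) (q : ℕ) {M N : Type u} [AddCommGroup M] [Module R M]
    [AddCommGroup N] [Module R N] (e : M ≃ₗ[R] N)
    (hN : Subsingleton (LocCoh.H I q N)) : Subsingleton (LocCoh.H I q M) :=
  subsingleton_H_of_retract I q e.toLinearMap e.symm.toLinearMap (fun m => e.symm_apply_apply m) hN

end Retract

section Main

variable {A : Type u} [CommRing A] (𝓕 : FiltBl.IdealFiltration A)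

/-- generators of the ideal of positive degree elements of the extended Rees algebra -/
def posSet : Set 𝓕.extRees :=
  {x : 𝓕.extRees | ∃ n : ℤ, 0 < n ∧ ∃ a : A, (x : A[T;T⁻¹]) = C a * T n}

theorem mem_gr_iff (n : ℤ) (x : 𝓕.extRees) :
    x ∈ gr 𝓕 n ↔ (x : A[T;T⁻¹]) = C ((x : A[T;T⁻¹]).coeff n) * T n := by
  constructor
  · intro hx
    have h := coe_decompose_gr 𝓕 x n
    rw [DirectSum.decompose_of_mem_same _ hx, single_eq_C_mul_T] at h
    exact h
  · intro hx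
    change (x : A[T;T⁻¹]) ∈ AddMonoidAlgebra.grade A n
    rw [hx, ← single_eq_C_mul_T]
    exact AddMonoidAlgebra.single_mem_grade _ _

theorem coeff_C_mul_T (a : A) (n : ℤ) : (C a * T n : A[T;T⁻¹]).coeff n = a := by
  rw [← single_eq_C_mul_T, AddMonoidAlgebra.coeff_single, Finsupp.single_eq_same]

theorem posSet_mem_gr {x : 𝓕.extRees} (hx : x ∈ posSet 𝓕) : ∃ n : ℤ, 0 < n ∧ x ∈ gr 𝓕 n := by
  obtain ⟨n, hn, a, hxa⟩ := hx
  refine ⟨n, hn, ?_⟩
  rw [mem_gr_iff, hxa, coeff_C_mul_T]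

theorem mem_posSet_of_mem_gr {n : ℤ} (hn : 0 < n) {r : 𝓕.extRees} (hr : r ∈ gr 𝓕 n) :
    r ∈ posSet 𝓕 :=
  ⟨n, hn, _, (mem_gr_iff 𝓕 n r).mp hr⟩

/-- the ideal generated by the elements of positive degree, as a homogeneous ideal -/
noncomputable def posH : HomogeneousIdeal (gr 𝓕) :=
  ⟨Ideal.span (posSet 𝓕), Ideal.homogeneous_span (gr 𝓕) (posSet 𝓕) (fun x hx => by
    obtain ⟨n, _, hxn⟩ := posSet_mem_gr 𝓕 hx
    exact ⟨n, hxn⟩)⟩

theorem posH_toIdeal : (posH 𝓕).toIdeal = Ideal.span (posSet 𝓕) := rfl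

theorem posH_hRp : ∀ n : ℤ, 0 < n → ∀ r ∈ gr 𝓕 n, r ∈ (posH 𝓕).toIdeal :=
  fun _ hn _ hr => Ideal.subset_span (mem_posSet_of_mem_gr 𝓕 hn hr)

theorem posH_hgen : ∀ (Y : Type u) [AddCommGroup Y] [Module 𝓕.extRees Y],
    (∀ (k : ℤ) (x : 𝓕.extRees), 0 < k → x ∈ gr 𝓕 k → x ∈ (posH 𝓕).toIdeal → ∀ y : Y, x • y = 0) →
    gam (posH 𝓕).toIdeal Y = ⊤ := by
  intro Y _ _ h
  rw [eq_top_iff]
  intro y _
  refine ⟨1, fun r hr => ?_⟩
  rw [pow_one, posH_toIdeal] at hr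
  induction hr using Submodule.span_induction with
  | mem x hx =>
    obtain ⟨n, hn, hxn⟩ := posSet_mem_gr 𝓕 hx
    exact h n x hn hxn (Ideal.subset_span hx) y
  | zero => exact zero_smul _ _
  | add a b _ _ ha hb => rw [add_smul, ha, hb, add_zero]
  | smul c x _ hx => rw [smul_eq_mul, mul_smul, hx, smul_zero]

/-- the extended Rees algebra as a graded module over itself -/
noncomputable def selfG : GMod.{u} (gr 𝓕) := GMod.of (gr 𝓕) 𝓕.extRees (gr 𝓕)

theorem u_mem_gr : 𝓕.u ∈ gr 𝓕 (-1) := by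
  change (T (-1) : A[T;T⁻¹]) ∈ AddMonoidAlgebra.grade A (-1)
  exact AddMonoidAlgebra.single_mem_grade _ _

theorem span_u_homogeneous' : (Ideal.span {𝓕.u}).IsHomogeneous (gr 𝓕) :=
  Ideal.homogeneous_span (gr 𝓕) {𝓕.u} (by
    rintro _ rfl
    exact ⟨-1, u_mem_gr 𝓕⟩)

/-- the ideal `(u)` as a submodule of the carrier of `selfG` -/
noncomputable def spanU : Submodule 𝓕.extRees (selfG 𝓕).carrier := (Ideal.span {𝓕.u} : Ideal 𝓕.extRees)

theorem mem_spanU (m : 𝓕.extRees) : m ∈ spanU 𝓕 ↔ m ∈ Ideal.span {𝓕.u} := Iff.rfl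

theorem span_u_homogeneous : (spanU 𝓕).IsHomogeneous (selfG 𝓕).gr :=
  span_u_homogeneous' 𝓕

/-- the associated graded ring as a graded module over the extended Rees algebra -/
noncomputable abbrev grG : GMod.{u} (gr 𝓕) := Q (selfG 𝓕) (spanU 𝓕) (span_u_homogeneous 𝓕)

end Main

section Graded

variable {A : Type u} [CommRing A] (𝓕 : FiltBl.IdealFiltration A)
  [IsNoetherianRing 𝓕.extRees]

/-- vanishing in high degrees of the graded local cohomology of the extended Rees algebra -/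
theorem vanish_high_extRees :
    ∃ r : ℤ, ∀ (i : ℕ) (n : ℤ), r ≤ n → VanM (posH 𝓕) (selfG 𝓕).gr i n := by
  exact Groth.Agent.Lib.Helper92.GrIndPos.vanish_high_pos (posH 𝓕) (posH_hRp 𝓕) (posH_hgen 𝓕)
    (selfG 𝓕) (Module.Finite.self 𝓕.extRees)

/-- the short exact sequence `0 → R'(1) → R' → G → 0` -/
theorem ses_u : SES (shiftGr (selfG 𝓕).gr (-(-1 : ℤ))) (selfG 𝓕).gr (grG 𝓕).gr
    (𝓕.u • (LinearMap.id : (selfG 𝓕).carrier →ₗ[𝓕.extRees] (selfG 𝓕).carrier))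
    (Qmk (selfG 𝓕) (spanU 𝓕) (span_u_homogeneous 𝓕)) := by
  refine ses_regular (ℳ := (selfG 𝓕).gr) (𝒩 := (grG 𝓕).gr) (x := 𝓕.u) (k := (-1 : ℤ))
    (u_mem_gr 𝓕) (u_regular 𝓕) _ (Qmk_surjective (span_u_homogeneous 𝓕))
    (Qmk_gr (span_u_homogeneous 𝓕)) ?_
  apply le_antisymm
  · intro m hm
    have hm' : m ∈ spanU 𝓕 :=
      (Qmk_eq_zero (span_u_homogeneous 𝓕) m).mp (LinearMap.mem_ker.mp hm)
    obtain ⟨c, hc⟩ := Ideal.mem_span_singleton'.mp ((mem_spanU 𝓕 m).mp hm')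
    refine ⟨c, ?_⟩
    rw [← hc, mul_comm]
    rfl
  · rintro _ ⟨c, rfl⟩
    rw [LinearMap.mem_ker, Qmk_eq_zero]
    exact (mem_spanU 𝓕 _).mpr (Ideal.mem_span_singleton'.mpr ⟨c, mul_comm _ _⟩)

/-- graded vanishing for `G` in all degrees gives graded vanishing for the extended Rees algebra -/
theorem vanM_extRees_of_vanM_gr (q : ℕ)
    (hG : ∀ g : ℤ, VanM (posH 𝓕) (grG 𝓕).gr q g) :
    ∀ g : ℤ, VanM (posH 𝓕) (selfG 𝓕).gr q g := by
  obtain ⟨r, hr⟩ := vanish_high_extRees 𝓕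
  have step : ∀ g : ℤ, VanM (posH 𝓕) (selfG 𝓕).gr q (g + 1) → VanM (posH 𝓕) (selfG 𝓕).gr q g := by
    intro g hg1
    refine les_mid (posH 𝓕) (ses_u 𝓕) q g ?_ (hG g)
    rw [vanM_shift, neg_neg]
    exact hg1
  have main : ∀ (n : ℕ) (g : ℤ), r ≤ g + n → VanM (posH 𝓕) (selfG 𝓕).gr q g := by
    intro n
    induction n with
    | zero =>
      intro g hg
      exact hr q g (by simpa using hg)
    | succ n ih =>
      intro g hg
      apply step g
      apply ih (g + 1)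
      push_cast at hg
      omega
  intro g
  exact main (r - g).toNat g (by omega)

end Graded

section Ungraded

variable {A : Type u} [CommRing A] [IsNoetherianRing A] (𝓕 : FiltBl.IdealFiltration A)
  [IsNoetherianRing 𝓕.extRees]

/-- `H^q_{G_+}(G) = 0` over `G` gives `H^q_N(G) = 0` over the extended Rees algebra
(for the graded model of `G`). -/
theorem subsingleton_H_grG (q : ℕ)
    (hG : Subsingleton (LocCoh.H ((Ideal.span (posSet 𝓕)).map
        (Ideal.Quotient.mk (Ideal.span {𝓕.u}))) q 𝓕.Gr)) :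
    Subsingleton (LocCoh.H (posH 𝓕).toIdeal q (grG 𝓕).carrier) := by
  obtain ⟨φ, -⟩ := Helper98.CechRestrict.lc_restrict (R := 𝓕.extRees) (R' := 𝓕.Gr)
    (Ideal.span (posSet 𝓕)) 𝓕.Gr q
  haveI : Subsingleton (LocCoh.H ((Ideal.span (posSet 𝓕)).map (algebraMap 𝓕.extRees 𝓕.Gr)) q 𝓕.Gr) :=
    hG
  have h1 : Subsingleton (LocCoh.H (Ideal.span (posSet 𝓕)) q 𝓕.Gr) := φ.symm.toEquiv.subsingleton
  let e : (grG 𝓕).carrier ≃ₗ[𝓕.extRees] 𝓕.Gr := LinearEquiv.refl _ _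
  exact subsingleton_H_of_equiv (Ideal.span (posSet 𝓕)) q e h1

theorem map_posIdeal : (Ideal.span (posSet 𝓕)).map (algebraMap 𝓕.extRees A[T;T⁻¹]) =
    (𝓕.F 1).map (algebraMap A A[T;T⁻¹]) := by
  apply le_antisymm
  · rw [Ideal.map_span, Ideal.span_le]
    rintro _ ⟨x, ⟨n, hn, a, hxa⟩, rfl⟩
    rw [algebraMap_extRees_apply, hxa]
    have ha : a ∈ 𝓕.F 1 := by
      have h1 := x.2 n
      rw [hxa, coeff_C_mul_T] at h1
      exact 𝓕.antitone (by omega : 1 ≤ n.toNat) h1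
    exact Ideal.mul_mem_right _ _ (Ideal.mem_map_of_mem _ ha)
  · rw [Ideal.map_le_iff_le_comap]
    intro a ha
    rw [Ideal.mem_comap]
    have hmem : (C a * T 1 : A[T;T⁻¹]) ∈ 𝓕.extRees := by
      rw [← single_eq_C_mul_T]
      exact single_mem_extRees 𝓕 1 a (by simpa using ha)
    have h1 : algebraMap 𝓕.extRees A[T;T⁻¹] ⟨C a * T 1, hmem⟩ ∈
        (Ideal.span (posSet 𝓕)).map (algebraMap 𝓕.extRees A[T;T⁻¹]) :=
      Ideal.mem_map_of_mem _ (Ideal.subset_span ⟨1, one_pos, a, rfl⟩)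
    have h2 : algebraMap A A[T;T⁻¹] a =
        algebraMap 𝓕.extRees A[T;T⁻¹] ⟨C a * T 1, hmem⟩ * T (-1) := by
      rw [algebraMap_extRees_apply, mul_assoc, ← T_add]
      simp
    rw [h2]
    exact Ideal.mul_mem_right _ _ h1

theorem subsingleton_H_laurent (q : ℕ)
    (h : Subsingleton (LocCoh.H (Ideal.span (posSet 𝓕)) q 𝓕.extRees)) :
    haveI : IsNoetherianRing A[T;T⁻¹] :=
      IsLocalization.isNoetherianRing (Submonoid.powers 𝓕.u) _ inferInstance
    Subsingleton (LocCoh.H ((𝓕.F 1).map (algebraMap A A[T;T⁻¹])) q A[T;T⁻¹]) := by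
  haveI : IsNoetherianRing A[T;T⁻¹] :=
    IsLocalization.isNoetherianRing (Submonoid.powers 𝓕.u) _ inferInstance
  have h1 := Groth.Agent.Lib.Helper92.LC.subsingleton_Hloc (Ideal.span (posSet 𝓕)) q 𝓕.u
    𝓕.extRees h
  let e : LocalizedModule (Submonoid.powers 𝓕.u) 𝓕.extRees ≃ₗ[𝓕.extRees] A[T;T⁻¹] :=
    IsLocalizedModule.iso (Submonoid.powers 𝓕.u) (Algebra.linearMap 𝓕.extRees A[T;T⁻¹])
  have h2 : Subsingleton (LocCoh.H (Ideal.span (posSet 𝓕)) q A[T;T⁻¹]) :=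
    subsingleton_H_of_equiv _ q e.symm h1
  obtain ⟨φ, -⟩ := Helper98.CechRestrict.lc_restrict (R := 𝓕.extRees) (R' := A[T;T⁻¹])
    (Ideal.span (posSet 𝓕)) A[T;T⁻¹] q
  rw [← map_posIdeal]
  exact φ.toEquiv.subsingleton

omit [IsNoetherianRing 𝓕.extRees] in
theorem subsingleton_H_of_laurent (I : Ideal A) (q : ℕ) [IsNoetherianRing A[T;T⁻¹]]
    (h : Subsingleton (LocCoh.H (I.map (algebraMap A A[T;T⁻¹])) q A[T;T⁻¹])) :
    Subsingleton (LocCoh.H I q A) := by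
  obtain ⟨φ, -⟩ := Helper98.CechRestrict.lc_restrict (R := A) (R' := A[T;T⁻¹]) I A[T;T⁻¹] q
  have h1 : Subsingleton (LocCoh.H I q A[T;T⁻¹]) := φ.symm.toEquiv.subsingleton
  let r : A[T;T⁻¹] →ₗ[A] A :=
    (Finsupp.lapply (0 : ℤ)) ∘ₗ (AddMonoidAlgebra.coeffLinearEquiv A).toLinearMap
  refine subsingleton_H_of_retract I q (Algebra.linearMap A A[T;T⁻¹]) r ?_ h1
  intro a
  change ((algebraMap A A[T;T⁻¹] a).coeff : ℤ →₀ A) 0 = a
  rw [LaurentPolynomial.algebraMap_apply, Algebra.algebraMap_self, RingHom.id_apply,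
    LaurentPolynomial.C_apply]
  simp

/-- **Main theorem** -/
theorem main (q : ℕ)
    (hG : Subsingleton (LocCoh.H ((Ideal.span (posSet 𝓕)).map
        (Ideal.Quotient.mk (Ideal.span {𝓕.u}))) q 𝓕.Gr)) :
    Subsingleton (LocCoh.H (𝓕.F 1) q A) := by
  have h1 := subsingleton_H_grG 𝓕 q hG
  have h2 : ∀ g : ℤ, VanM (posH 𝓕) (grG 𝓕).gr q g :=
    (Groth.Agent.Lib.Helper8.GrLCCompareRows.subsingleton_iff_vanM (M := (grG 𝓕).carrier)
      (ℳ := (grG 𝓕).gr) (posH 𝓕) q).mp h1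
  have h3 := vanM_extRees_of_vanM_gr 𝓕 q h2
  have h4 : Subsingleton (LocCoh.H (posH 𝓕).toIdeal q (selfG 𝓕).carrier) :=
    (Groth.Agent.Lib.Helper8.GrLCCompareRows.subsingleton_iff_vanM (M := (selfG 𝓕).carrier)
      (ℳ := (selfG 𝓕).gr) (posH 𝓕) q).mpr h3
  have h5 : Subsingleton (LocCoh.H (Ideal.span (posSet 𝓕)) q 𝓕.extRees) := h4
  haveI : IsNoetherianRing A[T;T⁻¹] :=
    IsLocalization.isNoetherianRing (Submonoid.powers 𝓕.u) _ inferInstance
  exact subsingleton_H_of_laurent (𝓕.F 1) q (subsingleton_H_laurent 𝓕 q h5)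

end Ungraded

end Groth.Agent.Lib.Helper92.FiltLC
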