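import Mathlib.FieldTheory.IsSepClosed
import Mathlib.FieldTheory.KrullTopology
import Mathlib.Topology.LocallyConstant.Basic
import Mathlib.FieldTheory.Galois.Basic
import Mathlib.FieldTheory.Galois.Infinite
import Mathlib.RingTheory.Trace.Basic

set_option autoImplicit false
universe u

namespace Groth.Agent.Lib.Helper92.GalDescent

variable {K L : Type u} [Field K] [Field L] [Algebra K L]

theorem exists_finite_normal {X : Type*} [Normal K L] (f : (L ≃ₐ[K] L) → X)
    (hf : IsLocallyConstant f) :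
    ∃ E : IntermediateField K L, FiniteDimensional K E ∧ Normal K E ∧
      ∀ τ ∈ E.fixingSubgroup, f τ = f 1 := by
  have hopen : IsOpen {τ | f τ = f 1} := hf.isOpen_fiber (f 1)
  have hmem : {τ | f τ = f 1} ∈ nhds (1 : L ≃ₐ[K] L) := hopen.mem_nhds rfl
  obtain ⟨E, h1, h2, h3⟩ := (krullTopology_mem_nhds_one_iff_of_normal K L _).1 hmem
  exact ⟨E, h1, h2, fun τ hτ => h3 hτ⟩

section
variable [Normal K L] (E : IntermediateField K L) [FiniteDimensional K E] [Normal K E]

/-- restriction to `E` -/
noncomputable def res : (L ≃ₐ[K] L) →* (E ≃ₐ[K] E) := AlgEquiv.restrictNormalHom E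

theorem res_surjective : Function.Surjective (res E) := AlgEquiv.restrictNormalHom_surjective L

/-- chosen lifts -/
noncomputable def lift (s : E ≃ₐ[K] E) : L ≃ₐ[K] L := Function.surjInv (res_surjective E) s

theorem res_lift (s : E ≃ₐ[K] E) : res E (lift E s) = s := Function.surjInv_eq (res_surjective E) s

theorem res_apply (σ : L ≃ₐ[K] L) (z : E) : ((res E σ z : E) : L) = σ (z : L) :=
  AlgEquiv.restrictNormalHom_apply E σ z

theorem inv_mul_mem_fixingSubgroup {σ σ' : L ≃ₐ[K] L} (h : res E σ = res E σ') :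
    σ⁻¹ * σ' ∈ E.fixingSubgroup := by
  rw [← IntermediateField.restrictNormalHom_ker, MonoidHom.mem_ker]
  change res E (σ⁻¹ * σ') = 1
  rw [map_mul, map_inv, h, inv_mul_cancel]

/-- the character of `E` attached to `s` -/
noncomputable def chi (s : E ≃ₐ[K] E) : E →* L :=
  ((algebraMap E L : E →+* L) : E →* L).comp ((s : E ≃* E) : E →* E)

theorem chi_apply (s : E ≃ₐ[K] E) (z : E) : chi E s z = ((s z : E) : L) := rfl

theorem chi_injective : Function.Injective (chi E) := by
  intro s s' h
  ext z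
  have := DFunLike.congr_fun h z
  simpa [chi_apply] using this

theorem exists_sum_ne_zero (A : (E ≃ₐ[K] E) → L) (hA : A 1 ≠ 0) :
    ∃ z : E, ∑ s : E ≃ₐ[K] E, A s * ((s z : E) : L) ≠ 0 := by
  classical
  have hli : LinearIndependent L (fun s : E ≃ₐ[K] E => (chi E s : E → L)) :=
    (linearIndependent_monoidHom E L).comp (chi E) (chi_injective E)
  by_contra hcon
  push_neg at hcon
  have h0 : ∑ s : E ≃ₐ[K] E, A s • (chi E s : E → L) = 0 := by
    funext z
    simp only [Finset.sum_apply, Pi.smul_apply, smul_eq_mul, Pi.zero_apply]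
    exact hcon z
  exact hA (Fintype.linearIndependent_iff.1 hli A h0 1)

end

/-- multiplicative Hilbert 90 for cocycles trivial on an open subgroup -/
theorem mul_coboundary [Normal K L] (a : (L ≃ₐ[K] L) → Lˣ)
    (ha : ∀ σ τ : L ≃ₐ[K] L, a (σ * τ) = a σ * σ • a τ)
    (E : IntermediateField K L) [FiniteDimensional K E] [Normal K E]
    (hE : ∀ τ ∈ E.fixingSubgroup, a τ = 1) :
    ∃ c : Lˣ, ∀ σ : L ≃ₐ[K] L, a σ = c⁻¹ * σ • c := by
  classical
  have fact1 : ∀ σ σ' : L ≃ₐ[K] L, res E σ = res E σ' → a σ' = a σ := by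
    intro σ σ' h
    have hτ := inv_mul_mem_fixingSubgroup E h
    have : σ' = σ * (σ⁻¹ * σ') := by group
    rw [this, ha, hE _ hτ, smul_one, mul_one]
  obtain ⟨z, hz⟩ := exists_sum_ne_zero E (fun s => (a (lift E s) : L)) (Units.ne_zero _)
  set β : L := ∑ s : E ≃ₐ[K] E, (a (lift E s) : L) * ((s z : E) : L) with hβ
  have key : ∀ g : L ≃ₐ[K] L, (a g : L) * g β = β := by
    intro g
    rw [hβ, map_sum, Finset.mul_sum]
    rw [← Fintype.sum_equiv (Equiv.mulLeft (res E g)) (fun s => (a g : L) * g ((a (lift E s) : L) * ((s z : E) : L)))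
      (fun s' => (a (lift E s') : L) * ((s' z : E) : L))]
    intro s
    rw [map_mul, ← mul_assoc]
    have h1 : a (g * lift E s) = a (lift E (res E g * s)) := by
      apply fact1
      rw [res_lift, map_mul, res_lift]
    have h2 : (a (g * lift E s) : L) = (a g : L) * g (a (lift E s) : L) := by
      rw [ha]
      rfl
    have h3 : g (((s z : E)) : L) = (((res E g * s) z : E) : L) := by
      rw [← res_apply E g (s z)]
      rfl
    rw [Equiv.coe_mulLeft, ← h1, h2, h3]
  refine ⟨(Units.mk0 β hz)⁻¹, fun g => ?_⟩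
  rw [inv_inv]
  ext
  have hgβ : g β ≠ 0 := by
    simpa using hz
  have h4 : ((g • (Units.mk0 β hz)⁻¹ : Lˣ) : L) = (g β)⁻¹ := by
    change g ((Units.mk0 β hz)⁻¹ : Lˣ) = _
    rw [Units.val_inv_eq_inv_val, map_inv₀]
    rfl
  rw [Units.val_mul, h4, Units.val_mk0]
  rw [eq_mul_inv_iff_mul_eq₀ hgβ]
  exact key g

/-- additive Hilbert 90 for cocycles trivial on an open subgroup -/
theorem add_coboundary [IsGalois K L] (a : (L ≃ₐ[K] L) → L)
    (ha : ∀ σ τ : L ≃ₐ[K] L, a (σ * τ) = a σ + σ (a τ))
    (E : IntermediateField K L) [FiniteDimensional K E] [Normal K E]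
    (hE : ∀ τ ∈ E.fixingSubgroup, a τ = 0) :
    ∃ y : L, ∀ σ : L ≃ₐ[K] L, a σ = σ y - y := by
  classical
  have fact1 : ∀ σ σ' : L ≃ₐ[K] L, res E σ = res E σ' → a σ' = a σ := by
    intro σ σ' h
    have hτ := inv_mul_mem_fixingSubgroup E h
    have : σ' = σ * (σ⁻¹ * σ') := by group
    rw [this, ha, hE _ hτ, map_zero, add_zero]
  haveI : Algebra.IsSeparable K E := Algebra.isSeparable_tower_bot_of_isSeparable K E L
  haveI : IsGalois K E := { }
  obtain ⟨z, hz⟩ := Algebra.trace_surjective K E 1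
  have hsum : ∑ s : E ≃ₐ[K] E, ((s z : E) : L) = 1 := by
    have h1 := trace_eq_sum_automorphisms (K := K) (L := E) z
    rw [hz, map_one] at h1
    have h2 := congrArg (algebraMap E L) h1
    rw [map_one, map_sum] at h2
    exact h2.symm
  set β : L := ∑ s : E ≃ₐ[K] E, a (lift E s) * ((s z : E) : L) with hβ
  have key : ∀ g : L ≃ₐ[K] L, g β = β - a g := by
    intro g
    have hterm : ∀ s : E ≃ₐ[K] E, g (a (lift E s) * ((s z : E) : L)) =
        a (lift E (res E g * s)) * (((res E g * s) z : E) : L) - a g * (((res E g * s) z : E) : L) := by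
      intro s
      have h1 : a (g * lift E s) = a (lift E (res E g * s)) := by
        apply fact1
        rw [res_lift, map_mul, res_lift]
      have h3 : g (((s z : E)) : L) = (((res E g * s) z : E) : L) := by
        rw [← res_apply E g (s z)]
        rfl
      rw [map_mul, h3, ← h1, ha]
      ring
    rw [hβ, map_sum, Finset.sum_congr rfl (fun s _ => hterm s), Finset.sum_sub_distrib,
      ← Finset.mul_sum]
    rw [Fintype.sum_equiv (Equiv.mulLeft (res E g))
      (fun s => a (lift E (res E g * s)) * (((res E g * s) z : E) : L))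
      (fun s' => a (lift E s') * ((s' z : E) : L)) (fun s => rfl)]
    rw [Fintype.sum_equiv (Equiv.mulLeft (res E g))
      (fun s => (((res E g * s) z : E) : L))
      (fun s' => ((s' z : E) : L)) (fun s => rfl)]
    rw [hsum, mul_one]
  refine ⟨-β, fun g => ?_⟩
  rw [map_neg, key g]
  ring

end Groth.Agent.Lib.Helper92.GalDescent
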