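import Mathlib

/-!
# helper92: integral closure of an `ℕ`-graded domain — the conductor is homogeneous

For an `ℕ`-graded domain `G` with fraction field `L`, every element of `L` integral over `G` is a sum
of integral "homogeneous fractions".  Consequently the conductor of `G` in its integral closure is a
homogeneous ideal.
-/

set_option autoImplicit false
set_option linter.unusedSectionVars false
universe u v

open Polynomial DirectSum

namespace Groth.Agent.Lib.Helper92.GradedIC

section Coact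

variable {G : Type u} [CommRing G] {σ : Type v} [SetLike σ G] [AddSubgroupClass σ G]
  (𝒢 : ℕ → σ) [GradedRing 𝒢]

/-- The coaction on the direct sum. -/
noncomputable def coactDS : (⨁ i, 𝒢 i) →+* G[X] :=
  DirectSum.toSemiring
    (fun i => ((monomial i : G →ₗ[G] G[X]).toAddMonoidHom).comp (AddSubmonoidClass.subtype (𝒢 i)))
    (by simp [GradedMonoid.GOne.one])
    (by
      intro i j ai aj
      simp [GradedMonoid.GMul.mul, monomial_mul_monomial])

lemma coeff_coactDS (x : ⨁ i, 𝒢 i) (i : ℕ) : (coactDS 𝒢 x).coeff i = (x i : G) := by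
  induction x using DirectSum.induction_on with
  | zero => simp
  | of j y =>
    unfold coactDS
    rw [DirectSum.toSemiring_of]
    simp only [AddMonoidHom.coe_comp, Function.comp_apply]
    change (monomial j (y : G)).coeff i = _
    rw [coeff_monomial]
    by_cases h : j = i
    · subst h
      simp [DirectSum.of_eq_same]
    · rw [if_neg h, DirectSum.of_eq_of_ne _ _ _ (Ne.symm h)]
      simp
  | add x y hx hy =>
    rw [map_add, coeff_add, hx, hy, DirectSum.add_apply]
    simp

/-- The coaction `g ↦ ∑ gᵢ Xⁱ`. -/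
noncomputable def coact : G →+* G[X] :=
  (coactDS 𝒢).comp (DirectSum.decomposeRingEquiv 𝒢).toRingHom

lemma coeff_coact (g : G) (i : ℕ) : (coact 𝒢 g).coeff i = (decompose 𝒢 g i : G) := by
  unfold coact
  simp only [RingHom.coe_comp, Function.comp_apply]
  exact coeff_coactDS 𝒢 _ i

lemma coact_of_mem {g : G} {i : ℕ} (hg : g ∈ 𝒢 i) : coact 𝒢 g = monomial i g := by
  ext n
  rw [coeff_coact, coeff_monomial]
  by_cases h : i = n
  · subst h
    rw [if_pos rfl, decompose_of_mem_same 𝒢 hg]
  · rw [if_neg h, decompose_of_mem_ne 𝒢 hg h]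

lemma eval_one_coact (g : G) : (coact 𝒢 g).eval 1 = g := by
  induction g using DirectSum.Decomposition.inductionOn 𝒢 with
  | zero => simp
  | homogeneous a =>
    rw [coact_of_mem 𝒢 a.2]
    simp
  | add a b ha hb => rw [map_add, eval_add, ha, hb]

lemma coact_injective : Function.Injective (coact 𝒢) := by
  intro a b h
  rw [← eval_one_coact 𝒢 a, ← eval_one_coact 𝒢 b, h]

end Coact

section Frac

variable {G : Type u} [CommRing G] [IsDomain G] {σ : Type v} [SetLike σ G] [AddSubgroupClass σ G]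
  (𝒢 : ℕ → σ) [GradedRing 𝒢]
variable (L : Type u) [Field L] [Algebra G L] [IsFractionRing G L]

/-- `G → L[X]`, `g ↦ ∑ gᵢ Xⁱ`. -/
noncomputable def coactL : G →+* L[X] := (mapRingHom (algebraMap G L)).comp (coact 𝒢)

lemma coactL_injective : Function.Injective (coactL 𝒢 L) :=
  (map_injective _ (IsFractionRing.injective G L)).comp (coact_injective 𝒢)

lemma coeff_coactL (g : G) (i : ℕ) :
    (coactL 𝒢 L g).coeff i = algebraMap G L (decompose 𝒢 g i : G) := by
  unfold coactL
  simp [coeff_coact]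

lemma eval_one_coactL (g : G) : (coactL 𝒢 L g).eval 1 = algebraMap G L g := by
  unfold coactL
  simp only [RingHom.coe_comp, Function.comp_apply, coe_mapRingHom]
  rw [← (algebraMap G L).map_one, eval_map, eval₂_hom, eval_one_coact]

omit [IsDomain G] in
lemma exists_lift (K : Type u) [Field K] (Φ : G →+* K) (hΦ : Function.Injective Φ) :
    ∃ φL : L →+* K, φL.comp (algebraMap G L) = Φ := by
  refine ⟨(IsFractionRing.lift hΦ : L →+* K), ?_⟩
  ext g
  exact IsFractionRing.lift_algebraMap hΦ g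

attribute [local instance] Polynomial.algebra in
theorem exists_poly_aux (K : Type u) [Field K] [Algebra L[X] K] [IsFractionRing L[X] K]
    (x : L) (hx : IsIntegral G x) :
    ∃ P : L[X], (∀ n, IsIntegral G (P.coeff n)) ∧
      ∀ a b : G, x * algebraMap G L b = algebraMap G L a → P * coactL 𝒢 L b = coactL 𝒢 L a := by
  classical
  have hj : Function.Injective (algebraMap L[X] K) := IsFractionRing.injective L[X] K
  have hΦ : Function.Injective ((algebraMap L[X] K).comp (coactL 𝒢 L)) :=
    hj.comp (coactL_injective 𝒢 L)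
  obtain ⟨φL, hφL⟩ := exists_lift L K _ hΦ
  obtain ⟨p, hpm, hpe⟩ := hx
  have h0 : eval₂ ((algebraMap L[X] K).comp (coactL 𝒢 L)) (φL x) p = 0 := by
    rw [← hφL, ← hom_eval₂, hpe, map_zero]
  have hint : IsIntegral L[X] (φL x) := by
    refine ⟨p.map (coactL 𝒢 L), hpm.map _, ?_⟩
    rw [eval₂_map]
    exact h0
  obtain ⟨P, hP⟩ := IsIntegrallyClosed.algebraMap_eq_of_integral hint
  refine ⟨P, ?_, ?_⟩
  · have hPint : IsIntegral G[X] P := by
      refine ⟨p.map (coact 𝒢), hpm.map _, ?_⟩
      apply hj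
      rw [map_zero, Polynomial.algebraMap_def, hom_eval₂, eval₂_map, hP]
      exact h0
    exact fun n => hPint.coeff n
  · intro a b hab
    apply hj
    rw [map_mul, hP]
    have h1 : algebraMap L[X] K (coactL 𝒢 L b) = φL (algebraMap G L b) :=
      (RingHom.congr_fun hφL b).symm
    have h2 : algebraMap L[X] K (coactL 𝒢 L a) = φL (algebraMap G L a) :=
      (RingHom.congr_fun hφL a).symm
    rw [h1, h2, ← map_mul, hab]

theorem exists_poly (x : L) (hx : IsIntegral G x) :
    ∃ P : L[X], (∀ n, IsIntegral G (P.coeff n)) ∧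
      ∀ a b : G, x * algebraMap G L b = algebraMap G L a → P * coactL 𝒢 L b = coactL 𝒢 L a :=
  exists_poly_aux 𝒢 L (FractionRing L[X]) x hx

/-- `y` is a fraction of homogeneous elements, of degree `n`. -/
def HF (n : ℕ) (y : L) : Prop :=
  ∃ (m : ℕ) (c s : G), c ∈ 𝒢 (n + m) ∧ s ∈ 𝒢 m ∧ s ≠ 0 ∧ y * algebraMap G L s = algebraMap G L c

variable {𝒢 L}

omit [IsDomain G] [IsFractionRing G L] in
lemma mem_cast {i j : ℕ} (h : i = j) {c : G} (hc : c ∈ 𝒢 i) : c ∈ 𝒢 j := h ▸ hc

omit [IsFractionRing G L] in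
lemma HF.zero (n : ℕ) : HF 𝒢 L n 0 :=
  ⟨0, 0, 1, zero_mem _, SetLike.GradedOne.one_mem, one_ne_zero, by simp⟩

omit [IsFractionRing G L] in
lemma HF.of_mem {n : ℕ} {c : G} (hc : c ∈ 𝒢 n) : HF 𝒢 L n (algebraMap G L c) :=
  ⟨0, c, 1, hc, SetLike.GradedOne.one_mem, one_ne_zero, by simp⟩

omit [IsFractionRing G L] in
lemma HF.add {n : ℕ} {y y' : L} (h : HF 𝒢 L n y) (h' : HF 𝒢 L n y') : HF 𝒢 L n (y + y') := by
  obtain ⟨m, c, s, hc, hs, hs0, e⟩ := h
  obtain ⟨m', c', s', hc', hs', hs0', e'⟩ := h'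
  refine ⟨m + m', c * s' + c' * s, s * s', ?_, SetLike.mul_mem_graded hs hs',
    mul_ne_zero hs0 hs0', ?_⟩
  · refine add_mem (mem_cast (by ring) (SetLike.mul_mem_graded hc hs'))
      (mem_cast (by ring) (SetLike.mul_mem_graded hc' hs))
  · simp only [map_add, map_mul]
    rw [← e, ← e']
    ring

omit [IsFractionRing G L] in
lemma HF.neg {n : ℕ} {y : L} (h : HF 𝒢 L n y) : HF 𝒢 L n (-y) := by
  obtain ⟨m, c, s, hc, hs, hs0, e⟩ := h
  exact ⟨m, -c, s, neg_mem hc, hs, hs0, by rw [map_neg, ← e]; ring⟩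

omit [IsFractionRing G L] in
lemma HF.sub {n : ℕ} {y y' : L} (h : HF 𝒢 L n y) (h' : HF 𝒢 L n y') : HF 𝒢 L n (y - y') := by
  rw [sub_eq_add_neg]
  exact h.add h'.neg

omit [IsFractionRing G L] in
lemma HF.sum {n : ℕ} {ι : Type*} (s : Finset ι) (f : ι → L) (h : ∀ i ∈ s, HF 𝒢 L n (f i)) :
    HF 𝒢 L n (∑ i ∈ s, f i) := by
  classical
  induction s using Finset.induction_on with
  | empty => simpa using HF.zero n
  | insert a s ha ih =>
    rw [Finset.sum_insert ha]
    exact (h a (Finset.mem_insert_self a s)).add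
      (ih fun i hi => h i (Finset.mem_insert_of_mem hi))

omit [IsFractionRing G L] in
lemma HF.mul_mem {l i : ℕ} {y : L} (h : HF 𝒢 L l y) {t : G} (ht : t ∈ 𝒢 i) :
    HF 𝒢 L (l + i) (y * algebraMap G L t) := by
  obtain ⟨m, c, s, hc, hs, hs0, e⟩ := h
  refine ⟨m, c * t, s, mem_cast (by ring) (SetLike.mul_mem_graded hc ht), hs, hs0, ?_⟩
  rw [map_mul, ← e]
  ring

omit [IsFractionRing G L] in
lemma HF.div {n i : ℕ} {y z : L} (h : HF 𝒢 L (n + i) z) {t : G} (ht : t ∈ 𝒢 i) (ht0 : t ≠ 0)
    (e : y * algebraMap G L t = z) : HF 𝒢 L n y := by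
  obtain ⟨m, c, s, hc, hs, hs0, e'⟩ := h
  refine ⟨i + m, c, t * s, mem_cast (by ring) hc, SetLike.mul_mem_graded ht hs,
    mul_ne_zero ht0 hs0, ?_⟩
  rw [map_mul, ← mul_assoc, e, e']

omit [IsFractionRing G L] in
lemma HF.cast {n n' : ℕ} (h : n = n') {y : L} (hy : HF 𝒢 L n y) : HF 𝒢 L n' y := h ▸ hy

omit [IsDomain G] in
lemma exists_component_ne_zero {b : G} (hb : b ≠ 0) : ∃ i, (decompose 𝒢 b i : G) ≠ 0 := by
  classical
  by_contra h
  push Not at h
  apply hb
  rw [← DirectSum.sum_support_decompose 𝒢 b]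
  exact Finset.sum_eq_zero fun i _ => h i

theorem hf_coeff (P : L[X]) (a b : G) (hb : b ≠ 0)
    (hP : P * coactL 𝒢 L b = coactL 𝒢 L a) (n : ℕ) : HF 𝒢 L n (P.coeff n) := by
  classical
  have hex := exists_component_ne_zero (𝒢 := 𝒢) hb
  set i0 := Nat.find hex with hi0
  have hi0ne : (decompose 𝒢 b i0 : G) ≠ 0 := Nat.find_spec hex
  have hmin : ∀ i < i0, (decompose 𝒢 b i : G) = 0 := fun i hi => by
    by_contra h
    exact Nat.find_min hex hi h
  induction n using Nat.strong_induction_on with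
  | _ n ih =>
    have hc := congrArg (fun Q => Q.coeff (n + i0)) hP
    simp only [coeff_mul, coeff_coactL] at hc
    have hmem : (n, i0) ∈ Finset.HasAntidiagonal.antidiagonal (n + i0) := by simp
    rw [← Finset.add_sum_erase _ _ hmem] at hc
    refine HF.div (i := i0) (z := algebraMap G L (decompose 𝒢 a (n + i0) : G) -
      ∑ x ∈ (Finset.HasAntidiagonal.antidiagonal (n + i0)).erase (n, i0),
        P.coeff x.1 * algebraMap G L (decompose 𝒢 b x.2 : G)) ?_ (decompose 𝒢 b i0).2 hi0ne ?_
    · refine HF.sub (HF.of_mem (decompose 𝒢 a (n + i0)).2) (HF.sum _ _ ?_)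
      intro x hx
      rw [Finset.mem_erase, Finset.HasAntidiagonal.mem_antidiagonal] at hx
      obtain ⟨hne, hsum⟩ := hx
      by_cases hlt : x.2 < i0
      · rw [hmin _ hlt, map_zero, mul_zero]
        exact HF.zero _
      · push Not at hlt
        have hx1 : x.1 < n := by
          rcases Nat.lt_or_ge x.1 n with h | h
          · exact h
          · exfalso
            apply hne
            have h1 : x.1 = n := by omega
            have h2 : x.2 = i0 := by omega
            exact Prod.ext h1 h2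
        exact HF.cast hsum ((ih x.1 hx1).mul_mem (decompose 𝒢 b x.2).2)
    · rw [← hc]
      ring

lemma HF.component {n : ℕ} {y : L} (h : HF 𝒢 L n y) {g z : G}
    (e : algebraMap G L g * y = algebraMap G L z) (i : ℕ) :
    algebraMap G L (decompose 𝒢 g i : G) * y = algebraMap G L (decompose 𝒢 z (i + n) : G) := by
  classical
  obtain ⟨m, c, s, hc, hs, hs0, e'⟩ := h
  have hinj := IsFractionRing.injective G L
  have h1 : g * c = z * s := by
    apply hinj
    rw [map_mul, map_mul, ← e', ← e]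
    ring
  have h2 : (decompose 𝒢 (g * c) (i + (n + m)) : G) = (decompose 𝒢 g i : G) * c :=
    DirectSum.coe_decompose_mul_add_of_right_mem 𝒢 hc
  have h3 : (decompose 𝒢 (z * s) ((i + n) + m) : G) = (decompose 𝒢 z (i + n) : G) * s :=
    DirectSum.coe_decompose_mul_add_of_right_mem 𝒢 hs
  rw [h1, ← add_assoc, h3] at h2
  have hs0' : algebraMap G L s ≠ 0 := fun h => hs0 (hinj (by rw [h, map_zero]))
  apply mul_right_cancel₀ hs0'
  rw [mul_assoc, e', ← map_mul, ← map_mul, h2]

variable (𝒢 L)

/-- The conductor of `G` in its integral closure in `L`. -/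
def conductor : Ideal G where
  carrier := {g | ∀ x : L, IsIntegral G x → algebraMap G L g * x ∈ (algebraMap G L).range}
  add_mem' := by
    intro g g' hg hg' x hx
    rw [map_add, add_mul]
    exact add_mem (hg x hx) (hg' x hx)
  zero_mem' := by
    intro x _
    rw [map_zero, zero_mul]
    exact zero_mem _
  smul_mem' := by
    intro c g hg x hx
    rw [smul_eq_mul, map_mul, mul_assoc]
    exact mul_mem ⟨c, rfl⟩ (hg x hx)

variable {𝒢 L}

omit [IsDomain G] [IsFractionRing G L] in
lemma mem_conductor {g : G} : g ∈ conductor L ↔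
    ∀ x : L, IsIntegral G x → algebraMap G L g * x ∈ (algebraMap G L).range := Iff.rfl

variable (𝒢 L)

theorem conductor_isHomogeneous : (conductor (G := G) L).IsHomogeneous 𝒢 := by
  classical
  intro i g hg x hx
  obtain ⟨a, b, hb, rfl⟩ := IsFractionRing.div_surjective (A := G) x
  have hb0 : b ≠ 0 := nonZeroDivisors.ne_zero hb
  have hinj := IsFractionRing.injective G L
  have hb0' : algebraMap G L b ≠ 0 := fun h => hb0 (hinj (by rw [h, map_zero]))
  have hab : algebraMap G L a / algebraMap G L b * algebraMap G L b = algebraMap G L a :=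
    div_mul_cancel₀ _ hb0'
  obtain ⟨P, hPint, hP⟩ := exists_poly 𝒢 L _ hx
  have hPab := hP a b hab
  have hev : P.eval 1 = algebraMap G L a / algebraMap G L b := by
    have := congrArg (Polynomial.eval 1) hPab
    rw [eval_mul, eval_one_coactL, eval_one_coactL] at this
    rw [eq_div_iff hb0', this]
  rw [← hev, eval_eq_sum_range, Finset.mul_sum]
  refine Subring.sum_mem _ fun n _ => ?_
  rw [one_pow, mul_one]
  obtain ⟨z, hz⟩ := hg _ (hPint n)
  exact ⟨_, ((hf_coeff P a b hb0 hPab n).component hz.symm i).symm⟩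

/-- The quotient `Ḡ / G` as a `G`-module. -/
abbrev QuotIC (G : Type u) [CommRing G] (L : Type u) [Field L] [Algebra G L] : Type u :=
  ↥(integralClosure G L) ⧸ LinearMap.range (Algebra.linearMap G ↥(integralClosure G L))

variable {L}

omit [IsDomain G] [IsFractionRing G L] in
lemma mem_conductor_iff_smul {g : G} : g ∈ conductor (G := G) L ↔ ∀ q : QuotIC G L, g • q = 0 := by
  constructor
  · intro hg q
    obtain ⟨y, rfl⟩ := Submodule.Quotient.mk_surjective _ q
    rw [← Submodule.Quotient.mk_smul, Submodule.Quotient.mk_eq_zero]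
    obtain ⟨z, hz⟩ := hg y.1 y.2
    refine ⟨z, ?_⟩
    apply Subtype.ext
    change algebraMap G L z = ((g • y : ↥(integralClosure G L)) : L)
    rw [hz]
    change _ = g • (y : L)
    rw [Algebra.smul_def]
  · intro h x hx
    have h1 := h (Submodule.Quotient.mk ⟨x, hx⟩)
    rw [← Submodule.Quotient.mk_smul, Submodule.Quotient.mk_eq_zero] at h1
    obtain ⟨z, hz⟩ := h1
    refine ⟨z, ?_⟩
    have := congrArg (Subtype.val) hz
    change algebraMap G L z = g • x at this
    rw [this, Algebra.smul_def]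

variable (L)

theorem exists_pow_mem_conductor [IsArtinian G (QuotIC G L)] [IsNoetherian G (QuotIC G L)]
    {s : G} {d : ℕ} (hs : s ∈ 𝒢 d) (hd : 0 < d) : ∃ n, s ^ n ∈ conductor (G := G) L := by
  classical
  let f : ℕ →o (Submodule G (QuotIC G L))ᵒᵈ :=
    { toFun := fun n => OrderDual.toDual (LinearMap.range (LinearMap.lsmul G (QuotIC G L) (s ^ n)))
      monotone' := by
        intro n m hnm
        change LinearMap.range (LinearMap.lsmul G (QuotIC G L) (s ^ m)) ≤
          LinearMap.range (LinearMap.lsmul G (QuotIC G L) (s ^ n))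
        rintro _ ⟨q, rfl⟩
        refine ⟨s ^ (m - n) • q, ?_⟩
        simp only [LinearMap.lsmul_apply, smul_smul]
        rw [← pow_add, Nat.add_sub_cancel' hnm] }
  obtain ⟨n, hn⟩ := IsArtinian.monotone_stabilizes f
  have hn1 : LinearMap.range (LinearMap.lsmul G (QuotIC G L) (s ^ n)) =
      LinearMap.range (LinearMap.lsmul G (QuotIC G L) (s ^ (n + 1))) :=
    congrArg OrderDual.ofDual (hn (n + 1) (Nat.le_succ n))
  set N := LinearMap.range (LinearMap.lsmul G (QuotIC G L) (s ^ n)) with hN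
  have hle : N ≤ Ideal.span {s} • N := by
    intro w hw
    rw [hn1] at hw
    obtain ⟨q, rfl⟩ := hw
    have : (LinearMap.lsmul G (QuotIC G L) (s ^ (n + 1))) q = s • (s ^ n • q) := by
      simp only [LinearMap.lsmul_apply, smul_smul]
      rw [pow_succ']
    rw [this]
    exact Submodule.smul_mem_smul (Ideal.mem_span_singleton_self s) ⟨q, rfl⟩
  obtain ⟨r, hr1, hr2⟩ := Submodule.exists_sub_one_mem_and_smul_eq_zero_of_fg_of_le_smul
    (Ideal.span {s}) N (IsNoetherian.noetherian N) hle
  have hmem : s ^ n * r ∈ conductor (G := G) L := by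
    rw [mem_conductor_iff_smul]
    intro q
    rw [mul_comm, mul_smul]
    exact hr2 _ ⟨q, rfl⟩
  obtain ⟨t, ht⟩ := Ideal.mem_span_singleton'.mp hr1
  have hr : r = 1 + s * t := by
    rw [mul_comm, ht]; ring
  have hhom := conductor_isHomogeneous 𝒢 L (n • d + 0) hmem
  rw [DirectSum.coe_decompose_mul_add_of_left_mem 𝒢 (SetLike.pow_mem_graded n hs)] at hhom
  have h0 : (decompose 𝒢 r 0 : G) = 1 := by
    rw [hr, decompose_add, DirectSum.add_apply, AddMemClass.coe_add,
      decompose_of_mem_same 𝒢 SetLike.GradedOne.one_mem,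
      DirectSum.coe_decompose_mul_of_left_mem_of_not_le 𝒢 hs (by omega), add_zero]
  rw [h0, mul_one] at hhom
  exact ⟨n, hhom⟩

theorem irrelevant_le_radical_conductor [IsArtinian G (QuotIC G L)]
    [IsNoetherian G (QuotIC G L)] :
    (HomogeneousIdeal.irrelevant 𝒢).toIdeal ≤ (conductor (G := G) L).radical := by
  classical
  intro a ha
  rw [← DirectSum.sum_support_decompose 𝒢 a]
  refine Ideal.sum_mem _ fun i _ => ?_
  rcases Nat.eq_zero_or_pos i with rfl | hi
  · have : (decompose 𝒢 a 0 : G) = 0 := ha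
    rw [this]
    exact zero_mem _
  · exact exists_pow_mem_conductor (𝒢 := 𝒢) (L := L) (decompose 𝒢 a i).2 hi

theorem exists_pow_irrelevant_smul_eq_zero [IsNoetherianRing G] [IsArtinian G (QuotIC G L)]
    [IsNoetherian G (QuotIC G L)] :
    ∃ N : ℕ, ∀ g ∈ (HomogeneousIdeal.irrelevant 𝒢).toIdeal ^ N, ∀ q : QuotIC G L, g • q = 0 := by
  obtain ⟨N, hN⟩ := Ideal.exists_pow_le_of_le_radical_of_fg
    (irrelevant_le_radical_conductor (𝒢 := 𝒢) (L := L)) (IsNoetherian.noetherian _)
  exact ⟨N, fun g hg => mem_conductor_iff_smul.mp (hN hg)⟩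

end Frac

end Groth.Agent.Lib.Helper92.GradedIC
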