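import Groth.Agent.Lib.Helper92.GradedIC
import Groth.Agent.Lib.Helper92.LocCohDepth
import Groth.Agent.Lib.Helper92.LocCohH0
import Groth.Agent.Lib.Helper64.NormalS2
import Groth.Agent.Lib.Helper67.Depth2
import Groth.Agent.Lib.Helper56.DepthAss
import Groth.Agent.Lib.Helper73.DimFT.Catenary
import Groth.Agent.Lib.Helper98.CechRestrict
import Groth.Agent.Lib.Helper53.Graded

/-!
# helper92: normalization of a graded domain over a field and `H¹_{G₊}(G)`
-/

set_option autoImplicit false
set_option linter.unusedSectionVars false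
set_option linter.style.haveILetI false
set_option maxHeartbeats 400000
universe u
open DirectSum CategoryTheory

namespace Groth.Agent.Lib.Helper92.GradedNormal

open Groth.Agent.Lib.Helper92.GradedIC Groth.Agent.Lib.Helper92.LC

section Basic

variable (k : Type u) [Field k] (G : Type u) [CommRing G] [Algebra k G]
  (𝒢 : ℕ → Submodule k G) [GradedAlgebra 𝒢]
  (h0 : ∀ x ∈ 𝒢 0, x ∈ Set.range (algebraMap k G))

include h0

theorem finiteType [IsNoetherianRing G] : Algebra.FiniteType k G := by
  classical
  have h1 : Algebra.FiniteType (𝒢 0) G :=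
    Groth.Agent.Lib.Helper53.finiteType_of_irrelevant_fg 𝒢 (IsNoetherian.noetherian _)
  obtain ⟨s, hs⟩ := h1.out
  have key : ∀ x, x ∈ Algebra.adjoin (𝒢 0) (s : Set G) → x ∈ Algebra.adjoin k (s : Set G) := by
    intro x hx
    induction hx using Algebra.adjoin_induction with
    | mem x hx => exact Algebra.subset_adjoin hx
    | algebraMap r =>
      obtain ⟨c, hc⟩ := h0 r r.2
      have : algebraMap (𝒢 0) G r = (r : G) := rfl
      rw [this, ← hc]
      exact Subalgebra.algebraMap_mem _ c
    | add x y _ _ hx hy => exact add_mem hx hy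
    | mul x y _ _ hx hy => exact mul_mem hx hy
  exact ⟨⟨s, eq_top_iff.mpr fun x _ => key x (hs ▸ Algebra.mem_top)⟩⟩

theorem irrelevant_isMaximal [Nontrivial G] :
    (HomogeneousIdeal.irrelevant 𝒢).toIdeal.IsMaximal := by
  classical
  rw [Ideal.isMaximal_iff]
  constructor
  · intro h1
    have : (decompose 𝒢 (1 : G) 0 : G) = 0 := h1
    rw [decompose_of_mem_same 𝒢 SetLike.GradedOne.one_mem] at this
    exact one_ne_zero this
  · intro J x hIJ hxI hxJ
    have hx0 : (decompose 𝒢 x 0 : G) ≠ 0 := hxI
    have hmem : x - (decompose 𝒢 x 0 : G) ∈ (HomogeneousIdeal.irrelevant 𝒢).toIdeal := by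
      change (decompose 𝒢 (x - (decompose 𝒢 x 0 : G)) 0 : G) = 0
      rw [decompose_sub, DirectSum.sub_apply, AddSubgroupClass.coe_sub,
        decompose_of_mem_same 𝒢 (decompose 𝒢 x 0).2, sub_self]
    have hx0J : (decompose 𝒢 x 0 : G) ∈ J := by
      have := J.sub_mem hxJ (hIJ hmem)
      simpa using this
    obtain ⟨c, hc⟩ := h0 _ (decompose 𝒢 x 0).2
    have hc0 : c ≠ 0 := by
      rintro rfl
      rw [map_zero] at hc
      exact hx0 hc.symm
    have : (1 : G) = algebraMap k G c⁻¹ * (decompose 𝒢 x 0 : G) := by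
      rw [← hc, ← map_mul, inv_mul_cancel₀ hc0, map_one]
    rw [this]
    exact J.mul_mem_left _ hx0J

end Basic

section Depth

variable (k : Type u) [Field k] (G : Type u) [CommRing G] [IsDomain G] [Algebra k G]
  [IsNoetherianRing G] (𝒢 : ℕ → Submodule k G) [GradedAlgebra 𝒢]
  (h0 : ∀ x ∈ 𝒢 0, x ∈ Set.range (algebraMap k G)) (hdim : 2 ≤ ringKrullDim G)
  (L : Type u) [Field L] [Algebra G L] [IsFractionRing G L]
  [Module.Finite G ↥(integralClosure G L)]

omit [IsNoetherianRing G] [Module.Finite G ↥(integralClosure G L)] in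
lemma algebraMap_intClosure_injective :
    Function.Injective (algebraMap G ↥(integralClosure G L)) := by
  intro a b h
  apply IsFractionRing.injective G L
  exact congrArg Subtype.val h

include h0 hdim

theorem two_le_idealDepth :
    (2 : ℕ∞) ≤ LocCoh.idealDepth
      (Ideal.map (algebraMap G ↥(integralClosure G L)) (HomogeneousIdeal.irrelevant 𝒢).toIdeal)
      ↥(integralClosure G L) := by
  classical
  haveI : IsNoetherianRing ↥(integralClosure G L) :=
    isNoetherian_of_tower G (isNoetherian_of_isNoetherianRing_of_finite G _)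
  haveI : IsIntegrallyClosed ↥(integralClosure G L) :=
    integralClosure.isIntegrallyClosedOfFiniteExtension (R := G) L (L := L)
  letI algk : Algebra k ↥(integralClosure G L) :=
    ((algebraMap G ↥(integralClosure G L)).comp (algebraMap k G)).toAlgebra
  haveI : IsScalarTower k G ↥(integralClosure G L) :=
    IsScalarTower.of_algebraMap_eq (fun x => rfl)
  haveI hft : Algebra.FiniteType k G := finiteType k G 𝒢 h0
  haveI : Algebra.FiniteType k ↥(integralClosure G L) :=
    Algebra.FiniteType.trans hft inferInstance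
  haveI : Algebra.IsIntegral G ↥(integralClosure G L) := Algebra.IsIntegral.of_finite G _
  have hinj := algebraMap_intClosure_injective G L
  have hdimeq : ringKrullDim ↥(integralClosure G L) = ringKrullDim G :=
    Groth.Agent.Lib.Helper73.ringKrullDim_eq_of_isIntegral_of_injective hinj
  have hmax := irrelevant_isMaximal k G 𝒢 h0
  rw [Groth.Agent.Lib.Helper67.idealDepth_eq_iInf_depth_localization]
  refine le_iInf₂ fun P hP => ?_
  have hcomap : P.asIdeal.comap (algebraMap G ↥(integralClosure G L)) =
      (HomogeneousIdeal.irrelevant 𝒢).toIdeal :=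
    (hmax.eq_of_le (Ideal.comap_ne_top _ P.2.ne_top) (Ideal.map_le_iff_le_comap.mp hP)).symm
  haveI hPmax : P.asIdeal.IsMaximal :=
    Ideal.isMaximal_of_isIntegral_of_isMaximal_comap P.asIdeal (hcomap ▸ hmax)
  have hht : (P.asIdeal.height : WithBot ℕ∞) = ringKrullDim ↥(integralClosure G L) :=
    Groth.Agent.Lib.Helper73.height_eq_ringKrullDim_of_isMaximal k P.asIdeal
  rw [Groth.Agent.Lib.Helper56.depth_localizedModule_self]
  haveI : IsIntegrallyClosed (Localization.AtPrime P.asIdeal) :=
    isIntegrallyClosed_of_isLocalization _ P.asIdeal.primeCompl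
      P.asIdeal.primeCompl_le_nonZeroDivisors
  apply Groth.Agent.Lib.Helper64.NormalS2.two_le_depth_of_normal
  rw [IsLocalization.AtPrime.ringKrullDim_eq_height P.asIdeal, hht, hdimeq]
  intro hle
  have h21 : ((2 : ℕ) : WithBot ℕ∞) ≤ ((1 : ℕ) : WithBot ℕ∞) := by
    exact_mod_cast le_trans hdim hle
  have : (2 : ℕ) ≤ 1 := by exact_mod_cast h21
  omega

theorem subsingleton_H_intClosure (i : ℕ) (hi : i < 2) :
    Subsingleton (LocCoh.H (HomogeneousIdeal.irrelevant 𝒢).toIdeal i ↥(integralClosure G L)) := by
  classical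
  haveI : IsNoetherianRing ↥(integralClosure G L) :=
    isNoetherian_of_tower G (isNoetherian_of_isNoetherianRing_of_finite G _)
  haveI : Algebra.IsIntegral G ↥(integralClosure G L) := Algebra.IsIntegral.of_finite G _
  have hinj := algebraMap_intClosure_injective G L
  have hmax := irrelevant_isMaximal k G 𝒢 h0
  obtain ⟨φ, -⟩ := Helper98.CechRestrict.lc_restrict (R := G) (R' := ↥(integralClosure G L))
    (HomogeneousIdeal.irrelevant 𝒢).toIdeal ↥(integralClosure G L) i
  have hne : Ideal.map (algebraMap G ↥(integralClosure G L))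
      (HomogeneousIdeal.irrelevant 𝒢).toIdeal • (⊤ : Submodule ↥(integralClosure G L) ↥(integralClosure G L)) ≠ ⊤ := by
    rw [smul_eq_mul, Ideal.mul_top]
    obtain ⟨Q, hQ, hQc⟩ := Ideal.exists_ideal_over_maximal_of_isIntegral
      (S := ↥(integralClosure G L)) (HomogeneousIdeal.irrelevant 𝒢).toIdeal
      (by rw [(RingHom.injective_iff_ker_eq_bot _).mp hinj]; exact bot_le)
    intro htop
    apply hQ.ne_top
    rw [eq_top_iff, ← htop, Ideal.map_le_iff_le_comap, hQc]
  have hsub := subsingleton_of_lt_idealDepth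
    (Ideal.map (algebraMap G ↥(integralClosure G L)) (HomogeneousIdeal.irrelevant 𝒢).toIdeal) 2
    ↥(integralClosure G L) hne (two_le_idealDepth k G 𝒢 h0 hdim L) i hi
  exact φ.symm.injective.subsingleton

end Depth


section Main

variable (k : Type u) [Field k] (G : Type u) [CommRing G] [IsDomain G] [Algebra k G]
  [IsNoetherianRing G] (𝒢 : ℕ → Submodule k G) [GradedAlgebra 𝒢]
  (h0 : ∀ x ∈ 𝒢 0, x ∈ Set.range (algebraMap k G)) (hdim : 2 ≤ ringKrullDim G)
  (L : Type u) [Field L] [Algebra G L] [IsFractionRing G L]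

omit [IsDomain G] [IsNoetherianRing G] [IsFractionRing G L] in
lemma finite_intClosure_of_finite_quot [Module.Finite G (QuotIC G L)] :
    Module.Finite G ↥(integralClosure G L) := by
  haveI : Module.Finite G ↥(LinearMap.range (Algebra.linearMap G ↥(integralClosure G L))) :=
    Module.Finite.range _
  exact Module.Finite.of_submodule_quotient
    (LinearMap.range (Algebra.linearMap G ↥(integralClosure G L)))

include h0 hdim

/-- `Ḡ/G ≃ H¹_{G₊}(G)` when `Ḡ/G` has finite length. -/
theorem nonempty_equiv [IsArtinian G (QuotIC G L)] [IsNoetherian G (QuotIC G L)] :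
    Nonempty (QuotIC G L ≃ₗ[G] LocCoh.H (HomogeneousIdeal.irrelevant 𝒢).toIdeal 1 G) := by
  classical
  haveI : Module.Finite G ↥(integralClosure G L) := finite_intClosure_of_finite_quot G L
  obtain ⟨N, hN⟩ := exists_pow_irrelevant_smul_eq_zero (𝒢 := 𝒢) (L := L)
  have hinj := algebraMap_intClosure_injective G L
  have hS := sesOfInjective_shortExact (Algebra.linearMap G ↥(integralClosure G L)) hinj
  have h0s : Subsingleton ((localCohomology (HomogeneousIdeal.irrelevant 𝒢).toIdeal 0).obj
      (sesOfInjective (Algebra.linearMap G ↥(integralClosure G L))).X₂) :=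
    subsingleton_H_intClosure k G 𝒢 h0 hdim L 0 (by norm_num)
  have h1s : Subsingleton ((localCohomology (HomogeneousIdeal.irrelevant 𝒢).toIdeal (0 + 1)).obj
      (sesOfInjective (Algebra.linearMap G ↥(integralClosure G L))).X₂) :=
    subsingleton_H_intClosure k G 𝒢 h0 hdim L 1 (by norm_num)
  have hδinj : Function.Injective (δ (HomogeneousIdeal.irrelevant 𝒢).toIdeal 0 hS) := by
    rw [injective_iff_map_eq_zero]
    intro z hz
    obtain ⟨y, rfl⟩ := exact₃ _ 0 hS z hz
    rw [Subsingleton.elim y 0, map_zero]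
  have hδsurj : Function.Surjective (δ (HomogeneousIdeal.irrelevant 𝒢).toIdeal 0 hS) :=
    fun x => exact₁ _ 0 hS x (Subsingleton.elim _ _)
  have htop : DRing.torsionSub (HomogeneousIdeal.irrelevant 𝒢).toIdeal (QuotIC G L) = ⊤ :=
    eq_top_iff.mpr fun q _ => ⟨N, fun a ha => hN a ha q⟩
  exact ⟨((LinearEquiv.ofTop _ htop).symm.trans
    (γEquiv (HomogeneousIdeal.irrelevant 𝒢).toIdeal (ModuleCat.of G (QuotIC G L))).symm).trans
    (LinearEquiv.ofBijective (δ (HomogeneousIdeal.irrelevant 𝒢).toIdeal 0 hS) ⟨hδinj, hδsurj⟩)⟩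

end Main

section Loc

variable (G : Type u) [CommRing G] [IsDomain G]
  (L : Type u) [Field L] [Algebra G L] [IsFractionRing G L]

/-- If `G_p` is integrally closed, every element of `L` integral over `G` has a denominator
outside `p`. -/
lemma exists_denom_of_isIntegrallyClosed_atPrime (p : Ideal G) [p.IsPrime]
    [IsIntegrallyClosed (Localization.AtPrime p)] (y : L) (hy : IsIntegral G y) :
    ∃ s : G, s ∉ p ∧ ∃ a : G, algebraMap G L s * y = algebraMap G L a := by
  have hinj := IsFractionRing.injective G L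
  have hu : ∀ s : p.primeCompl, IsUnit (algebraMap G L s) := fun s =>
    IsUnit.mk0 _ (fun h => (nonZeroDivisors.ne_zero (p.primeCompl_le_nonZeroDivisors s.2))
      (hinj (by rw [h, map_zero])))
  let g : Localization.AtPrime p →+* L := IsLocalization.lift hu
  letI : Algebra (Localization.AtPrime p) L := g.toAlgebra
  haveI : IsScalarTower G (Localization.AtPrime p) L :=
    IsScalarTower.of_algebraMap_eq' (IsLocalization.lift_comp hu).symm
  haveI : IsFractionRing (Localization.AtPrime p) L :=
    IsFractionRing.isFractionRing_of_isDomain_of_isLocalization p.primeCompl _ _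
  have hy' : IsIntegral (Localization.AtPrime p) y := hy.tower_top
  obtain ⟨z, hz⟩ := IsIntegrallyClosed.algebraMap_eq_of_integral hy'
  obtain ⟨a, s, rfl⟩ := IsLocalization.exists_mk'_eq p.primeCompl z
  refine ⟨s, s.2, a, ?_⟩
  have h1 := IsLocalization.mk'_spec (Localization.AtPrime p) a s
  have h2 := congrArg (algebraMap (Localization.AtPrime p) L) h1
  rw [map_mul, hz, ← IsScalarTower.algebraMap_apply, ← IsScalarTower.algebraMap_apply] at h2
  rw [mul_comm]
  exact h2

/-- Converse: `G_p` is integrally closed if every integral element has a denominator outside `p`. -/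
lemma isIntegrallyClosed_atPrime_of_exists_denom (p : Ideal G) [p.IsPrime]
    (h : ∀ y : L, IsIntegral G y →
      ∃ s : G, s ∉ p ∧ ∃ a : G, algebraMap G L s * y = algebraMap G L a) :
    IsIntegrallyClosed (Localization.AtPrime p) := by
  have hinj := IsFractionRing.injective G L
  have hu : ∀ s : p.primeCompl, IsUnit (algebraMap G L s) := fun s =>
    IsUnit.mk0 _ (fun h => (nonZeroDivisors.ne_zero (p.primeCompl_le_nonZeroDivisors s.2))
      (hinj (by rw [h, map_zero])))
  let g : Localization.AtPrime p →+* L := IsLocalization.lift hu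
  letI : Algebra (Localization.AtPrime p) L := g.toAlgebra
  haveI : IsScalarTower G (Localization.AtPrime p) L :=
    IsScalarTower.of_algebraMap_eq' (IsLocalization.lift_comp hu).symm
  haveI : IsFractionRing (Localization.AtPrime p) L :=
    IsFractionRing.isFractionRing_of_isDomain_of_isLocalization p.primeCompl _ _
  rw [isIntegrallyClosed_iff L]
  intro x hx
  obtain ⟨m, hm⟩ := hx.exists_multiple_integral_of_isLocalization p.primeCompl x
  obtain ⟨s, hs, a, hsa⟩ := h _ hm
  have hsm : s * (m : G) ∈ p.primeCompl := mul_mem (show s ∈ p.primeCompl from hs) m.2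
  refine ⟨IsLocalization.mk' _ a ⟨s * m, hsm⟩, ?_⟩
  have h1 := IsLocalization.mk'_spec (Localization.AtPrime p) a ⟨s * m, hsm⟩
  have h2 := congrArg (algebraMap (Localization.AtPrime p) L) h1
  rw [map_mul, ← IsScalarTower.algebraMap_apply, ← IsScalarTower.algebraMap_apply] at h2
  have hne : algebraMap G L (s * (m : G)) ≠ 0 := fun h0 =>
    (nonZeroDivisors.ne_zero (p.primeCompl_le_nonZeroDivisors hsm)) (hinj (by rw [h0, map_zero]))
  apply mul_right_cancel₀ hne
  rw [h2, ← hsa, map_mul, Submonoid.smul_def, Algebra.smul_def]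
  ring

end Loc

end Groth.Agent.Lib.Helper92.GradedNormal
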