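import Groth.Agent.Lib.Helper92.HLVTGor
import Groth.Agent.Lib.Helper92.LocCohHLConv
import Groth.Agent.Lib.Helper92.LocCohGV
import Groth.Agent.Lib.Helper92.SupportDimLargest
import Groth.Agent.Lib.Helper98.CechRestrict
import Groth.Agent.Lib.Helper85.GorRing
import Groth.Agent.Lib.Helper38.FiniteLocal
import Groth.Agent.Lib.Helper73.DimFT.Basic

/-!
# HLVT: transfer along a finite extension of a Gorenstein complete local domain (helper92)
-/

set_option autoImplicit false
universe u

open CategoryTheory IsLocalRing

namespace Groth.Agent.Lib.Helper92.HLVT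

open Groth.Agent.Lib.Helper92

theorem dim_quot_under (A R : Type u) [CommRing A] [CommRing R] [Algebra A R]
    [Algebra.IsIntegral A R] (P : Ideal R) [P.IsPrime] :
    ringKrullDim (A ⧸ P.under A) = ringKrullDim (R ⧸ P) :=
  (Groth.Agent.Lib.Helper73.ringKrullDim_eq_of_isIntegral_of_injective
    (FaithfulSMul.algebraMap_injective (A ⧸ P.under A) (R ⧸ P))).symm

/-- in a local ring, a prime strictly above a prime of coheight `≤ 1` is the maximal ideal -/
theorem eq_maximalIdeal_of_lt {A : Type u} [CommRing A] [IsNoetherianRing A] [IsLocalRing A]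
    {q Q : Ideal A}
    [q.IsPrime] [hQ : Q.IsPrime] (hq : ringKrullDim (A ⧸ q) ≤ 1) (h : q < Q) :
    Q = maximalIdeal A := by
  have h1 := SDim.ringKrullDim_quotient_add_one_le h
  have h3 := h1.trans hq
  have h2 : ringKrullDim (A ⧸ Q) ≤ 0 := by
    generalize ringKrullDim (A ⧸ Q) = x at h3 ⊢
    induction x using WithBot.recBotCoe with
    | bot => exact bot_le
    | coe n =>
      have h4 : ((n + 1 : ℕ∞) : WithBot ℕ∞) ≤ ((1 : ℕ∞) : WithBot ℕ∞) := by exact_mod_cast h3
      rw [WithBot.coe_le_coe] at h4
      have : n = 0 := by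
        by_contra hn
        have : 1 ≤ n := Order.one_le_iff_ne_zero.2 hn
        have : (1 : ℕ∞) + 1 ≤ 1 := (add_le_add_left this 1).trans h4
        exact absurd this (by decide)
      rw [this]
      rfl
  have := LC.radical_eq_maximalIdeal_of_dim_le_zero Q hQ.ne_top h2
  rwa [hQ.radical] at this

/-- transfer of top vanishing along an integral extension of a Gorenstein complete local domain -/
theorem subsingleton_H_top_of_integral_gor (B' R : Type u) [CommRing B'] [CommRing R]
    [Algebra B' R] [IsDomain B'] [LocCoh.IsGorensteinLocalRing B']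
    [IsAdicComplete (maximalIdeal B') B'] [IsNoetherianRing R] [Algebra.IsIntegral B' R]
    (hinj : Function.Injective (algebraMap B' R))
    (d : ℕ) (hd : ringKrullDim R = d) (P : Ideal R) [P.IsPrime]
    (hP : ringKrullDim (R ⧸ P) = 1)
    (hrad : ((P.under B').map (algebraMap B' R)).radical = P) :
    Subsingleton (LocCoh.H P d R) := by
  have hdB : ringKrullDim B' = d := by
    rw [← hd]
    exact (Groth.Agent.Lib.Helper73.ringKrullDim_eq_of_isIntegral_of_injective hinj).symm
  have hq : ringKrullDim (B' ⧸ P.under B') = 1 := by rw [dim_quot_under]; exact hP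
  have h0 := subsingleton_H_top_gor B' d hdB (P.under B') hq
  have h1 : Subsingleton (LocCoh.H (P.under B') d R) :=
    LC.subsingleton_top_of_ring _ d (LC.cdLE_of_ringKrullDim_le _ d (le_of_eq hdB)) h0 R
  obtain ⟨φ, -⟩ := Helper98.CechRestrict.lc_restrict (R := B') (R' := R) (P.under B') R d
  have h2 : Subsingleton (LocCoh.H ((P.under B').map (algebraMap B' R)) d R) :=
    φ.toEquiv.subsingleton
  have hrad' : ((P.under B').map (algebraMap B' R)).radical = P.radical := by
    rw [hrad, Ideal.IsPrime.radical ‹_›]
  exact (((localCohomology.isoOfSameRadical hrad' d).app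
      (ModuleCat.of R R)).toLinearEquiv).symm.toEquiv.subsingleton

theorem gorLocal_of_gorRing (A : Type u) [CommRing A] [IsLocalRing A] [LocCoh.IsGorensteinRing A] :
    LocCoh.IsGorensteinLocalRing A := by
  haveI : IsLocalization.AtPrime A (maximalIdeal A) :=
    IsLocalization.of_le_isUnit (fun s hs => by
      have : s ∉ maximalIdeal A := hs
      change IsUnit s
      simpa [IsLocalRing.mem_maximalIdeal, mem_nonunits_iff] using this)
  exact Groth.Agent.Lib.Helper85.GorRing.gorRing_atPrime A (maximalIdeal A) A

open Polynomial in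
/-- **HLVT for a complete local domain finite over a normal Gorenstein complete local domain** -/
theorem subsingleton_H_top_of_finite_normal (B R : Type u) [CommRing B] [CommRing R] [Algebra B R]
    [IsDomain B] [IsLocalRing B] [IsNoetherianRing B] [IsAdicComplete (maximalIdeal B) B]
    [IsIntegrallyClosed B] [LocCoh.IsGorensteinRing B]
    [IsDomain R] [IsLocalRing R] [Module.Finite B R]
    (hinj : Function.Injective (algebraMap B R))
    (d : ℕ) (hd : ringKrullDim R = d) (P : Ideal R) [P.IsPrime]
    (hP : ringKrullDim (R ⧸ P) = 1) :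
    Subsingleton (LocCoh.H P d R) := by
  classical
  haveI : IsNoetherianRing R := IsNoetherianRing.of_finite B R
  haveI : Algebra.IsIntegral B R := inferInstance
  haveI : Module.IsTorsionFree B R := Module.isTorsionFree_iff_algebraMap_injective.mpr hinj
  set q := P.under B with hq
  have hfin : (q.primesOver R).Finite := Algebra.QuasiFinite.finite_primesOver q
  -- choose `r`
  obtain ⟨r, hrP, hr⟩ : ∃ r ∈ P, ∀ P' ∈ q.primesOver R, r ∈ P' → P' = P := by
    by_contra hcon
    push Not at hcon
    have hsub : (P : Set R) ⊆ ⋃ P' ∈ ((hfin.toFinset.erase P : Finset (Ideal R)) : Set (Ideal R)),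
        ((id P' : Ideal R) : Set R) := by
      intro r hr
      obtain ⟨P', hP', hrP', hne⟩ := hcon r hr
      simp only [Set.mem_iUnion]
      refine ⟨P', ?_, hrP'⟩
      simp [hne, hP']
    rw [Ideal.subset_union_prime (f := id) P P] at hsub
    · obtain ⟨P', hP', hle⟩ := hsub
      simp only [Finset.mem_erase, Set.Finite.mem_toFinset] at hP'
      obtain ⟨hne, hP'mem⟩ := hP'
      haveI : P'.IsPrime := hP'mem.1
      have hover : P'.under B = q := (hP'mem.2.over).symm
      rcases lt_or_eq_of_le hle with hlt | heq
      · have := Ideal.IsIntegral.comap_lt_comap (R := B) hlt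
        change q < P'.under B at this
        rw [hover] at this
        exact lt_irrefl _ this
      · exact hne heq.symm
    · intro i hi _ _
      simp only [Finset.mem_erase, Set.Finite.mem_toFinset] at hi
      exact hi.2.1
  -- the subalgebra `B' = B[r]`
  have hrint : IsIntegral B r := Algebra.IsIntegral.isIntegral r
  let B' := Algebra.adjoin B ({r} : Set R)
  haveI : Module.Finite B B' := Algebra.finite_adjoin_simple_of_isIntegral hrint
  obtain ⟨hloc, hcompl⟩ := Groth.Agent.Lib.Helper38.FiniteLocal.isLocalRing_isAdicComplete_of_finite B B'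
  haveI := hloc
  haveI := hcompl
  haveI : LocCoh.IsGorensteinRing B[X] := Groth.Agent.Lib.Helper85.GorRing.gorRing_polynomial B
  haveI : LocCoh.IsGorensteinRing (B[X] ⧸ Ideal.span {minpoly B r}) :=
    Groth.Agent.Lib.Helper85.GorRing.gorRing_quot (minpoly B r)
      ((minpoly.monic hrint).isRegular.isSMulRegular)
  haveI : LocCoh.IsGorensteinRing B' :=
    Groth.Agent.Lib.Helper85.GorRing.gorRing_of_ringEquiv
      (R := B[X] ⧸ Ideal.span {minpoly B r}) (minpoly.equivAdjoin hrint).toRingEquiv
  haveI : LocCoh.IsGorensteinLocalRing B' := gorLocal_of_gorRing B'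
  haveI : Algebra.IsIntegral B' R := Algebra.IsIntegral.tower_top (R := B) (S := B') (T := R)
  have hinj' : Function.Injective (algebraMap B' R) := Subtype.val_injective
  have hq' : ringKrullDim (B' ⧸ P.under B') = 1 := by rw [dim_quot_under]; exact hP
  refine subsingleton_H_top_of_integral_gor B' R hinj' d hd P hP ?_
  apply le_antisymm
  · have h1 : (P.under B').map (algebraMap B' R) ≤ P := Ideal.map_comap_le
    have h2 := Ideal.radical_mono h1
    rwa [Ideal.IsPrime.radical ‹P.IsPrime›] at h2
  · rw [Ideal.radical_eq_sInf]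
    refine le_sInf fun P'' ⟨hle, hprime⟩ => ?_
    haveI := hprime
    have hle' : P.under B' ≤ P''.under B' := Ideal.le_comap_of_map_le hle
    rcases lt_or_eq_of_le hle' with hlt | heq
    · have hmax : P''.under B' = maximalIdeal B' :=
        eq_maximalIdeal_of_lt (le_of_eq hq') hlt
      have : P''.IsMaximal := Ideal.isMaximal_of_isIntegral_of_isMaximal_comap (R := B') P''
        (by change (P''.under B').IsMaximal; rw [hmax]; exact maximalIdeal.isMaximal B')
      rw [IsLocalRing.eq_maximalIdeal this]
      exact IsLocalRing.le_maximalIdeal (Ideal.IsPrime.ne_top ‹P.IsPrime›)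
    · have hmem : P'' ∈ q.primesOver R := by
        refine ⟨hprime, ⟨?_⟩⟩
        have : P''.under B = (P''.under B').under B := (Ideal.under_under (A := B) (B := B') P'').symm
        rw [this, ← heq, Ideal.under_under]
      have hrP'' : r ∈ P'' := by
        have h1 : (⟨r, Algebra.subset_adjoin rfl⟩ : B') ∈ P.under B' := hrP
        rw [heq] at h1
        exact h1
      rw [hr P'' hmem hrP'']

end Groth.Agent.Lib.Helper92.HLVT
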