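import Groth.Agent.S1735
import Groth.Agent.Lib.Helper85.LDQuot
import Groth.Agent.Lib.Helper85.HullExist
import Groth.Agent.Lib.Helper85.Matlis
import Groth.Agent.Lib.Helper92.LocCohLES2
import Groth.Agent.Lib.Helper92.LocCohH0

/-!
# Hartshorne–Lichtenbaum vanishing: the Gorenstein complete domain case (helper92)
-/

set_option autoImplicit false
universe u

open CategoryTheory IsLocalRing

namespace Groth.Agent.Lib.Helper92.HLVT

open Groth.Agent.Lib.Helper92.LC

variable {S : Type u} [CommRing S]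

/-- the `m`-th symbolic power of a prime -/
noncomputable def symb (P : Ideal S) [P.IsPrime] (m : ℕ) : Ideal S :=
  ((P.map (algebraMap S (Localization.AtPrime P))) ^ m).comap (algebraMap S (Localization.AtPrime P))

theorem pow_le_symb (P : Ideal S) [P.IsPrime] (m : ℕ) : P ^ m ≤ symb P m := by
  unfold symb
  rw [← Ideal.map_pow]
  exact Ideal.le_comap_map

theorem mem_symb_of_mul_mem (P : Ideal S) [P.IsPrime] (m : ℕ) (s y : S) (hs : s ∉ P)
    (h : s * y ∈ symb P m) : y ∈ symb P m := by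
  unfold symb at h ⊢
  rw [Ideal.mem_comap] at h ⊢
  rw [map_mul] at h
  have hu : IsUnit (algebraMap S (Localization.AtPrime P) s) :=
    IsLocalization.map_units (Localization.AtPrime P) (⟨s, hs⟩ : P.primeCompl)
  obtain ⟨u, hu'⟩ := hu
  have : algebraMap S (Localization.AtPrime P) y =
      (↑u⁻¹ : Localization.AtPrime P) * (algebraMap S (Localization.AtPrime P) s *
        algebraMap S (Localization.AtPrime P) y) := by
    rw [← hu', ← mul_assoc, Units.inv_mul, one_mul]
  rw [this]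
  exact Ideal.mul_mem_left _ _ h

variable [IsLocalRing S]

/-- `S/P^(m)` has no `𝔪`-torsion when `P ≠ 𝔪` -/
theorem torsionSub_quot_symb (P : Ideal S) [P.IsPrime] (hP : P ≠ maximalIdeal S) (m : ℕ) :
    DRing.torsionSub (maximalIdeal S) (S ⧸ symb P m) = ⊥ := by
  obtain ⟨s, hsm, hsP⟩ : ∃ s, s ∈ maximalIdeal S ∧ s ∉ P := by
    by_contra hcon
    push Not at hcon
    exact hP (le_antisymm (le_maximalIdeal (Ideal.IsPrime.ne_top ‹_›)) hcon)
  rw [eq_bot_iff]
  rintro x ⟨n, hn⟩
  obtain ⟨y, rfl⟩ := Ideal.Quotient.mk_surjective x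
  have h1 := hn (s ^ n) (Ideal.pow_mem_pow hsm n)
  rw [Submodule.mem_bot]
  have h2 : s ^ n * y ∈ symb P m := by
    rw [← Ideal.Quotient.eq_zero_iff_mem, map_mul]
    exact h1
  have h3 : s ^ n ∉ P := fun h => hsP (Ideal.IsPrime.mem_of_pow_mem ‹_› n h)
  exact Ideal.Quotient.eq_zero_iff_mem.mpr (mem_symb_of_mul_mem P m _ y h3 h2)

/-- vanishing of `H^0` from vanishing torsion -/
theorem subsingleton_H0_of_torsionSub_eq_bot [IsNoetherianRing S] (I : Ideal S) (M : ModuleCat.{u} S)
    (h : DRing.torsionSub I M = ⊥) : Subsingleton ((localCohomology I 0).obj M) := by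
  refine ⟨fun y y' => ?_⟩
  apply γ_injective I
  have h1 := γ_mem I y
  have h2 := γ_mem I y'
  rw [h, Submodule.mem_bot] at h1 h2
  rw [h1, h2]

/-- over a Gorenstein local ring of dimension `d`, `Ext^d(Y, S) = 0` for finite `Y` without
`𝔪`-torsion -/
theorem ext_top_subsingleton (S : Type u) [CommRing S] [LocCoh.IsGorensteinLocalRing S] (d : ℕ)
    (hdim : ringKrullDim S = d) (Y : Type u) [AddCommGroup Y] [Module S Y] [Module.Finite S Y]
    (hY : DRing.torsionSub (maximalIdeal S) Y = ⊥) :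
    Subsingleton (Abelian.Ext.{u} (ModuleCat.of S Y) (ModuleCat.of S S) d) := by
  obtain ⟨E, _, _, f, hf⟩ :=
    Groth.Agent.Lib.Helper85.Hull.exists_injectiveHull (R := S) (ResidueField S)
  obtain ⟨e⟩ := Groth.Agent.Lib.Helper85.CanonQuot.gor_duality S d hdim hf d 0 (add_zero d) Y
  have h0 : Subsingleton (LocCoh.H (maximalIdeal S) 0 Y) :=
    subsingleton_H0_of_torsionSub_eq_bot (maximalIdeal S) (ModuleCat.of S Y) hY
  have h1 : Subsingleton (Abelian.Ext.{u} (ModuleCat.of S Y) (ModuleCat.of S S) d →ₗ[S] E) :=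
    e.symm.injective.subsingleton
  refine ⟨fun x x' => ?_⟩
  suffices h : ∀ x : Abelian.Ext.{u} (ModuleCat.of S Y) (ModuleCat.of S S) d, x = 0 from
    (h x).trans (h x').symm
  intro x
  by_contra hx
  obtain ⟨φ, hφ⟩ := Groth.Agent.Lib.Helper85.Matlis.exists_hom_apply_ne_zero hf x hx
  rw [Subsingleton.elim φ 0] at hφ
  exact hφ rfl

theorem ne_maximalIdeal_of_dim_quot_eq_one (P : Ideal S) [P.IsPrime]
    (hP : ringKrullDim (S ⧸ P) = 1) : P ≠ maximalIdeal S := by
  rintro rfl
  have h0 : ringKrullDim (S ⧸ maximalIdeal S) = 0 :=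
    ringKrullDim_eq_zero_of_isField ((Ideal.Quotient.maximal_ideal_iff_isField_quotient _).mp
      (maximalIdeal.isMaximal S))
  rw [h0] at hP
  exact zero_ne_one hP

/-- **HLVT, Gorenstein complete domain case**: `H^d_P(S) = 0` for a prime `P` with `dim S/P = 1`. -/
theorem subsingleton_H_top_gor (S : Type u) [CommRing S] [IsDomain S]
    [LocCoh.IsGorensteinLocalRing S] [IsAdicComplete (maximalIdeal S) S] (d : ℕ)
    (hdim : ringKrullDim S = d) (P : Ideal S) [P.IsPrime] (hP : ringKrullDim (S ⧸ P) = 1) :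
    Subsingleton ((localCohomology P d).obj (ModuleCat.of S S)) := by
  refine ⟨fun y y' => ?_⟩
  suffices h : ∀ y : (localCohomology P d).obj (ModuleCat.of S S), y = 0 from
    (h y).trans (h y').symm
  intro y
  obtain ⟨t, x, rfl⟩ := exists_rep P d y
  rw [← mk_proj P d (Nat.le_succ t) x]
  set x' := (Abelian.Ext.mk₀ (proj P (Nat.le_succ t))).comp x (zero_add d) with hx'
  obtain ⟨m, hnm, hle⟩ := Groth.Agent.S1735.result S P hP (t + 1) (by omega)
  rw [mk_eq_zero_iff]
  refine ⟨m, hnm, ?_⟩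
  -- factor the projection through `S ⧸ P^(m)`
  let a : Q P m ⟶ ModuleCat.of S (S ⧸ symb P m) :=
    ModuleCat.ofHom (Submodule.mapQ _ _ LinearMap.id (pow_le_symb P m))
  let b : ModuleCat.of S (S ⧸ symb P m) ⟶ Q P (t + 1) :=
    ModuleCat.ofHom (Submodule.mapQ _ _ LinearMap.id hle)
  have hab : proj P hnm = a ≫ b := by
    apply ModuleCat.hom_ext
    apply LinearMap.ext
    intro z
    obtain ⟨z, rfl⟩ := Submodule.Quotient.mk_surjective _ z
    rfl
  have hvan : Subsingleton (Abelian.Ext.{u} (ModuleCat.of S (S ⧸ symb P m)) (ModuleCat.of S S) d) :=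
    ext_top_subsingleton S d hdim (S ⧸ symb P m)
      (torsionSub_quot_symb P (ne_maximalIdeal_of_dim_quot_eq_one P hP) m)
  rw [hab, ← Abelian.Ext.mk₀_comp_mk₀, Abelian.Ext.comp_assoc_of_second_deg_zero,
    Subsingleton.elim ((Abelian.Ext.mk₀ b).comp x' (zero_add d)) 0, Abelian.Ext.comp_zero]

end Groth.Agent.Lib.Helper92.HLVT
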