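import Mathlib
import Groth.Prelude.Def_Wider
import Groth.Agent.Lib.Helper73.FFDelta.RelCodim
import Groth.Agent.Lib.Helper92.ConnDimRing
set_option autoImplicit false
set_option linter.style.haveILetI false
universe u

namespace Groth.Agent.Lib.Helper92.IccCd

open IsLocalRing

theorem krullDim_Icc_le_of_cdLE {A R : Type u} [CommRing A] [IsNoetherianRing A] [CommRing R] [IsNoetherianRing R] [Algebra A R] (I : Ideal A) (d : ℕ) (hcd : LocCoh.CdLE A I d) (p' q' : PrimeSpectrum R) (hpq : p' ≤ q') (hq' : I.map (algebraMap A R) ≤ q'.asIdeal) (hmax : ∀ r : PrimeSpectrum R, p' ≤ r → r ≤ q' → I.map (algebraMap A R) ≤ r.asIdeal → r = q') : Order.krullDim (Set.Icc p' q') ≤ ((d : ℕ∞) : WithBot ℕ∞) := by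
  rw [← Groth.Agent.Lib.Helper73.ringKrullDim_localization_quotient_eq_krullDim_Icc p' q' hpq]
  set S := Localization.AtPrime q'.asIdeal with hS
  set P : Ideal S := p'.asIdeal.map (algebraMap R S) with hP
  have hdisj : Disjoint (q'.asIdeal.primeCompl : Set R) p'.asIdeal := by
    rw [Set.disjoint_left]
    intro x hx hxp
    exact hx (hpq hxp)
  haveI hPprime : P.IsPrime :=
    IsLocalization.isPrime_of_isPrime_disjoint q'.asIdeal.primeCompl S _ p'.2 hdisj
  -- the algebra structure A → C
  have hg : ∀ a : A, algebraMap A (S ⧸ P) a = Ideal.Quotient.mk P (algebraMap R S (algebraMap A R a)) := by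
    intro a
    rw [← IsScalarTower.algebraMap_apply A R S]
    rfl
  -- cd does not grow
  have hcdC : LocCoh.CdLE (S ⧸ P) (I.map (algebraMap A (S ⧸ P))) d := by
    intro N _ _ i hi
    letI : Module A N := Module.compHom N (algebraMap A (S ⧸ P))
    haveI : IsScalarTower A (S ⧸ P) N := IsScalarTower.of_compHom A (S ⧸ P) N
    obtain ⟨φ, -⟩ := Helper98.CechRestrict.lc_restrict (R := A) (R' := S ⧸ P) I N i
    have := hcd N i hi
    exact φ.toEquiv.subsingleton
  set J : Ideal (S ⧸ P) := I.map (algebraMap A (S ⧸ P)) with hJ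
  -- comap of the maximal ideal of C to S is the maximal ideal
  have hcomap : (maximalIdeal (S ⧸ P)).comap (Ideal.Quotient.mk P) = maximalIdeal S := by
    haveI : ((maximalIdeal (S ⧸ P)).comap (Ideal.Quotient.mk P)).IsMaximal :=
      Ideal.comap_isMaximal_of_surjective _ Ideal.Quotient.mk_surjective
    exact IsLocalRing.eq_maximalIdeal this
  have hJle : J ≤ maximalIdeal (S ⧸ P) := by
    rw [hJ, Ideal.map_le_iff_le_comap]
    intro a ha
    rw [Ideal.mem_comap, hg]
    have h1 : algebraMap A R a ∈ q'.asIdeal := hq' (Ideal.mem_map_of_mem _ ha)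
    have h2 : algebraMap R S (algebraMap A R a) ∈ maximalIdeal S :=
      (IsLocalization.AtPrime.to_map_mem_maximal_iff S q'.asIdeal _).2 h1
    rw [← hcomap] at h2
    exact h2
  have hJtop : J ≠ ⊤ := fun h => (maximalIdeal.isMaximal (S ⧸ P)).ne_top (top_le_iff.1 (h ▸ hJle))
  have hmain := Groth.Agent.Lib.Helper92.ConnDimRing.dim_le_cd_add_dim J hJtop d hcdC
  -- the quotient has dimension ≤ 0
  have hzero : ringKrullDim ((S ⧸ P) ⧸ J) ≤ 0 := by
    haveI : Subsingleton (PrimeSpectrum ((S ⧸ P) ⧸ J)) := by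
      let h : S →+* (S ⧸ P) ⧸ J := (Ideal.Quotient.mk J).comp (Ideal.Quotient.mk P)
      have hsurj : Function.Surjective h :=
        Ideal.Quotient.mk_surjective.comp Ideal.Quotient.mk_surjective
      have key : ∀ 𝔯 : PrimeSpectrum ((S ⧸ P) ⧸ J), 𝔯.asIdeal.comap h = maximalIdeal S := by
        intro 𝔯
        have hsp : (𝔯.asIdeal.comap h).IsPrime := Ideal.comap_isPrime h 𝔯.asIdeal
        let r : PrimeSpectrum R := ⟨(𝔯.asIdeal.comap h).comap (algebraMap R S), Ideal.comap_isPrime _ _⟩
        have hr1 : p' ≤ r := by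
          intro x hx
          change h (algebraMap R S x) ∈ 𝔯.asIdeal
          have : Ideal.Quotient.mk P (algebraMap R S x) = 0 :=
            Ideal.Quotient.eq_zero_iff_mem.2 (Ideal.mem_map_of_mem _ hx)
          change Ideal.Quotient.mk J (Ideal.Quotient.mk P (algebraMap R S x)) ∈ 𝔯.asIdeal
          rw [this, map_zero]
          exact zero_mem _
        have hr2 : r ≤ q' := by
          intro x hx
          by_contra hxq
          have hu : IsUnit (algebraMap R S x) :=
            IsLocalization.map_units S (⟨x, hxq⟩ : q'.asIdeal.primeCompl)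
          have : h (algebraMap R S x) ∈ 𝔯.asIdeal := hx
          exact 𝔯.2.ne_top (Ideal.eq_top_of_isUnit_mem _ this (hu.map h))
        have hr3 : I.map (algebraMap A R) ≤ r.asIdeal := by
          rw [Ideal.map_le_iff_le_comap]
          intro a ha
          change h (algebraMap R S (algebraMap A R a)) ∈ 𝔯.asIdeal
          change Ideal.Quotient.mk J (Ideal.Quotient.mk P (algebraMap R S (algebraMap A R a))) ∈ 𝔯.asIdeal
          rw [← hg]
          have : Ideal.Quotient.mk J (algebraMap A (S ⧸ P) a) = 0 :=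
            Ideal.Quotient.eq_zero_iff_mem.2 (Ideal.mem_map_of_mem _ ha)
          rw [this]
          exact zero_mem _
        have hrq := hmax r hr1 hr2 hr3
        have h3 := IsLocalization.map_under q'.asIdeal.primeCompl S (𝔯.asIdeal.comap h)
        rw [← h3]
        have h4 : Ideal.under R (𝔯.asIdeal.comap h) = q'.asIdeal :=
          congrArg PrimeSpectrum.asIdeal hrq
        rw [h4]
        exact Localization.AtPrime.map_eq_maximalIdeal
      constructor
      intro a b
      apply PrimeSpectrum.ext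
      apply Ideal.comap_injective_of_surjective h hsurj
      rw [key a, key b]
    exact Order.krullDim_nonpos_of_subsingleton
  calc ringKrullDim (S ⧸ P) ≤ (d : WithBot ℕ∞) + ringKrullDim ((S ⧸ P) ⧸ J) := hmain
    _ ≤ (d : WithBot ℕ∞) + 0 := by gcongr
    _ = ((d : ℕ∞) : WithBot ℕ∞) := by simp

end Groth.Agent.Lib.Helper92.IccCd
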