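import Groth.Agent.Lib.Helper92.LocCohDelta
import Groth.Agent.Lib.Helper92.LocCohDTExact

/-! The δ-functor `(D_I, H^2_I, H^3_I, …)` and `R^i D_I ≅ H^{i+1}_I` for `i ≥ 1`. -/

open CategoryTheory CategoryTheory.Limits Opposite

namespace Groth.Agent.Lib.Helper92.LC

open Groth.Agent.Lib.Helper92.OldExt Groth.Agent.Lib.Helper42.DeltaFun
  Groth.Agent.Lib.Helper42.DeltaRDer Groth.Agent.Lib.Helper92.IdealTransform LocCoh

universe u
variable {R : Type u} [CommRing R] (I : Ideal R)

/-- the functors `D_I, H^2_I, H^3_I, …` -/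
noncomputable def dtT : ℕ → (ModuleCat.{u} R ⥤ ModuleCat.{u} R)
  | 0 => idealTransform I
  | n + 1 => localCohomology I (n + 2)

section

variable {S S' : ShortComplex (ModuleCat.{u} R)} (hS : S.ShortExact) (hS' : S'.ShortExact)

/-- the connecting map `D_I(X₃) → H^2_I(X₁)` -/
noncomputable def dtδ₀ : DT I S.X₃ →ₗ[R] (localCohomology I 2).obj S.X₁ :=
  δ I 1 hS ∘ₗ θ I S.X₃

theorem dtδ₀_apply (z : DT I S.X₃) : dtδ₀ I hS z = δ I 1 hS (θ I S.X₃ z) := rfl

theorem dtδ₀_naturality (φ : S ⟶ S') (z : DT I S.X₃) :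
    dtδ₀ I hS' (((idealTransform I).map φ.τ₃).hom z) = Hmap I 2 φ.τ₁ (dtδ₀ I hS z) := by
  rw [dtδ₀_apply, dtδ₀_apply, ← δ_naturality I hS hS' φ 1]
  congr 1
  exact θ_naturality I (M := S.X₃) (N := S'.X₃) φ.τ₃.hom z

theorem dtδ₀_map_g (y : DT I S.X₂) : dtδ₀ I hS (((idealTransform I).map S.g).hom y) = 0 := by
  rw [dtδ₀_apply]
  have h := θ_naturality I (M := S.X₂) (N := S.X₃) S.g.hom y
  rw [ModuleCat.ofHom_hom] at h
  rw [h, δ_Hmap_g]

theorem Hmap_f_dtδ₀ (z : DT I S.X₃) : Hmap I 2 S.f (dtδ₀ I hS z) = 0 := by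
  rw [dtδ₀_apply, Hmap_f_δ]

theorem dt_exact₃ (z : DT I S.X₃) (hz : dtδ₀ I hS z = 0) :
    ∃ y : DT I S.X₂, ((idealTransform I).map S.g).hom y = z := by
  rw [dtδ₀_apply] at hz
  obtain ⟨w, hw⟩ := exact₃ I 1 hS _ hz
  obtain ⟨y, rfl⟩ := θ_surjective I S.X₂ w
  have hnat := θ_naturality I (M := S.X₂) (N := S.X₃) S.g.hom y
  rw [ModuleCat.ofHom_hom] at hnat
  have h0 : θ I S.X₃ (z - ((idealTransform I).map S.g).hom y) = 0 := by
    rw [map_sub, hnat, hw, sub_self]
  obtain ⟨m₃, hm₃⟩ := θ_eq_zero I S.X₃ _ h0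
  obtain ⟨m₂, rfl⟩ := (ModuleCat.epi_iff_surjective S.g).1 hS.epi_g m₃
  have hnat2 := toDT_naturality I (M := S.X₂) (N := S.X₃) S.g.hom m₂
  rw [ModuleCat.ofHom_hom] at hnat2
  refine ⟨y + toDT I S.X₂ m₂, ?_⟩
  rw [map_add, hnat2]
  change _ + toDT I S.X₃ (S.g.hom m₂) = z
  rw [hm₃]
  abel

theorem dt_exact₁ (x : (localCohomology I 2).obj S.X₁) (hx : Hmap I 2 S.f x = 0) :
    ∃ z : DT I S.X₃, dtδ₀ I hS z = x := by
  obtain ⟨w, rfl⟩ := exact₁ I 1 hS x hx
  obtain ⟨z, rfl⟩ := θ_surjective I S.X₃ w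
  exact ⟨z, rfl⟩

end

/-- the δ-functor `(D_I, H^2_I, H^3_I, …)` -/
noncomputable def dtDelta : DeltaFunctor (ModuleCat.{u} R) (ModuleCat.{u} R) where
  T := dtT I
  δ {S} hS n :=
    match n with
    | 0 => ModuleCat.ofHom (dtδ₀ I hS)
    | n + 1 => ModuleCat.ofHom (δ I (n + 2) hS)
  δ_natural {_ _} hS hS' φ n := by
    match n with
    | 0 =>
      ext z
      exact dtδ₀_naturality I hS hS' φ z
    | n + 1 =>
      ext z
      exact δ_naturality I hS hS' φ (n + 2) z
  map_δ {_} hS n := by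
    match n with
    | 0 =>
      ext y
      exact dtδ₀_map_g I hS y
    | n + 1 =>
      ext y
      exact δ_Hmap_g I (n + 2) hS y
  δ_map {_} hS n := by
    match n with
    | 0 =>
      ext z
      exact Hmap_f_dtδ₀ I hS z
    | n + 1 =>
      ext z
      exact Hmap_f_δ I (n + 2) hS z
  exact₃ {S} hS n := by
    match n with
    | 0 =>
      rw [ShortComplex.ShortExact.moduleCat_exact_iff_function_exact]
      intro z
      constructor
      · intro hz
        exact dt_exact₃ I hS z hz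
      · rintro ⟨y, rfl⟩
        exact dtδ₀_map_g I hS y
    | n + 1 =>
      rw [ShortComplex.ShortExact.moduleCat_exact_iff_function_exact]
      intro z
      constructor
      · intro hz
        exact exact₃ I (n + 2) hS z hz
      · rintro ⟨y, rfl⟩
        exact δ_Hmap_g I (n + 2) hS y
  exact₁ {S} hS n := by
    match n with
    | 0 =>
      rw [ShortComplex.ShortExact.moduleCat_exact_iff_function_exact]
      intro x
      constructor
      · intro hx
        exact dt_exact₁ I hS x hx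
      · rintro ⟨z, rfl⟩
        exact Hmap_f_dtδ₀ I hS z
    | n + 1 =>
      rw [ShortComplex.ShortExact.moduleCat_exact_iff_function_exact]
      intro x
      constructor
      · intro hx
        exact exact₁ I (n + 2) hS x hx
      · rintro ⟨z, rfl⟩
        exact Hmap_f_δ I (n + 2) hS z

lemma dtDelta_eff : (dtDelta I).Eff := by
  intro M _ n
  have := subsingleton_of_injective I (n + 1) M
  change IsZero ((localCohomology I (n + 1 + 1)).obj M)
  exact ModuleCat.isZero_of_subsingleton _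

/-- `D_I` is left exact -/
instance preservesFiniteLimits_idealTransform : PreservesFiniteLimits (idealTransform I) := by
  refine ((Functor.preservesFiniteLimits_tfae (idealTransform I)).out 0 3).1 ?_
  intro S hS
  constructor
  · rw [ShortComplex.moduleCat_exact_iff]
    intro y hy
    exact DT_exact I hS y hy
  · exact (ModuleCat.mono_iff_injective _).2 (DT_map_f_injective I hS)

/-- `R^{i+1} D_I ≅ H^{i+2}_I` -/
noncomputable def rightDerivedDTIso (i : ℕ) :
    (idealTransform I).rightDerived (i + 1) ≅ localCohomology I (i + 1 + 1) :=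
  DeltaFunctor.isoOfZero (A := ofRightDerived (idealTransform I)) (B := dtDelta I)
    (ofRightDerived_eff _) (dtDelta_eff I)
    ((idealTransform I).rightDerivedZeroIsoSelf) (i + 1)

end Groth.Agent.Lib.Helper92.LC
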