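import Mathlib.RingTheory.KrullDimension.NonZeroDivisors
import Mathlib.RingTheory.Noetherian.Defs
import Mathlib.RingTheory.LocalRing.MaximalIdeal.Basic
import Mathlib.RingTheory.Spectrum.Prime.Topology

namespace Groth.Agent.Lib.Helper92.LC

universe u
variable {R : Type u} [CommRing R] [IsNoetherianRing R] [IsLocalRing R]

/-- in a Noetherian local ring, an ideal `I` with `dim R/I > 0` is contained in a prime `q` with
`dim R/q = 1`. -/
theorem exists_prime_dim_one (I : Ideal R) (hI : 0 < ringKrullDim (R ⧸ I)) :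
    ∃ q : Ideal R, q.IsPrime ∧ I ≤ q ∧ ringKrullDim (R ⧸ q) = 1 := by
  rw [ringKrullDim_quotient, Order.krullDim_pos_iff] at hI
  obtain ⟨x, y, hxy⟩ := hI
  have hIx : I ≤ x.1.asIdeal := x.2
  have hxm : x.1.asIdeal ≠ IsLocalRing.maximalIdeal R := by
    intro h
    have h1 : y.1.asIdeal ≤ x.1.asIdeal := h ▸ IsLocalRing.le_maximalIdeal y.1.isPrime.ne_top
    have h2 : x.1.asIdeal < y.1.asIdeal := hxy
    exact absurd (lt_of_lt_of_le h2 h1) (lt_irrefl _)
  obtain ⟨q, hqS, hqmax⟩ := set_has_maximal_iff_noetherian.2 ‹IsNoetherianRing R›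
    {q : Ideal R | q.IsPrime ∧ x.1.asIdeal ≤ q ∧ q ≠ IsLocalRing.maximalIdeal R}
    ⟨x.1.asIdeal, x.1.isPrime, le_refl _, hxm⟩
  obtain ⟨hqp, hxq, hqm⟩ := hqS
  refine ⟨q, hqp, hIx.trans hxq, ?_⟩
  have hqlt : q < IsLocalRing.maximalIdeal R :=
    lt_of_le_of_ne (IsLocalRing.le_maximalIdeal hqp.ne_top) hqm
  rw [ringKrullDim_quotient]
  apply le_antisymm
  · rw [Order.krullDim_le_one_iff]
    intro z
    have hqz : q ≤ z.1.asIdeal := z.2
    by_cases hz : z.1.asIdeal = IsLocalRing.maximalIdeal R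
    · right
      intro z' _
      have : z'.1.asIdeal ≤ z.1.asIdeal := hz ▸ IsLocalRing.le_maximalIdeal z'.1.isPrime.ne_top
      exact this
    · left
      intro z' _
      have hzq : ¬ q < z.1.asIdeal := hqmax z.1.asIdeal ⟨z.1.isPrime, hxq.trans hqz, hz⟩
      have heq : q = z.1.asIdeal := by
        by_contra hne
        exact hzq (lt_of_le_of_ne hqz hne)
      have hqz' : q ≤ z'.1.asIdeal := z'.2
      have : z.1.asIdeal ≤ z'.1.asIdeal := heq ▸ hqz'
      exact this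
  · rw [Order.one_le_krullDim_iff]
    refine ⟨⟨⟨q, hqp⟩, ?_⟩, ⟨IsLocalRing.closedPoint R, ?_⟩, ?_⟩
    · rw [PrimeSpectrum.mem_zeroLocus]
    · rw [PrimeSpectrum.mem_zeroLocus]
      exact hqlt.le
    · exact hqlt

end Groth.Agent.Lib.Helper92.LC
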