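import Groth.Agent.Lib.Helper92.LocCohSeq
import Groth.Agent.Lib.Helper92.LocCohGV
import Groth.Agent.S11614
import Mathlib.RingTheory.Jacobson.Ideal

open CategoryTheory CategoryTheory.Limits Opposite

namespace Groth.Agent.Lib.Helper92.LC

universe u
variable {R : Type u} [CommRing R]

/-- inverting an element of the Jacobson radical lowers the dimension. -/
theorem ringKrullDim_localization_lt (d : ℕ) (hd : ringKrullDim R = d) (b : R)
    (hb : b ∈ (⊥ : Ideal R).jacobson) :
    ringKrullDim (Localization (Submonoid.powers b)) < (d : WithBot ℕ∞) := by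
  rw [ringKrullDim, Order.krullDim_lt_coe_iff]
  intro l
  let f : PrimeSpectrum (Localization (Submonoid.powers b)) → PrimeSpectrum R :=
    PrimeSpectrum.comap (algebraMap R (Localization (Submonoid.powers b)))
  have hf : StrictMono f := by
    intro p q hpq
    have h1 : p.asIdeal < q.asIdeal := hpq
    exact (IsLocalization.orderEmbedding (Submonoid.powers b)
      (Localization (Submonoid.powers b))).lt_iff_lt.2 h1
  let q := f l.last
  have hbq : b ∉ q.asIdeal := by
    intro hbq
    have h1 : algebraMap R (Localization (Submonoid.powers b)) b ∈ l.last.asIdeal := hbq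
    have h2 : IsUnit (algebraMap R (Localization (Submonoid.powers b)) b) :=
      IsLocalization.map_units _ (⟨b, Submonoid.mem_powers b⟩ : Submonoid.powers b)
    exact l.last.isPrime.ne_top (Ideal.eq_top_of_isUnit_mem _ h1 h2)
  obtain ⟨m, hm, hqm⟩ := Ideal.exists_le_maximal q.asIdeal q.isPrime.ne_top
  have hbm : b ∈ m := by
    rw [Ideal.jacobson, Ideal.mem_sInf] at hb
    exact hb ⟨bot_le, hm⟩
  let m' : PrimeSpectrum R := ⟨m, hm.isPrime⟩
  have hlt : q < m' := by
    refine lt_of_le_of_ne hqm ?_
    intro h
    apply hbq
    rw [h]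
    exact hbm
  have hlast : (l.map f hf).last = q := LTSeries.last_map l f hf
  have h1 := Order.LTSeries.length_le_krullDim ((l.map f hf).snoc m' (by rw [hlast]; exact hlt))
  rw [← ringKrullDim, hd] at h1
  have h2 : ((l.map f hf).snoc m' (by rw [hlast]; exact hlt)).length = l.length + 1 := by
    change l.length + 0 + 1 = l.length + 1
    omega
  rw [h2] at h1
  have : l.length + 1 ≤ d := by exact_mod_cast h1
  omega

end Groth.Agent.Lib.Helper92.LC

namespace Groth.Agent.Lib.Helper92.LC

universe u
variable {R : Type u} [CommRing R] [IsNoetherianRing R]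

/-- `H^d_a(M_b) = 0` when `b` is in the Jacobson radical and `d = dim R`. -/
theorem subsingleton_H_localizedModule_of_mem_jacobson (d : ℕ) (hd : ringKrullDim R = d)
    (a : Ideal R) (b : R) (hb : b ∈ (⊥ : Ideal R).jacobson)
    (M : Type u) [AddCommGroup M] [Module R M] :
    Subsingleton ((localCohomology a d).obj
      (ModuleCat.of R (LocalizedModule (Submonoid.powers b) M))) := by
  obtain ⟨φ, -⟩ := Groth.Agent.S11614.result R (Localization (Submonoid.powers b)) a
    (LocalizedModule (Submonoid.powers b) M) d
  have hlt := ringKrullDim_localization_lt d hd b hb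
  have : Subsingleton (LocCoh.H (Ideal.map (algebraMap R (Localization (Submonoid.powers b))) a) d
      (LocalizedModule (Submonoid.powers b) M)) :=
    subsingleton_of_supportDim_lt _ d _
      (lt_of_le_of_lt (Module.supportDim_le_ringKrullDim _ _) hlt)
  exact φ.symm.injective.subsingleton

/-- one-generator step. -/
theorem top_vanishing_step (d : ℕ) (hd : ringKrullDim R = d) (a : Ideal R) (b : R)
    (hb : b ∈ (⊥ : Ideal R).jacobson)
    (h : ∀ (M : Type u) [AddCommGroup M] [Module R M],
      Subsingleton ((localCohomology (a ⊔ Ideal.span {b}) d).obj (ModuleCat.of R M)))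
    (M : Type u) [AddCommGroup M] [Module R M] :
    Subsingleton ((localCohomology a d).obj (ModuleCat.of R M)) := by
  have hex := (les_sup_span a b d (ModuleCat.of R M)).1
  have h1 := subsingleton_H_localizedModule_of_mem_jacobson d hd a b hb M
  have h2 := h M
  refine ⟨fun y y' => ?_⟩
  suffices h : ∀ y : (localCohomology a d).obj (ModuleCat.of R M), y = 0 from
    (h y).trans (h y').symm
  intro y
  obtain ⟨u, rfl⟩ := (hex y).1 (Subsingleton.elim _ _)
  rw [Subsingleton.elim u 0, map_zero]

/-- finitely many generators. -/
theorem top_vanishing_finset (d : ℕ) (hd : ringKrullDim R = d) (I : Ideal R) (s : Finset R)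
    (hs : ∀ x ∈ s, x ∈ (⊥ : Ideal R).jacobson)
    (h : ∀ (M : Type u) [AddCommGroup M] [Module R M],
      Subsingleton ((localCohomology (I ⊔ Ideal.span (s : Set R)) d).obj (ModuleCat.of R M))) :
    ∀ (M : Type u) [AddCommGroup M] [Module R M],
      Subsingleton ((localCohomology I d).obj (ModuleCat.of R M)) := by
  classical
  induction s using Finset.induction_on with
  | empty =>
    intro M _ _
    have := h M
    rwa [Finset.coe_empty, Ideal.span_empty, sup_bot_eq] at this
  | insert b s hbs ih =>
    apply ih (fun x hx => hs x (Finset.mem_insert_of_mem hx))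
    intro M _ _
    apply top_vanishing_step d hd _ b (hs b (Finset.mem_insert_self b s))
    intro M' _ _
    have := h M'
    rwa [Finset.coe_insert, Ideal.span_insert, sup_comm (Ideal.span {b}), ← sup_assoc] at this

/-- if `I ≤ I' ≤ Jac(R)` and `cd(I') < dim R` then `cd(I) < dim R`. -/
theorem top_vanishing_of_le_jacobson (d : ℕ) (hd : ringKrullDim R = d) (I I' : Ideal R)
    (hII' : I ≤ I') (hJ : I' ≤ (⊥ : Ideal R).jacobson)
    (h : ∀ (M : Type u) [AddCommGroup M] [Module R M] (i : ℕ), d ≤ i →
      Subsingleton ((localCohomology I' i).obj (ModuleCat.of R M)))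
    (M : Type u) [AddCommGroup M] [Module R M] (i : ℕ) (hi : d ≤ i) :
    Subsingleton ((localCohomology I i).obj (ModuleCat.of R M)) := by
  classical
  rcases Nat.lt_or_eq_of_le hi with hlt | rfl
  · exact cdLE_of_ringKrullDim_le I d (le_of_eq hd) M i hlt
  · obtain ⟨s, hs⟩ := (IsNoetherian.noetherian I' : I'.FG)
    have hs' : Ideal.span (s : Set R) = I' := hs
    apply top_vanishing_finset d hd I s
    · intro x hx
      apply hJ
      rw [← hs']
      exact Ideal.subset_span hx
    · intro M' _ _
      rw [hs', sup_eq_right.2 hII']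
      exact h M' d le_rfl

end Groth.Agent.Lib.Helper92.LC
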