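import Groth.Agent.Lib.Helper92.OldExt
import Groth.Prelude.Def_Wider
import Mathlib.Algebra.Homology.LocalCohomology
import Mathlib.Algebra.Category.ModuleCat.FilteredColimits
import Mathlib.CategoryTheory.Limits.ConcreteCategory.Basic

open CategoryTheory CategoryTheory.Limits Opposite

namespace Groth.Agent.Lib.Helper92.LC

open Groth.Agent.Lib.Helper92.OldExt

universe u
variable {R : Type u} [CommRing R] (I : Ideal R) (i : ℕ)

instance presForget' : PreservesFilteredColimitsOfSize.{0, 0} (forget (ModuleCat.{u} R)) :=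
  preservesSmallestFilteredColimits_of_preservesFilteredColimits.{u, u} _

/-- `R/I^t` as an object of `ModuleCat R`. -/
abbrev Q (t : ℕ) : ModuleCat.{u} R := ModuleCat.of R (R ⧸ I ^ t)

/-- The projection `R/I^s → R/I^t` for `t ≤ s`. -/
def proj {s t : ℕ} (h : t ≤ s) : Q I s ⟶ Q I t :=
  ModuleCat.ofHom (Submodule.mapQ _ _ LinearMap.id (Ideal.pow_le_pow_right h))

/-- the diagram defining local cohomology -/
noncomputable abbrev diag : ℕᵒᵖᵒᵖ ⥤ ModuleCat.{u} R ⥤ ModuleCat.{u} R :=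
  localCohomology.diagram (localCohomology.idealPowersDiagram I) i

/-- The old-Ext element level: class of `x ∈ oldExt^i(R/I^t, M)` in `H^i_I(M)`. -/
noncomputable def mkOld {M : ModuleCat.{u} R} (t : ℕ)
    (x : ((Ext R (ModuleCat.{u} R) i).obj (op (Q I t))).obj M) : (localCohomology I i).obj M :=
  ((colimit.ι (diag I i) (op (op t))).app M).hom x

/-- The evaluated diagram. -/
noncomputable abbrev evDiag (M : ModuleCat.{u} R) : ℕᵒᵖᵒᵖ ⥤ ModuleCat.{u} R :=
  diag I i ⋙ (evaluation _ _).obj M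

/-- `H^i_I(M) ≅ colim_t Ext^i(R/I^t, M)`. -/
noncomputable abbrev isoEv (M : ModuleCat.{u} R) :
    (localCohomology I i).obj M ≅ colimit (evDiag I i M) :=
  colimitObjIsoColimitCompEvaluation (diag I i) M

theorem isoEv_inv_ι (M : ModuleCat.{u} R) (t : ℕ)
    (x : ((Ext R (ModuleCat.{u} R) i).obj (op (Q I t))).obj M) :
    (isoEv I i M).inv.hom ((colimit.ι (evDiag I i M) (op (op t))).hom x) = mkOld I i t x := by
  have := colimitObjIsoColimitCompEvaluation_ι_inv (diag I i) (op (op t)) M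
  exact congrArg (fun g => g.hom x) this

theorem isoEv_hom_mkOld (M : ModuleCat.{u} R) (t : ℕ)
    (x : ((Ext R (ModuleCat.{u} R) i).obj (op (Q I t))).obj M) :
    (isoEv I i M).hom.hom (mkOld I i t x) = (colimit.ι (evDiag I i M) (op (op t))).hom x := by
  have := colimitObjIsoColimitCompEvaluation_ι_app_hom (diag I i) (op (op t)) M
  exact congrArg (fun g => g.hom x) this

theorem exists_repOld {M : ModuleCat.{u} R} (y : (localCohomology I i).obj M) :
    ∃ (t : ℕ) (x : ((Ext R (ModuleCat.{u} R) i).obj (op (Q I t))).obj M), mkOld I i t x = y := by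
  obtain ⟨j, x, hx⟩ := Concrete.colimit_exists_rep (evDiag I i M) ((isoEv I i M).hom.hom y)
  refine ⟨j.unop.unop, x, ?_⟩
  have h1 := isoEv_inv_ι I i M j.unop.unop x
  rw [← h1]
  have : (colimit.ι (evDiag I i M) (op (op j.unop.unop))).hom x = (isoEv I i M).hom.hom y := hx
  rw [this]
  change ((isoEv I i M).hom ≫ (isoEv I i M).inv).hom y = y
  rw [Iso.hom_inv_id]; rfl

theorem mkOld_eq_mkOld_iff {M : ModuleCat.{u} R} {s t : ℕ}
    (x : ((Ext R (ModuleCat.{u} R) i).obj (op (Q I s))).obj M)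
    (y : ((Ext R (ModuleCat.{u} R) i).obj (op (Q I t))).obj M) :
    mkOld I i s x = mkOld I i t y ↔
      ∃ (k : ℕ) (hs : s ≤ k) (ht : t ≤ k),
        (((Ext R (ModuleCat.{u} R) i).map (proj I hs).op).app M).hom x =
        (((Ext R (ModuleCat.{u} R) i).map (proj I ht).op).app M).hom y := by
  constructor
  · intro h
    have h' : (colimit.ι (evDiag I i M) (op (op s))).hom x =
        (colimit.ι (evDiag I i M) (op (op t))).hom y := by
      rw [← isoEv_hom_mkOld, ← isoEv_hom_mkOld, h]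
    obtain ⟨k, a, b, hab⟩ := (Concrete.colimit_rep_eq_iff_exists (evDiag I i M)
      (i := op (op s)) (j := op (op t)) x y).1 h'
    refine ⟨k.unop.unop, leOfHom a.unop.unop, leOfHom b.unop.unop, ?_⟩
    exact hab
  · rintro ⟨k, hs, ht, h⟩
    rw [← isoEv_inv_ι, ← isoEv_inv_ι]
    congr 1
    refine (Concrete.colimit_rep_eq_iff_exists (evDiag I i M)
      (i := op (op s)) (j := op (op t)) x y).2
      ⟨op (op k), (homOfLE hs).op.op, (homOfLE ht).op.op, ?_⟩
    exact h

theorem map_mkOld {M N : ModuleCat.{u} R} (φ : M ⟶ N) (t : ℕ)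
    (x : ((Ext R (ModuleCat.{u} R) i).obj (op (Q I t))).obj M) :
    ((localCohomology I i).map φ).hom (mkOld I i t x) =
      mkOld I i t ((((Ext R (ModuleCat.{u} R) i).obj (op (Q I t))).map φ).hom x) := by
  have := (colimit.ι (diag I i) (op (op t))).naturality φ
  exact (congrArg (fun g => g.hom x) this).symm


section New

variable {M : ModuleCat.{u} R}

/-- The class in `H^i_I(M)` of `x ∈ Ext^i(R/I^t, M)` (`Abelian.Ext`). -/
noncomputable def mk (t : ℕ) (x : Abelian.Ext.{u} (Q I t) M i) : (localCohomology I i).obj M :=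
  mkOld I i t ((Φ (R := R) (Q I t) M i).symm x)

theorem mkOld_eq_mk (t : ℕ) (x : ((Ext R (ModuleCat.{u} R) i).obj (op (Q I t))).obj M) :
    mkOld I i t x = mk I i t (Φ (R := R) (Q I t) M i x) := by
  unfold mk
  rw [LinearEquiv.symm_apply_apply]

theorem exists_rep (y : (localCohomology I i).obj M) :
    ∃ (t : ℕ) (x : Abelian.Ext.{u} (Q I t) M i), mk I i t x = y := by
  obtain ⟨t, x, rfl⟩ := exists_repOld I i y
  exact ⟨t, Φ (R := R) (Q I t) M i x, (mkOld_eq_mk I i t x).symm⟩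

theorem mk_eq_mk_iff {s t : ℕ} (x : Abelian.Ext.{u} (Q I s) M i)
    (y : Abelian.Ext.{u} (Q I t) M i) :
    mk I i s x = mk I i t y ↔
      ∃ (k : ℕ) (hs : s ≤ k) (ht : t ≤ k),
        (Abelian.Ext.mk₀ (proj I hs)).comp x (zero_add i) =
        (Abelian.Ext.mk₀ (proj I ht)).comp y (zero_add i) := by
  unfold mk
  rw [mkOld_eq_mkOld_iff]
  refine exists_congr fun k => exists_congr fun hs => exists_congr fun ht => ?_
  rw [← (Φ (R := R) (Q I k) M i).injective.eq_iff, Φ_naturality_left, Φ_naturality_left,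
    LinearEquiv.apply_symm_apply, LinearEquiv.apply_symm_apply]

theorem mkOld_add (t : ℕ) (x y : ((Ext R (ModuleCat.{u} R) i).obj (op (Q I t))).obj M) :
    mkOld I i t (x + y) = mkOld I i t x + mkOld I i t y :=
  map_add ((colimit.ι (diag I i) (op (op t))).app M).hom x y

theorem mkOld_zero (t : ℕ) :
    mkOld I i t (0 : ((Ext R (ModuleCat.{u} R) i).obj (op (Q I t))).obj M) = 0 :=
  map_zero ((colimit.ι (diag I i) (op (op t))).app M).hom

theorem mkOld_smul (t : ℕ) (r : R) (x : ((Ext R (ModuleCat.{u} R) i).obj (op (Q I t))).obj M) :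
    mkOld I i t (r • x) = r • mkOld I i t x :=
  map_smul ((colimit.ι (diag I i) (op (op t))).app M).hom r x

theorem mk_add (t : ℕ) (x y : Abelian.Ext.{u} (Q I t) M i) :
    mk I i t (x + y) = mk I i t x + mk I i t y := by
  unfold mk
  rw [map_add, mkOld_add]

theorem mk_zero (t : ℕ) : mk I i t (0 : Abelian.Ext.{u} (Q I t) M i) = 0 := by
  unfold mk
  rw [map_zero, mkOld_zero]

theorem mk_smul (t : ℕ) (r : R) (x : Abelian.Ext.{u} (Q I t) M i) :
    mk I i t (r • x) = r • mk I i t x := by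
  unfold mk
  rw [map_smul, mkOld_smul]

theorem proj_refl (s : ℕ) : proj I (le_refl s) = 𝟙 _ := by
  apply ModuleCat.hom_ext
  apply LinearMap.ext
  intro y
  obtain ⟨y, rfl⟩ := Submodule.Quotient.mk_surjective _ y
  rfl

theorem proj_comp {r s t : ℕ} (h : t ≤ s) (h' : s ≤ r) :
    proj I h' ≫ proj I h = proj I (h.trans h') := by
  apply ModuleCat.hom_ext
  apply LinearMap.ext
  intro y
  obtain ⟨y, rfl⟩ := Submodule.Quotient.mk_surjective _ y
  rfl

theorem mk_proj {s t : ℕ} (h : t ≤ s) (x : Abelian.Ext.{u} (Q I t) M i) :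
    mk I i s ((Abelian.Ext.mk₀ (proj I h)).comp x (zero_add i)) = mk I i t x := by
  rw [mk_eq_mk_iff]
  refine ⟨s, le_rfl, h, ?_⟩
  rw [proj_refl, Abelian.Ext.mk₀_id_comp]

theorem mk_eq_zero_iff {t : ℕ} (x : Abelian.Ext.{u} (Q I t) M i) :
    mk I i t x = 0 ↔
      ∃ (k : ℕ) (h : t ≤ k), (Abelian.Ext.mk₀ (proj I h)).comp x (zero_add i) = 0 := by
  rw [← mk_zero I i t, mk_eq_mk_iff]
  constructor
  · rintro ⟨k, hs, _, h⟩
    exact ⟨k, hs, by rw [h, Abelian.Ext.comp_zero]⟩
  · rintro ⟨k, hs, h⟩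
    exact ⟨k, hs, hs, by rw [h, Abelian.Ext.comp_zero]⟩

theorem map_mk {N : ModuleCat.{u} R} (φ : M ⟶ N) (t : ℕ) (x : Abelian.Ext.{u} (Q I t) M i) :
    ((localCohomology I i).map φ).hom (mk I i t x) =
      mk I i t (x.comp (Abelian.Ext.mk₀ φ) (add_zero i)) := by
  unfold mk
  rw [map_mkOld, mkOld_eq_mk, Φ_naturality_right, LinearEquiv.apply_symm_apply]
  rfl

end New

end Groth.Agent.Lib.Helper92.LC
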