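import Groth.Agent.Lib.Helper92.LocCohExtCrit
import Groth.Agent.Lib.Helper92.LocCohDTExact

/-!
# `Ext^n(-, G)` is represented by `H^n_J(G)` on finite modules supported in `V(J)`
when `Ext^{n-1}(-, G)` vanishes there (SGA 2, exposé VI-type statement).
-/

open CategoryTheory CategoryTheory.Limits Opposite
open scoped Pointwise

namespace Groth.Agent.Lib.Helper92.LC

universe u

section Rep
variable {R : Type u} [CommRing R] [IsNoetherianRing R] (J : Ideal R)

/-- `Ext^n(F, G) ≃ Hom(F, H^n_J(G))` for all finite `F` supported in `V(J)`. -/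
def Rep (n : ℕ) (G : ModuleCat.{u} R) : Prop :=
  ∀ (F : Type u) [AddCommGroup F] [Module R F] [Module.Finite R F],
    Module.support R F ⊆ PrimeSpectrum.zeroLocus (J : Set R) →
    Nonempty (Abelian.Ext.{u} (ModuleCat.of R F) G n ≃ₗ[R]
      (F →ₗ[R] (localCohomology J n).obj G))

/-- vanishing of `Ext^i(F', G)` on all finite `F'` supported in `V(J)`. -/
def ExtVan (i : ℕ) (G : ModuleCat.{u} R) : Prop :=
  ∀ (F : Type u) [AddCommGroup F] [Module R F] [Module.Finite R F],
    Module.support R F ⊆ PrimeSpectrum.zeroLocus (J : Set R) →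
    Subsingleton (Abelian.Ext.{u} (ModuleCat.of R F) G i)

theorem rep_zero (G : ModuleCat.{u} R) : Rep J 0 G := by
  intro F _ _ _ hF
  obtain ⟨k, hk⟩ := exists_pow_le_annihilator_of_support_subset J F hF
  let e1 : Abelian.Ext.{u} (ModuleCat.of R F) G 0 ≃ₗ[R] (ModuleCat.of R F ⟶ G) :=
    Abelian.Ext.linearEquiv₀
  let e2 : (ModuleCat.of R F ⟶ G) ≃ₗ[R] (F →ₗ[R] G) := ModuleCat.homLinearEquiv
  have hmem : ∀ (φ : F →ₗ[R] G) (x : F), φ x ∈ DRing.torsionSub J G := fun φ x =>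
    ⟨k, fun a ha => by rw [← map_smul, Module.mem_annihilator.1 (hk ha) x, map_zero]⟩
  let e3 : (F →ₗ[R] G) ≃ₗ[R] (F →ₗ[R] DRing.torsionSub J G) :=
    { toFun := fun φ => φ.codRestrict _ (hmem φ)
      map_add' := fun φ ψ => by ext; rfl
      map_smul' := fun r φ => by ext; rfl
      invFun := fun ψ => (DRing.torsionSub J G).subtype ∘ₗ ψ
      left_inv := fun φ => by ext; rfl
      right_inv := fun ψ => by ext; rfl }
  let e4 : (F →ₗ[R] DRing.torsionSub J G) ≃ₗ[R] (F →ₗ[R] (localCohomology J 0).obj G) :=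
    LinearEquiv.congrRight (γEquiv J G).symm
  exact ⟨e1.trans (e2.trans (e3.trans e4))⟩

section Shift
variable {S : ShortComplex (ModuleCat.{u} R)} (hS : S.ShortExact)

include hS in
theorem nonempty_ext_equiv_succ (F : Type u) [AddCommGroup F] [Module R F] (n : ℕ)
    (h₂ : Subsingleton (Abelian.Ext.{u} (ModuleCat.of R F) S.X₂ n))
    (h₂' : Subsingleton (Abelian.Ext.{u} (ModuleCat.of R F) S.X₂ (n + 1))) :
    Nonempty (Abelian.Ext.{u} (ModuleCat.of R F) S.X₃ n ≃ₗ[R]
      Abelian.Ext.{u} (ModuleCat.of R F) S.X₁ (n + 1)) := by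
  let c := Abelian.Ext.postcompOfLinear hS.extClass R (ModuleCat.of R F) (rfl : n + 1 = n + 1)
  have hc : ∀ x, c x = x.comp hS.extClass rfl := fun x => rfl
  refine ⟨LinearEquiv.ofBijective c ⟨?_, ?_⟩⟩
  · rw [injective_iff_map_eq_zero]
    intro x hx
    rw [hc] at hx
    obtain ⟨x₂, rfl⟩ := Abelian.Ext.covariant_sequence_exact₃ _ hS x rfl hx
    rw [Subsingleton.elim x₂ 0, Abelian.Ext.zero_comp]
  · intro y
    obtain ⟨x₃, rfl⟩ := Abelian.Ext.covariant_sequence_exact₁ _ hS y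
      (Subsingleton.elim _ _) rfl
    exact ⟨x₃, rfl⟩

include hS in
theorem nonempty_H_equiv_succ (n : ℕ)
    (h₂ : Subsingleton ((localCohomology J n).obj S.X₂))
    (h₂' : Subsingleton ((localCohomology J (n + 1)).obj S.X₂)) :
    Nonempty ((localCohomology J n).obj S.X₃ ≃ₗ[R] (localCohomology J (n + 1)).obj S.X₁) := by
  refine ⟨LinearEquiv.ofBijective (δ J n hS) ⟨?_, ?_⟩⟩
  · rw [injective_iff_map_eq_zero]
    intro z hz
    obtain ⟨y, rfl⟩ := exact₃ J n hS z hz
    rw [Subsingleton.elim y 0, map_zero]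
  · intro x
    exact exact₁ J n hS x (Subsingleton.elim _ _)

include hS in
theorem nonempty_ext_equiv_g (F : Type u) [AddCommGroup F] [Module R F] (n : ℕ)
    (h₁ : Subsingleton (Abelian.Ext.{u} (ModuleCat.of R F) S.X₁ n))
    (h₁' : Subsingleton (Abelian.Ext.{u} (ModuleCat.of R F) S.X₁ (n + 1))) :
    Nonempty (Abelian.Ext.{u} (ModuleCat.of R F) S.X₂ n ≃ₗ[R]
      Abelian.Ext.{u} (ModuleCat.of R F) S.X₃ n) := by
  let c := Abelian.Ext.postcompOfLinear (Abelian.Ext.mk₀ S.g) R (ModuleCat.of R F) (add_zero n)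
  have hc : ∀ x, c x = x.comp (Abelian.Ext.mk₀ S.g) (add_zero n) := fun x => rfl
  refine ⟨LinearEquiv.ofBijective c ⟨?_, ?_⟩⟩
  · rw [injective_iff_map_eq_zero]
    intro x hx
    rw [hc] at hx
    obtain ⟨x₁, rfl⟩ := Abelian.Ext.covariant_sequence_exact₂ _ hS x hx
    rw [Subsingleton.elim x₁ 0, Abelian.Ext.zero_comp]
  · intro y
    obtain ⟨x₂, rfl⟩ := Abelian.Ext.covariant_sequence_exact₃ _ hS y rfl
      (Subsingleton.elim _ _)
    exact ⟨x₂, rfl⟩

include hS in
theorem nonempty_H_equiv_g (n : ℕ)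
    (h₁ : Subsingleton ((localCohomology J n).obj S.X₁))
    (h₁' : Subsingleton ((localCohomology J (n + 1)).obj S.X₁)) :
    Nonempty ((localCohomology J n).obj S.X₂ ≃ₗ[R] (localCohomology J n).obj S.X₃) := by
  refine ⟨LinearEquiv.ofBijective (Hmap J n S.g) ⟨?_, ?_⟩⟩
  · rw [injective_iff_map_eq_zero]
    intro y hy
    obtain ⟨x, rfl⟩ := exact₂ J n hS y hy
    rw [Subsingleton.elim x 0, map_zero]
  · intro z
    exact exact₃ J n hS z (Subsingleton.elim _ _)

include hS in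
/-- dimension shift for `Rep` -/
theorem rep_succ [Injective S.X₂] (n : ℕ) (h : 1 ≤ n ∨ DRing.torsionSub J S.X₂ = ⊥)
    (hrep : Rep J n S.X₃) : Rep J (n + 1) S.X₁ := by
  intro F _ _ _ hF
  have hE : Subsingleton (Abelian.Ext.{u} (ModuleCat.of R F) S.X₂ n) := by
    rcases h with h | h
    · obtain ⟨m, rfl⟩ : ∃ m, n = m + 1 := ⟨n - 1, by omega⟩
      exact ⟨fun x y => by
        rw [Abelian.Ext.eq_zero_of_injective x, Abelian.Ext.eq_zero_of_injective y]⟩
    · exact subsingleton_ext_of_injective_torsionFree J F hF S.X₂ h n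
  have hE' : Subsingleton (Abelian.Ext.{u} (ModuleCat.of R F) S.X₂ (n + 1)) :=
    ⟨fun x y => by
      rw [Abelian.Ext.eq_zero_of_injective x, Abelian.Ext.eq_zero_of_injective y]⟩
  have hH : Subsingleton ((localCohomology J n).obj S.X₂) := by
    rcases h with h | h
    · obtain ⟨m, rfl⟩ : ∃ m, n = m + 1 := ⟨n - 1, by omega⟩
      exact subsingleton_of_injective J m S.X₂
    · exact subsingleton_H_of_injective_torsionFree J S.X₂ h n
  have hH' : Subsingleton ((localCohomology J (n + 1)).obj S.X₂) :=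
    subsingleton_of_injective J n S.X₂
  obtain ⟨e1⟩ := nonempty_ext_equiv_succ hS F n hE hE'
  obtain ⟨e2⟩ := nonempty_H_equiv_succ J hS n hH hH'
  obtain ⟨e3⟩ := hrep F hF
  exact ⟨e1.symm.trans (e3.trans (LinearEquiv.congrRight e2))⟩

include hS in
/-- removing an injective torsion submodule. -/
theorem rep_X₂_of_rep_X₃ [Injective S.X₁] (hT : LocCoh.IsPowerTorsion J S.X₁) (n : ℕ)
    (hrep : Rep J (n + 1) S.X₃) : Rep J (n + 1) S.X₂ := by
  intro F _ _ _ hF
  have hE : ∀ m, Subsingleton (Abelian.Ext.{u} (ModuleCat.of R F) S.X₁ (m + 1)) := fun m =>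
    ⟨fun x y => by
      rw [Abelian.Ext.eq_zero_of_injective x, Abelian.Ext.eq_zero_of_injective y]⟩
  have hH : ∀ m, Subsingleton ((localCohomology J (m + 1)).obj S.X₁) := fun m =>
    subsingleton_of_injective J m S.X₁
  obtain ⟨e1⟩ := nonempty_ext_equiv_g hS F (n + 1) (hE n) (hE (n + 1))
  obtain ⟨e2⟩ := nonempty_H_equiv_g J hS (n + 1) (hH n) (hH (n + 1))
  obtain ⟨e3⟩ := hrep F hF
  exact ⟨e1.trans (e3.trans (LinearEquiv.congrRight e2.symm))⟩

end Shift

section Baer

open Groth.Agent.Lib.Helper92.IdealTransform in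
/-- Baer-type criterion: a `J`-power-torsion module with the extension property along
submodules of the `R/J^k` is injective. -/
theorem injective_of_extension_property (T : Type u) [AddCommGroup T] [Module R T]
    (hT : LocCoh.IsPowerTorsion J T)
    (hext : ∀ (k : ℕ) (X : Type u) [AddCommGroup X] [Module R X] (f : X →ₗ[R] R ⧸ J ^ k),
      Function.Injective f → ∀ g₁ : X →ₗ[R] T, ∃ h : (R ⧸ J ^ k) →ₗ[R] T, ∀ x, h (f x) = g₁ x) :
    Module.Injective R T := by
  apply Module.Baer.injective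
  intro 𝔞 g
  have hfg : (LinearMap.range g).FG := by
    rw [LinearMap.range_eq_map]
    exact (Module.Finite.fg_top).map g
  obtain ⟨n, hn⟩ := exists_pow_smul_eq_zero_of_fg J T _ hfg (fun y _ => hT y)
  have hn' : ∀ b ∈ J ^ n, ∀ a : 𝔞, b • g a = 0 := fun b hb a => hn b hb _ ⟨a, rfl⟩
  -- Artin-Rees
  obtain ⟨c, hc⟩ := Ideal.exists_pow_inf_eq_pow_smul J (𝔞 : Submodule R R)
  obtain ⟨k, hk⟩ : ∃ k, k = c + n := ⟨_, rfl⟩
  have hAR : J ^ k ⊓ 𝔞 ≤ J ^ n • 𝔞 := by
    have h1 := hc k (by omega)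
    have h2 : k - c = n := by omega
    rw [h2] at h1
    have h3 : ∀ m : ℕ, J ^ m • (⊤ : Submodule R R) = J ^ m := fun m => by
      rw [smul_eq_mul]; exact Ideal.mul_top _
    rw [h3] at h1
    rw [h1]
    exact Submodule.smul_mono le_rfl inf_le_right
  have hkill : ∀ x ∈ J ^ n • 𝔞, ∃ hx : x ∈ 𝔞, g ⟨x, hx⟩ = 0 := by
    intro x hx
    refine Submodule.smul_induction_on hx ?_ ?_
    · intro b hb a ha
      refine ⟨𝔞.mul_mem_left b ha, ?_⟩
      have : (⟨b • a, 𝔞.mul_mem_left b ha⟩ : 𝔞) = b • ⟨a, ha⟩ := rfl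
      rw [this, map_smul]
      exact hn' b hb _
    · rintro x y ⟨hx, hx0⟩ ⟨hy, hy0⟩
      refine ⟨add_mem hx hy, ?_⟩
      have : (⟨x + y, add_mem hx hy⟩ : 𝔞) = ⟨x, hx⟩ + ⟨y, hy⟩ := rfl
      rw [this, map_add, hx0, hy0, add_zero]
  let N : Submodule R 𝔞 := Submodule.comap 𝔞.subtype (J ^ k)
  let f : (𝔞 ⧸ N) →ₗ[R] (R ⧸ J ^ k) := Submodule.mapQ N (J ^ k) 𝔞.subtype le_rfl
  have hf : Function.Injective f := by
    rw [← LinearMap.ker_eq_bot, eq_bot_iff]
    intro x hx
    obtain ⟨a, rfl⟩ := Submodule.Quotient.mk_surjective _ x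
    rw [LinearMap.mem_ker] at hx
    change Submodule.Quotient.mk (a : R) = (0 : R ⧸ J ^ k) at hx
    rw [Submodule.Quotient.mk_eq_zero] at hx
    rw [Submodule.mem_bot, Submodule.Quotient.mk_eq_zero]
    exact hx
  let g₁ : (𝔞 ⧸ N) →ₗ[R] T := Submodule.liftQ N g (by
    intro a ha
    rw [LinearMap.mem_ker]
    obtain ⟨ha', h0⟩ := hkill a.1 (hAR ⟨ha, a.2⟩)
    have : (⟨a.1, ha'⟩ : 𝔞) = a := rfl
    rw [this] at h0
    exact h0)
  obtain ⟨h, hh⟩ := hext k (𝔞 ⧸ N) f hf g₁
  refine ⟨h ∘ₗ (J ^ k).mkQ, fun x hx => ?_⟩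
  exact hh (Submodule.Quotient.mk ⟨x, hx⟩)

theorem support_quotient_pow_subset (k : ℕ) :
    Module.support R (R ⧸ J ^ k) ⊆ PrimeSpectrum.zeroLocus (J : Set R) := by
  rw [Module.support_eq_zeroLocus, Ideal.annihilator_quotient]
  intro p hp
  rw [PrimeSpectrum.mem_zeroLocus] at hp ⊢
  exact Ideal.IsPrime.le_of_pow_le (n := k) hp

/-- a `J`-power-torsion module with `Ext^1(F', T) = 0` for all finite `F'` supported in `V(J)`
is injective. -/
theorem injective_of_extVan_one (T : ModuleCat.{u} R) (hT : LocCoh.IsPowerTorsion J T)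
    (h : ExtVan J 1 T) : Injective T := by
  have : Module.Injective R T := by
    apply injective_of_extension_property J T hT
    intro k X _ _ f hf g₁
    have hS : (sesOfInjective f).ShortExact := sesOfInjective_shortExact f hf
    have hsupp : Module.support R ((R ⧸ J ^ k) ⧸ LinearMap.range f) ⊆
        PrimeSpectrum.zeroLocus (J : Set R) :=
      (Module.support_subset_of_surjective _ (Submodule.mkQ_surjective _)).trans
        (support_quotient_pow_subset J k)
    have hsub := h ((R ⧸ J ^ k) ⧸ LinearMap.range f) hsupp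
    obtain ⟨x₂, hx₂⟩ := Abelian.Ext.contravariant_sequence_exact₁ hS T
      (Abelian.Ext.mk₀ (ModuleCat.ofHom g₁)) (rfl : 1 + 0 = 1) (Subsingleton.elim _ _)
    obtain ⟨h', rfl⟩ := (Abelian.Ext.mk₀_bijective _ _).2 x₂
    rw [Abelian.Ext.mk₀_comp_mk₀] at hx₂
    have h3 := (Abelian.Ext.mk₀_bijective _ _).1 hx₂
    refine ⟨h'.hom, fun x => ?_⟩
    exact congrArg (fun φ => φ.hom x) h3
  exact Module.injective_object_of_injective_module R T

end Baer

section Main

theorem extVan_zero_of_torsionSub_eq_bot (G : ModuleCat.{u} R)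
    (hG : DRing.torsionSub J G = ⊥) : ExtVan J 0 G :=
  fun F _ _ _ hF => subsingleton_ext_zero_of_torsionSub_eq_bot J F hF G hG

theorem torsionSub_eq_bot_of_extVan_zero (G : ModuleCat.{u} R) (h : ExtVan J 0 G) :
    DRing.torsionSub J G = ⊥ := by
  have hsupp : Module.support R (R ⧸ J) = PrimeSpectrum.zeroLocus (J : Set R) := by
    rw [Module.support_eq_zeroLocus, Ideal.annihilator_quotient]
  exact torsionSub_eq_bot_of_hom_eq_zero J (R ⧸ J) hsupp G (h (R ⧸ J) (le_of_eq hsupp))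

theorem rep_one (G : ModuleCat.{u} R) (h : ExtVan J 0 G) : Rep J 1 G := by
  have hG0 := torsionSub_eq_bot_of_extVan_zero J G h
  obtain ⟨S, hS, rfl, hinj, hE⟩ := exists_torsionFree_injective_ses J G hG0
  exact rep_succ J hS 0 (Or.inr hE) (rep_zero J S.X₃)

theorem rep_two (G : ModuleCat.{u} R) (h : ExtVan J 1 G) : Rep J 2 G := by
  let T := DRing.torsionSub J G
  let ST : ShortComplex (ModuleCat.{u} R) :=
    ModuleCat.shortComplexOfCompEqZero T.subtype T.mkQ (by ext x; simp)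
  have hST : ST.ShortExact :=
    ModuleCat.shortComplex_shortExact _ (LinearMap.exact_subtype_mkQ T)
      (Submodule.injective_subtype _) (Submodule.mkQ_surjective _)
  have hGbar : DRing.torsionSub J ST.X₃ = ⊥ := torsionSub_quotient_torsionSub J (M := G)
  have hT1 : ExtVan J 1 ST.X₁ := by
    intro F _ _ _ hF
    have h0 := subsingleton_ext_zero_of_torsionSub_eq_bot J F hF ST.X₃ hGbar
    have h1 : Subsingleton (Abelian.Ext.{u} (ModuleCat.of R F) ST.X₂ 1) := h F hF
    refine ⟨fun x y => ?_⟩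
    suffices h0 : ∀ x : Abelian.Ext.{u} (ModuleCat.of R F) ST.X₁ 1, x = 0 from
      (h0 x).trans (h0 y).symm
    intro x
    obtain ⟨x₃, rfl⟩ := Abelian.Ext.covariant_sequence_exact₁ _ hST x (Subsingleton.elim _ _)
      (rfl : 0 + 1 = 1)
    rw [Subsingleton.elim x₃ 0, Abelian.Ext.zero_comp]
  have hTinj : Injective ST.X₁ :=
    injective_of_extVan_one J ST.X₁ (isPowerTorsion_torsionSub J G) hT1
  have hG1 : ExtVan J 1 ST.X₃ := by
    intro F _ _ _ hF
    have h1 : Subsingleton (Abelian.Ext.{u} (ModuleCat.of R F) ST.X₂ 1) := h F hF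
    refine ⟨fun x y => ?_⟩
    suffices h0 : ∀ x : Abelian.Ext.{u} (ModuleCat.of R F) ST.X₃ 1, x = 0 from
      (h0 x).trans (h0 y).symm
    intro y
    obtain ⟨x₂, rfl⟩ := Abelian.Ext.covariant_sequence_exact₃ _ hST y rfl
      (Abelian.Ext.eq_zero_of_injective _)
    rw [Subsingleton.elim x₂ 0, Abelian.Ext.zero_comp]
  have hrep : Rep J 2 ST.X₃ := by
    obtain ⟨S, hS, hX, hinj, hE⟩ := exists_torsionFree_injective_ses J ST.X₃ hGbar
    have h0 : ExtVan J 0 S.X₃ := by
      intro F _ _ _ hF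
      apply ext_shift_down J hS hE F hF 0
      rw [hX]
      exact hG1 F hF
    have := rep_succ J hS 1 (Or.inl le_rfl) (rep_one J S.X₃ h0)
    rw [hX] at this
    exact this
  exact rep_X₂_of_rep_X₃ J hST (isPowerTorsion_torsionSub J G) 1 hrep

theorem rep_of_extVan (m : ℕ) : ∀ (G : ModuleCat.{u} R), ExtVan J (m + 1) G →
    Rep J (m + 2) G := by
  induction m with
  | zero => exact rep_two J
  | succ m ih =>
    intro G h
    obtain ⟨S, hS, rfl, hinj⟩ := exists_injective_ses G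
    have h' : ExtVan J (m + 1) S.X₃ := by
      intro F _ _ _ hF
      have h1 := h F hF
      refine ⟨fun x y => ?_⟩
      suffices h0 : ∀ x : Abelian.Ext.{u} (ModuleCat.of R F) S.X₃ (m + 1), x = 0 from
        (h0 x).trans (h0 y).symm
      intro y
      obtain ⟨x₂, rfl⟩ := Abelian.Ext.covariant_sequence_exact₃ _ hS y rfl
        (Subsingleton.elim _ _)
      rw [Abelian.Ext.eq_zero_of_injective x₂, Abelian.Ext.zero_comp]
    exact rep_succ J hS (m + 2) (Or.inl (by omega)) (ih S.X₃ h')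

/-- **Main theorem**: if `Ext^{n-1}(F', G) = 0` for all finite `F'` supported in `V(J)`,
then `Ext^n(F, G) ≃ Hom(F, H^n_J(G))` for all such `F`. -/
theorem rep_main (n : ℕ) (G : ModuleCat.{u} R) (h : ∀ i, i + 1 = n → ExtVan J i G) :
    Rep J n G := by
  rcases n with _ | _ | m
  · exact rep_zero J G
  · exact rep_one J G (h 0 rfl)
  · exact rep_of_extVan J m G (h (m + 1) rfl)

end Main

end Rep

end Groth.Agent.Lib.Helper92.LC
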