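import Groth.Agent.Lib.Helper92.LocCohGV
import Groth.Agent.Lib.Helper92.LocCohCompare

open CategoryTheory CategoryTheory.Limits Opposite

namespace Groth.Agent.Lib.Helper92.LC

universe u
variable {R : Type u} [CommRing R] (I : Ideal R)

/-- `0 → R → R^{p+1} → R^p → 0`. -/
noncomputable abbrev sesFin (p : ℕ) : ShortComplex (ModuleCat.{u} R) :=
  ModuleCat.shortComplexOfCompEqZero
    (LinearMap.single R (fun _ : Fin (p + 1) => R) 0)
    (LinearMap.pi (fun l : Fin p => LinearMap.proj (R := R) (φ := fun _ : Fin (p + 1) => R) l.succ))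
    (by
      ext r
      simp [Fin.succ_ne_zero])

theorem sesFin_shortExact (p : ℕ) : (sesFin (R := R) p).ShortExact := by
  refine ModuleCat.shortComplex_shortExact _ ?_ ?_ ?_
  · intro v
    constructor
    · intro hv
      refine ⟨v 0, ?_⟩
      funext l
      refine Fin.cases ?_ (fun l' => ?_) l
      · exact Pi.single_eq_same (M := fun _ : Fin (p + 1) => R) 0 (v 0)
      · have h1 : v l'.succ = 0 := congrFun hv l'
        rw [h1]
        exact Pi.single_eq_of_ne (M := fun _ : Fin (p + 1) => R) (Fin.succ_ne_zero l') (v 0)
    · rintro ⟨r, rfl⟩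
      funext l
      exact Pi.single_eq_of_ne (M := fun _ : Fin (p + 1) => R) (Fin.succ_ne_zero l) r
  · exact Pi.single_injective (M := fun _ : Fin (p + 1) => R) 0
  · intro w
    refine ⟨Fin.cons 0 w, ?_⟩
    funext l
    exact Fin.cons_succ (α := fun _ : Fin (p + 1) => R) 0 w l

/-- `H^i_I(R^p) = 0` if `H^i_I(R) = 0`. -/
theorem subsingleton_fin (i : ℕ) (h : Subsingleton ((localCohomology I i).obj (ModuleCat.of R R)))
    (p : ℕ) : Subsingleton ((localCohomology I i).obj (ModuleCat.of R (Fin p → R))) := by
  induction p with
  | zero => exact subsingleton_of_subsingleton I i (ModuleCat.of R (Fin 0 → R))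
  | succ p ih =>
    refine ⟨fun y y' => ?_⟩
    suffices h : ∀ y : (localCohomology I i).obj (ModuleCat.of R (Fin (p + 1) → R)), y = 0 from
      (h y).trans (h y').symm
    intro y
    obtain ⟨w, rfl⟩ := exact₂ I i (sesFin_shortExact p) y (Subsingleton.elim _ _)
    rw [Subsingleton.elim w 0, map_zero]

variable [IsNoetherianRing R]

/-- vanishing on the ring in degrees `> d` implies `cd ≤ d`. -/
theorem cdLE_of_vanishing_on_ring (d : ℕ)
    (h : ∀ i : ℕ, d < i → Subsingleton ((localCohomology I i).obj (ModuleCat.of R R))) :
    LocCoh.CdLE R I d := by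
  classical
  obtain ⟨s, hs⟩ := (IsNoetherian.noetherian I : I.FG)
  have hN : LocCoh.CdLE R I s.card := by
    have := cdLE_span_finset (R := R) s
    have hs' : Ideal.span (s : Set R) = I := hs
    rwa [hs'] at this
  -- descending induction
  have key : ∀ (k i : ℕ), d < i → s.card < i + k →
      ∀ (M : Type u) [AddCommGroup M] [Module R M],
        Subsingleton ((localCohomology I i).obj (ModuleCat.of R M)) := by
    intro k
    induction k with
    | zero => intro i _ hi M _ _; exact hN M i (by omega)
    | succ k ih =>
      intro i hdi hi M _ _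
      refine ⟨fun y y' => ?_⟩
      suffices h : ∀ y : (localCohomology I i).obj (ModuleCat.of R M), y = 0 from
        (h y).trans (h y').symm
      intro y
      obtain ⟨N, hNfg, yN, rfl⟩ := exists_fg_rep I M i y
      have : Module.Finite R N := Module.Finite.iff_fg.2 hNfg
      obtain ⟨p, f, hf⟩ := Module.Finite.exists_fin' R N
      have hS := LinearMap.shortExact_shortComplexKer hf
      have hK : Subsingleton ((localCohomology I (i + 1)).obj (LinearMap.shortComplexKer f).X₁) :=
        ih (i + 1) (by omega) (by omega) _
      have hF : Subsingleton ((localCohomology I i).obj (LinearMap.shortComplexKer f).X₂) :=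
        subsingleton_fin I i (h i hdi) p
      obtain ⟨w, hw⟩ := exact₃ I i hS yN (Subsingleton.elim _ _)
      rw [← hw, Subsingleton.elim w 0, map_zero, map_zero]
  intro M _ _ i hi
  exact key (s.card + 1) i hi (by omega) M

end Groth.Agent.Lib.Helper92.LC
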