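import Mathlib.RingTheory.Localization.AtPrime.Basic
import Mathlib.RingTheory.Valuation.ValuationRing
import Mathlib.RingTheory.IntegralClosure.IntegrallyClosed
import Mathlib.RingTheory.Localization.Integral

set_option autoImplicit false
universe u

namespace Groth.Agent.Lib.Helper92

open Classical in
/-- The idempotent of the support of `x`. -/
noncomputable def ind {ι : Type u} {R : ι → Type u} [∀ i, CommRing (R i)] (x : ∀ i, R i) :
    ∀ i, R i := fun i => if x i = 0 then 0 else 1

section
variable {ι : Type u} {R : ι → Type u} [∀ i, CommRing (R i)]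

theorem ind_apply_of_ne (x : ∀ i, R i) {i : ι} (h : x i ≠ 0) : ind x i = 1 := by
  simp [ind, h]

theorem ind_apply_of_eq (x : ∀ i, R i) {i : ι} (h : x i = 0) : ind x i = 0 := by
  simp [ind, h]

theorem one_sub_ind_mul (x : ∀ i, R i) : (1 - ind x) * x = 0 := by
  funext i
  by_cases h : x i = 0
  · simp [h]
  · simp [ind_apply_of_ne x h]

variable (P : Ideal (∀ i, R i)) [P.IsPrime]

theorem ind_notMem_of_map_ne_zero (x : ∀ i, R i)
    (hx : algebraMap (∀ i, R i) (Localization.AtPrime P) x ≠ 0) : ind x ∉ P := by
  intro hmem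
  apply hx
  rw [IsLocalization.map_eq_zero_iff P.primeCompl]
  refine ⟨⟨1 - ind x, ?_⟩, one_sub_ind_mul x⟩
  intro h1
  have : (1 : ∀ i, R i) ∈ P := by
    have := P.add_mem h1 hmem
    simpa using this
  exact (Ideal.ne_top_iff_one P).1 (Ideal.IsPrime.ne_top inferInstance) this

theorem ind_notMem_of_notMem (x : ∀ i, R i) (hx : x ∉ P) : ind x ∉ P := by
  apply ind_notMem_of_map_ne_zero
  have hu : IsUnit (algebraMap (∀ i, R i) (Localization.AtPrime P) x) :=
    IsLocalization.map_units (M := P.primeCompl) (Localization.AtPrime P) ⟨x, hx⟩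
  exact hu.ne_zero

theorem isUnit_map_of_notMem (x : ∀ i, R i) (hx : x ∉ P) :
    IsUnit (algebraMap (∀ i, R i) (Localization.AtPrime P) x) :=
  IsLocalization.map_units (M := P.primeCompl) (Localization.AtPrime P) ⟨x, hx⟩

theorem isDomain_localization_pi [∀ i, IsDomain (R i)] : IsDomain (Localization.AtPrime P) := by
  haveI : Nontrivial (Localization.AtPrime P) := inferInstance
  haveI : NoZeroDivisors (Localization.AtPrime P) := by
    refine ⟨fun {a b} hab => ?_⟩
    obtain ⟨⟨x, s⟩, hx⟩ := IsLocalization.surj P.primeCompl a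
    obtain ⟨⟨y, t⟩, hy⟩ := IsLocalization.surj P.primeCompl b
    simp only at hx hy
    have hs := IsLocalization.map_units (M := P.primeCompl) (Localization.AtPrime P) s
    have ht := IsLocalization.map_units (M := P.primeCompl) (Localization.AtPrime P) t
    have hxy : algebraMap (∀ i, R i) (Localization.AtPrime P) (x * y) = 0 := by
      rw [map_mul, ← hx, ← hy]
      calc a * algebraMap _ _ (s : ∀ i, R i) * (b * algebraMap _ _ (t : ∀ i, R i))
          = (a * b) * (algebraMap _ _ (s : ∀ i, R i) * algebraMap _ _ (t : ∀ i, R i)) := by ring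
        _ = 0 := by rw [hab, zero_mul]
    by_cases hxa : algebraMap (∀ i, R i) (Localization.AtPrime P) x = 0
    · left
      rw [hxa] at hx
      exact (hs.mul_left_eq_zero).1 hx
    · right
      have hind := ind_notMem_of_map_ne_zero P x hxa
      rw [IsLocalization.map_eq_zero_iff P.primeCompl] at hxy
      obtain ⟨m, hm⟩ := hxy
      have hy0 : algebraMap (∀ i, R i) (Localization.AtPrime P) y = 0 := by
        rw [IsLocalization.map_eq_zero_iff P.primeCompl]
        refine ⟨⟨ind x * m, ?_⟩, ?_⟩
        · exact fun h => (Ideal.IsPrime.mem_or_mem inferInstance h).elim hind m.2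
        · funext i
          have hmi := congrFun hm i
          simp only [Pi.mul_apply, Pi.zero_apply] at hmi ⊢
          by_cases hxi : x i = 0
          · simp [ind_apply_of_eq x hxi]
          · rw [ind_apply_of_ne x hxi, one_mul]
            have : (m : ∀ i, R i) i * y i * x i = 0 := by rw [← hmi]; ring
            exact (mul_eq_zero.1 this).resolve_right hxi
      rw [hy0] at hy
      exact (ht.mul_left_eq_zero).1 hy
  exact { }

end

end Groth.Agent.Lib.Helper92
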