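import Groth.Agent.Lib.Helper24.ExtReesM
import Groth.Agent.Lib.Helper67.Depth2
import Groth.Agent.Lib.Helper56.CMRing

/-!
# General lemmas for `(S_2)` of the Rees algebra (S16058)

* `skAt_of_away`: transfer of `SkAt` along a ring map which is an isomorphism after inverting `g`.
* `skAt_polynomial_of_skAt`: `(S_k)` ascends to the polynomial ring.
* `skAt_of_le_depth`: `SkAt k B` from `k ≤ depth B`.
-/

set_option autoImplicit false
set_option linter.unusedSectionVars false
set_option maxHeartbeats 400000
universe u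

open LocCoh IsLocalRing
open Groth.Agent.Lib.Helper24.ExtRees

namespace Groth.Agent.Lib.Helper92.ReesS2

section Away

variable {R S : Type u} [CommRing R] [CommRing S] [Algebra R S]

theorem isLocalization_away_of_surj (hinj : Function.Injective (algebraMap R S)) (g : R)
    (hsurj : ∀ s : S, ∃ m : ℕ, ∃ r : R, s * algebraMap R S g ^ m = algebraMap R S r) :
    IsLocalization.Away g (Localization.Away (algebraMap R S g)) := by
  have hgu : IsUnit (algebraMap S (Localization.Away (algebraMap R S g)) (algebraMap R S g)) :=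
    IsLocalization.Away.algebraMap_isUnit _
  refine (isLocalization_iff (M := Submonoid.powers g)
    (S := Localization.Away (algebraMap R S g))).mpr ⟨?_, ?_, ?_⟩
  · rintro ⟨_, n, rfl⟩
    rw [map_pow, IsScalarTower.algebraMap_apply R S (Localization.Away (algebraMap R S g))]
    exact hgu.pow n
  · intro z
    obtain ⟨⟨s, ⟨_, k, rfl⟩⟩, hz⟩ :=
      IsLocalization.surj (Submonoid.powers (algebraMap R S g)) z
    obtain ⟨m, r, hr⟩ := hsurj s
    refine ⟨(r, ⟨g ^ (k + m), k + m, rfl⟩), ?_⟩
    simp only at hz ⊢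
    rw [IsScalarTower.algebraMap_apply R S (Localization.Away (algebraMap R S g)),
      IsScalarTower.algebraMap_apply R S (Localization.Away (algebraMap R S g)) r, ← hr,
      map_pow, pow_add, map_mul, map_mul, ← mul_assoc, hz, map_pow]
  · intro x y hxy
    rw [IsScalarTower.algebraMap_apply R S (Localization.Away (algebraMap R S g)),
      IsScalarTower.algebraMap_apply R S (Localization.Away (algebraMap R S g)) y] at hxy
    obtain ⟨⟨_, k, rfl⟩, hc⟩ :=
      (IsLocalization.eq_iff_exists (Submonoid.powers (algebraMap R S g)) _).mp hxy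
    refine ⟨⟨g ^ k, k, rfl⟩, hinj ?_⟩
    simp only at hc ⊢
    rw [map_mul, map_mul, map_pow]
    exact hc

/-- If `R → S` becomes an isomorphism after inverting `g`, then `(S_k)` for `S` gives `(S_k)` for
`R` at all primes not containing `g`. -/
theorem skAt_of_away (hinj : Function.Injective (algebraMap R S)) (g : R)
    (hsurj : ∀ s : S, ∃ m : ℕ, ∃ r : R, s * algebraMap R S g ^ m = algebraMap R S r)
    (k : ℕ) (hS : ∀ (Q : Ideal S) [Q.IsPrime], SkAt k (Localization.AtPrime Q))
    (P : Ideal R) [hP : P.IsPrime] (hg : g ∉ P) : SkAt k (Localization.AtPrime P) := by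
  haveI hloc := isLocalization_away_of_surj hinj g hsurj
  have hdisj : Disjoint (Submonoid.powers g : Set R) (P : Set R) := by
    rw [Set.disjoint_left]
    rintro _ ⟨n, rfl⟩ hn
    exact hg (hP.mem_of_pow_mem n hn)
  set T := Localization.Away (algebraMap R S g) with hT
  set P' : Ideal T := P.map (algebraMap R T) with hP'def
  haveI hP' : P'.IsPrime :=
    IsLocalization.isPrime_of_isPrime_disjoint (Submonoid.powers g) T P hP hdisj
  have hcomap : P'.comap (algebraMap R T) = P :=
    IsLocalization.under_map_of_isPrime_disjoint (Submonoid.powers g) T hP hdisj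
  haveI h1 : IsLocalization.AtPrime (Localization.AtPrime P') (P'.comap (algebraMap R T)) :=
    IsLocalization.isLocalization_isLocalization_atPrime_isLocalization
      (M := Submonoid.powers g) (Localization.AtPrime P') P'
  haveI h2 : IsLocalization.AtPrime (Localization.AtPrime P') (P'.comap (algebraMap S T)) :=
    IsLocalization.isLocalization_isLocalization_atPrime_isLocalization
      (M := Submonoid.powers (algebraMap R S g)) (Localization.AtPrime P') P'
  have hQ := hS (P'.comap (algebraMap S T))
  have e2 : Localization.AtPrime (P'.comap (algebraMap S T)) ≃+* Localization.AtPrime P' :=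
    (IsLocalization.algEquiv (P'.comap (algebraMap S T)).primeCompl
      (Localization.AtPrime (P'.comap (algebraMap S T))) (Localization.AtPrime P')).toRingEquiv
  have e1 : Localization.AtPrime (P'.comap (algebraMap R T)) ≃+* Localization.AtPrime P' :=
    (IsLocalization.algEquiv (P'.comap (algebraMap R T)).primeCompl
      (Localization.AtPrime (P'.comap (algebraMap R T))) (Localization.AtPrime P')).toRingEquiv
  have h3 : SkAt k (Localization.AtPrime P') := skAt_of_ringEquiv e2 hQ
  have h4 : SkAt k (Localization.AtPrime (P'.comap (algebraMap R T))) :=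
    skAt_of_ringEquiv e1.symm h3
  exact (skAt_congr hcomap).mp h4

end Away

section Poly

variable (A : Type u) [CommRing A] [IsNoetherianRing A]

theorem cm_fiber_poly (q : Ideal A) [q.IsPrime] :
    IsCohenMacaulayRing (q.Fiber (Polynomial A)) := by
  have h1 : IsCohenMacaulayRing (Polynomial q.ResidueField) :=
    Groth.Agent.Lib.Helper56.isCohenMacaulayRing_of_isRegularRing _
  exact Groth.Agent.Lib.Helper56.isCohenMacaulayRing_of_ringEquiv
    (polyEquivTensor A q.ResidueField).toRingEquiv h1

theorem skAt_polynomial_of_skAt (k : ℕ) (𝔓 : Ideal (Polynomial A)) [𝔓.IsPrime]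
    (h : SkAt k (Localization.AtPrime (𝔓.comap (algebraMap A (Polynomial A))))) :
    SkAt k (Localization.AtPrime 𝔓) := by
  obtain ⟨h1, h2, h3⟩ := Groth.Agent.Lib.Helper77.FlatDepth.loc_formulas A (Polynomial A) 𝔓
  have hF : IsCohenMacaulayLocalRing
      (Groth.Agent.Lib.Helper77.FlatDepth.FibLoc A (Polynomial A) 𝔓) :=
    Groth.Agent.Lib.Helper56.isCM_fibLocRing_of_fiber A (Polynomial A) 𝔓 (cm_fiber_poly A _)
  obtain ⟨dF, hdF⟩ := Groth.Agent.Lib.Helper77.FlatDepth.exists_nat_dim
    (Groth.Agent.Lib.Helper77.FlatDepth.FibLoc A (Polynomial A) 𝔓)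
  obtain ⟨eF, heF⟩ := Groth.Agent.Lib.Helper77.FlatDepth.exists_nat_depth
    (Groth.Agent.Lib.Helper77.FlatDepth.FibLoc A (Polynomial A) 𝔓)
  have hcm := (Groth.Agent.Lib.Helper77.FlatDepth.isCM_iff_nat _ dF eF hdF heF).mp hF
  obtain ⟨d, e, hd, he, hle⟩ := h
  refine ⟨d + dF, e + eF, ?_, ?_, ?_⟩
  · rw [h2, hd, hdF]; push_cast; rfl
  · rw [h1, he, heF]; push_cast; rfl
  · omega

end Poly

section Depth

theorem skAt_of_le_depth (k : ℕ) (B : Type u) [CommRing B] [IsLocalRing B] [IsNoetherianRing B]
    (h : (k : ℕ∞) ≤ depth B B) : SkAt k B := by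
  obtain ⟨d, hd⟩ := Groth.Agent.Lib.Helper77.FlatDepth.exists_nat_dim B
  obtain ⟨e, he⟩ := Groth.Agent.Lib.Helper77.FlatDepth.exists_nat_depth B
  refine ⟨d, e, hd, he, ?_⟩
  rw [he] at h
  have : k ≤ e := by exact_mod_cast h
  omega

theorem le_depth_of_skAt (k : ℕ) (B : Type u) [CommRing B] [IsLocalRing B]
    (h : SkAt k B) (hdim : (k : WithBot ℕ∞) ≤ ringKrullDim B) : (k : ℕ∞) ≤ depth B B := by
  obtain ⟨d, e, hd, he, hle⟩ := h
  rw [hd] at hdim
  have hkd : k ≤ d := by exact_mod_cast hdim
  rw [he]
  have : k ≤ e := by omega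
  exact_mod_cast this

end Depth

end Groth.Agent.Lib.Helper92.ReesS2
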