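import Groth.Agent.Lib.Helper24.ExtReesM
import Groth.Agent.Lib.Helper52.GrCoact

/-!
# Rees algebra versus extended Rees algebra: algebraic lemmas for S16058
-/

set_option autoImplicit false
set_option linter.unusedSectionVars false
set_option maxHeartbeats 400000
universe u

open Polynomial LaurentPolynomial FiltBl DirectSum
open Groth.Agent.Lib.Helper24.ExtRees

namespace Groth.Agent.Lib.Helper92.ReesS2

variable {A : Type u} [CommRing A] (𝓕 : FiltBl.IdealFiltration A)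

/-- the `𝓕.rees`-algebra structure on `𝓕.extRees` (not an instance). -/
noncomputable abbrev algRE : Algebra 𝓕.rees 𝓕.extRees := (reesToExt 𝓕).toRingHom.toAlgebra

theorem reesToExt_injective : Function.Injective (reesToExt 𝓕) := by
  intro x y h
  apply Subtype.ext
  apply Polynomial.toLaurent_injective
  have := congrArg (fun z : 𝓕.extRees => (z : A[T;T⁻¹])) h
  simpa only [coe_reesToExt] using this

/-- the monomial `b X^n` of the Rees algebra. -/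
noncomputable def mono (n : ℕ) (b : A) (hb : b ∈ 𝓕.F n) : 𝓕.rees :=
  ⟨Polynomial.monomial n b, monomial_mem_rees 𝓕 n b hb⟩

theorem coe_mono (n : ℕ) (b : A) (hb : b ∈ 𝓕.F n) :
    ((mono 𝓕 n b hb : 𝓕.rees) : A[X]) = Polynomial.monomial n b := rfl

theorem coe_reesToExt_mono (n : ℕ) (b : A) (hb : b ∈ 𝓕.F n) :
    ((reesToExt 𝓕 (mono 𝓕 n b hb) : 𝓕.extRees) : A[T;T⁻¹]) = LaurentPolynomial.C b * T (n : ℤ) := by
  rw [coe_reesToExt, coe_mono, Polynomial.toLaurent_C_mul_T]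

theorem mono_zero (b : A) (hb : b ∈ 𝓕.F 0) : mono 𝓕 0 b hb = algebraMap A 𝓕.rees b := by
  apply Subtype.ext
  rw [coe_mono]
  rfl

theorem u_mul_mono (n : ℕ) (b : A) (hb : b ∈ 𝓕.F (n + 1)) :
    𝓕.u * reesToExt 𝓕 (mono 𝓕 (n + 1) b hb) =
      reesToExt 𝓕 (mono 𝓕 n b (𝓕.antitone (Nat.le_succ n) hb)) := by
  apply Subtype.ext
  rw [MulMemClass.coe_mul, coe_reesToExt_mono, coe_reesToExt_mono]
  show (T (-1) : A[T;T⁻¹]) * (LaurentPolynomial.C b * T ((n + 1 : ℕ) : ℤ)) =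
    LaurentPolynomial.C b * T (n : ℤ)
  rw [mul_left_comm, ← T_add]
  congr 2
  push_cast
  ring

theorem single_nonneg (n : ℕ) (a : A) (ha : a ∈ 𝓕.F n) :
    (⟨AddMonoidAlgebra.single (n : ℤ) a, single_mem_extRees 𝓕 n a
      (by rw [Int.toNat_natCast]; exact ha)⟩ : 𝓕.extRees) = reesToExt 𝓕 (mono 𝓕 n a ha) := by
  apply Subtype.ext
  rw [coe_reesToExt_mono, ← LaurentPolynomial.single_eq_C_mul_T]

theorem single_neg (k : ℕ) (a : A) (ha : a ∈ 𝓕.F (-(k : ℤ)).toNat) :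
    (⟨AddMonoidAlgebra.single (-(k : ℤ)) a, single_mem_extRees 𝓕 _ a ha⟩ : 𝓕.extRees) =
      a • 𝓕.u ^ k := by
  apply Subtype.ext
  show AddMonoidAlgebra.single (-(k : ℤ)) a = a • ((𝓕.u ^ k : 𝓕.extRees) : LaurentPolynomial A)
  rw [coe_u_pow, LaurentPolynomial.single_eq_C_mul_T, LaurentPolynomial.smul_eq_C_mul]

theorem coeff_mem (x : 𝓕.extRees) (n : ℕ) : (x : A[T;T⁻¹]).coeff (n : ℤ) ∈ 𝓕.F n := by
  have := x.2 (n : ℤ)
  rwa [Int.toNat_natCast] at this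

/-- induction along the homogeneous components of an element of the extended Rees algebra. -/
theorem ext_sum_induction (W : 𝓕.extRees → Prop) (h0 : W 0)
    (hadd : ∀ x y, W x → W y → W (x + y)) (x : 𝓕.extRees)
    (hpos : ∀ n : ℕ, W (reesToExt 𝓕 (mono 𝓕 n ((x : A[T;T⁻¹]).coeff (n : ℤ)) (coeff_mem 𝓕 x n))))
    (hneg : ∀ k : ℕ, 0 < k → W (((x : A[T;T⁻¹]).coeff (-(k : ℤ))) • 𝓕.u ^ k)) : W x := by
  classical
  rw [← DirectSum.sum_support_decompose (gr 𝓕) x]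
  refine Finset.sum_induction _ W hadd h0 (fun i _ => ?_)
  have h1 : (DirectSum.decompose (gr 𝓕) x i : 𝓕.extRees) =
      ⟨AddMonoidAlgebra.single i ((x : LaurentPolynomial A).coeff i),
        single_mem_extRees 𝓕 i _ (x.2 i)⟩ := by
    apply Subtype.ext
    exact coe_decompose_gr 𝓕 x i
  rw [h1]
  by_cases hi : 0 ≤ i
  · obtain ⟨n, rfl⟩ := Int.eq_ofNat_of_zero_le hi
    rw [single_nonneg 𝓕 n _ (coeff_mem 𝓕 x n)]
    exact hpos n
  · push Not at hi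
    obtain ⟨k, rfl⟩ : ∃ k : ℕ, i = -(k : ℤ) := ⟨(-i).toNat, by omega⟩
    rw [single_neg 𝓕 k _ (x.2 _)]
    exact hneg k (by omega)

theorem coeff_toLaurent_neg (p : A[X]) (j : ℤ) (hj : j < 0) :
    (Polynomial.toLaurent p).coeff j = 0 := by
  have h := LaurentPolynomial.support_coeff_toLaurent p
  by_contra hne
  have hmem : j ∈ (Polynomial.toLaurent p).coeff.support := Finsupp.mem_support_iff.mpr hne
  rw [h, Finset.mem_map] at hmem
  obtain ⟨n, -, hn⟩ := hmem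
  have : (n : ℤ) = j := hn
  omega

/-- an element of the extended Rees algebra without terms of negative degree lies in the Rees
algebra. -/
theorem mem_range_of_neg_coeff_eq_zero (x : 𝓕.extRees)
    (hx : ∀ j : ℤ, j < 0 → (x : A[T;T⁻¹]).coeff j = 0) : x ∈ Set.range (reesToExt 𝓕) := by
  refine ext_sum_induction 𝓕 (fun y => y ∈ Set.range (reesToExt 𝓕)) ⟨0, map_zero _⟩ ?_ x ?_ ?_
  · rintro _ _ ⟨a, rfl⟩ ⟨b, rfl⟩
    exact ⟨a + b, map_add _ _ _⟩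
  · intro n
    exact ⟨_, rfl⟩
  · intro k hk
    rw [hx (-(k : ℤ)) (by omega), zero_smul]
    exact ⟨0, map_zero _⟩

theorem neg_coeff_eq_zero_of_mem_range (x : 𝓕.extRees) (hx : x ∈ Set.range (reesToExt 𝓕))
    (j : ℤ) (hj : j < 0) : (x : A[T;T⁻¹]).coeff j = 0 := by
  obtain ⟨r, rfl⟩ := hx
  rw [coe_reesToExt]
  exact coeff_toLaurent_neg _ j hj

section Surj

/-- inverting a monomial of positive degree makes `rees → extRees` surjective. -/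
theorem surj_mono (n : ℕ) (b : A) (hb : b ∈ 𝓕.F (n + 1)) (e : 𝓕.extRees) :
    ∃ m : ℕ, ∃ r : 𝓕.rees, e * reesToExt 𝓕 (mono 𝓕 (n + 1) b hb) ^ m = reesToExt 𝓕 r := by
  set g := mono 𝓕 (n + 1) b hb with hg
  set g' := mono 𝓕 n b (𝓕.antitone (Nat.le_succ n) hb) with hg'
  refine ext_sum_induction 𝓕
    (fun e => ∃ m : ℕ, ∃ r : 𝓕.rees, e * reesToExt 𝓕 g ^ m = reesToExt 𝓕 r)
    ⟨0, 0, by rw [zero_mul, map_zero]⟩ ?_ e ?_ ?_
  · rintro x y ⟨m₁, r₁, h₁⟩ ⟨m₂, r₂, h₂⟩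
    refine ⟨m₁ + m₂, r₁ * g ^ m₂ + r₂ * g ^ m₁, ?_⟩
    rw [map_add, map_mul, map_mul, map_pow, map_pow, ← h₁, ← h₂, pow_add]
    ring
  · intro k
    exact ⟨0, _, by rw [pow_zero, mul_one]⟩
  · intro k _
    refine ⟨k, ((e : A[T;T⁻¹]).coeff (-(k : ℤ))) • g' ^ k, ?_⟩
    rw [map_smul, map_pow, ← u_mul_mono 𝓕 n b hb, mul_pow, smul_mul_assoc]

theorem pow_mem_F (a : A) (ha : a ∈ 𝓕.F 1) (m : ℕ) : a ^ m ∈ 𝓕.F m := by
  induction m with
  | zero => rw [pow_zero, 𝓕.zero_eq]; trivial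
  | succ m ih =>
    rw [pow_succ]
    exact 𝓕.mul_le m 1 (Ideal.mul_mem_mul ih ha)

/-- inverting an element of `F 1` makes `rees → A[X]` surjective. -/
theorem surj_const (a : A) (ha : a ∈ 𝓕.F 1) (p : A[X]) :
    ∃ m : ℕ, ∃ r : 𝓕.rees, p * algebraMap 𝓕.rees A[X] (algebraMap A 𝓕.rees a) ^ m =
      algebraMap 𝓕.rees A[X] r := by
  have h1 : algebraMap 𝓕.rees A[X] (algebraMap A 𝓕.rees a) = Polynomial.C a := rfl
  refine ⟨p.natDegree, ⟨p * Polynomial.C a ^ p.natDegree, ?_⟩, ?_⟩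
  · intro j
    rw [← Polynomial.C_pow, Polynomial.coeff_mul_C]
    by_cases hj : j ≤ p.natDegree
    · exact Ideal.mul_mem_left _ _ (𝓕.antitone hj (pow_mem_F 𝓕 a ha _))
    · push Not at hj
      rw [Polynomial.coeff_eq_zero_of_natDegree_lt hj, zero_mul]
      exact Ideal.zero_mem _
  · rw [h1]
    rfl

end Surj

section J

/-- the ideal `F¹ ⊕ F¹ X ⊕ F² X² ⊕ ⋯` of the Rees algebra. -/
noncomputable def Jid : Ideal 𝓕.rees :=
  Ideal.comap ((Polynomial.constantCoeff (R := A)).comp 𝓕.rees.val.toRingHom) (𝓕.F 1)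

theorem mem_Jid (f : 𝓕.rees) : f ∈ Jid 𝓕 ↔ (f : A[X]).coeff 0 ∈ 𝓕.F 1 := Iff.rfl

theorem algebraMap_mem_Jid (a : A) (ha : a ∈ 𝓕.F 1) : algebraMap A 𝓕.rees a ∈ Jid 𝓕 := by
  rw [mem_Jid]
  show (Polynomial.C a).coeff 0 ∈ 𝓕.F 1
  rw [Polynomial.coeff_C_zero]
  exact ha

theorem mono_mem_Jid (n : ℕ) (hn : 0 < n) (b : A) (hb : b ∈ 𝓕.F n) : mono 𝓕 n b hb ∈ Jid 𝓕 := by
  rw [mem_Jid, coe_mono, Polynomial.coeff_monomial, if_neg (by omega)]
  exact Ideal.zero_mem _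

theorem eq_sum_mono (f : 𝓕.rees) :
    f = ∑ n ∈ (f : A[X]).support, mono 𝓕 n ((f : A[X]).coeff n) (f.2 n) := by
  apply Subtype.ext
  rw [AddSubmonoidClass.coe_finsetSum]
  simp only [coe_mono]
  exact (Polynomial.as_sum_support (f : A[X]))

theorem Jid_le (P : Ideal 𝓕.rees)
    (h1 : ∀ (n : ℕ) (b : A) (hb : b ∈ 𝓕.F (n + 1)), mono 𝓕 (n + 1) b hb ∈ P)
    (h2 : ∀ a ∈ 𝓕.F 1, algebraMap A 𝓕.rees a ∈ P) : Jid 𝓕 ≤ P := by
  intro f hf
  rw [eq_sum_mono 𝓕 f]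
  refine Ideal.sum_mem _ (fun n _ => ?_)
  rcases Nat.eq_zero_or_pos n with rfl | hn
  · have : mono 𝓕 0 ((f : A[X]).coeff 0) (f.2 0) = algebraMap A 𝓕.rees ((f : A[X]).coeff 0) :=
      mono_zero 𝓕 _ _
    rw [this]
    exact h2 _ ((mem_Jid 𝓕 f).mp hf)
  · obtain ⟨m, rfl⟩ : ∃ m, n = m + 1 := ⟨n - 1, by omega⟩
    exact h1 m _ _

theorem Jid_ne_top (hF : 𝓕.F 1 ≠ ⊤) : Jid 𝓕 ≠ ⊤ := by
  intro h
  apply hF
  rw [Ideal.eq_top_iff_one]
  have h1 : (1 : 𝓕.rees) ∈ Jid 𝓕 := by rw [h]; trivial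
  rw [mem_Jid] at h1
  simpa using h1

theorem map_pow_le_Jid_pow (k : ℕ) :
    ((𝓕.F 1) ^ k).map (algebraMap A 𝓕.rees) ≤ Jid 𝓕 ^ k := by
  rw [Ideal.map_pow]
  apply Ideal.pow_right_mono
  rw [Ideal.map_le_iff_le_comap]
  intro a ha
  exact algebraMap_mem_Jid 𝓕 a ha

end J

end Groth.Agent.Lib.Helper92.ReesS2
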