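import Groth.Agent.Lib.Helper92.ReesS2A
import Groth.Agent.Lib.Helper92.ReesS2B
import Groth.Agent.Lib.Helper92.LocCohDepth
import Groth.Agent.Lib.Helper92.LocCohH0
import Groth.Agent.Lib.Helper98.CechRestrict

/-!
# `grade(J, R) ≥ 2` for the Rees algebra `R` when the extended Rees algebra is `(S_2)` (S16058)
-/

set_option autoImplicit false
set_option linter.unusedSectionVars false
set_option maxHeartbeats 400000
universe u

open Polynomial LaurentPolynomial FiltBl DirectSum LocCoh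
open Groth.Agent.Lib.Helper24.ExtRees
open Groth.Agent.Lib.Helper92.LC
open CategoryTheory

namespace Groth.Agent.Lib.Helper92.ReesS2

section General

variable {R : Type u} [CommRing R] [IsNoetherianRing R]

/-- vanishing of `H^0_I` and `H^1_I` gives `depth_I ≥ 2`. -/
theorem two_le_idealDepth (I : Ideal R) (M : Type u) [AddCommGroup M] [Module R M]
    [Module.Finite R M] (hIM : I • (⊤ : Submodule R M) ≠ ⊤)
    (h0 : Subsingleton (LocCoh.H I 0 M)) (h1 : Subsingleton (LocCoh.H I 1 M)) :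
    (2 : ℕ∞) ≤ LocCoh.idealDepth I M := by
  by_cases htop : LocCoh.idealDepth I M = ⊤
  · rw [htop]; exact le_top
  obtain ⟨n, hn⟩ := ENat.ne_top_iff_exists.mp htop
  obtain ⟨-, hnt⟩ := (idealDepth_eq_iff I M hIM n).mp hn.symm
  rw [← hn]
  have h2 : 2 ≤ n := by
    by_contra hlt
    push Not at hlt
    interval_cases n
    · exact (not_nontrivial_iff_subsingleton.mpr h0) hnt
    · exact (not_nontrivial_iff_subsingleton.mpr h1) hnt
  exact_mod_cast h2

omit [IsNoetherianRing R] in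
theorem subsingleton_H0_of_torsion (I : Ideal R) (M : Type u) [AddCommGroup M] [Module R M]
    (h : ∀ m : M, (∃ t : ℕ, ∀ a ∈ I ^ t, a • m = 0) → m = 0) :
    Subsingleton (LocCoh.H I 0 M) := by
  refine ⟨fun x y => γ_injective I ?_⟩
  have hx := h _ (γ_mem I x)
  have hy := h _ (γ_mem I y)
  rw [hx, hy]

theorem torsion_eq_zero_of_subsingleton_H0 (I : Ideal R) (M : Type u) [AddCommGroup M]
    [Module R M] (h : Subsingleton (LocCoh.H I 0 M)) (m : M)
    (hm : ∃ t : ℕ, ∀ a ∈ I ^ t, a • m = 0) : m = 0 := by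
  obtain ⟨y, hy⟩ := exists_γ_eq I (M := ModuleCat.of R M) m hm
  rw [← hy, Subsingleton.elim y 0, map_zero]

end General

section Rees

variable {A : Type u} [CommRing A] [IsNoetherianRing A] (𝓕 : FiltBl.IdealFiltration A)

theorem coeff_toLaurent_natCast (p : A[X]) (n : ℕ) :
    (Polynomial.toLaurent p).coeff (n : ℤ) = p.coeff n := by
  rw [LaurentPolynomial.coeff_toLaurent]
  exact Finsupp.mapDomain_apply Nat.castEmbedding.injective _ n

/-- every prime of the extended Rees algebra containing `J` has height at least two. -/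
theorem two_le_height [IsNoetherianRing 𝓕.extRees] (hht : 2 ≤ (𝓕.F 1).height)
    (Q : Ideal 𝓕.extRees) [Q.IsPrime]
    (hQ : (Jid 𝓕).map (reesToExt 𝓕).toRingHom ≤ Q) : 2 ≤ Q.height := by
  set q : Ideal A := Q.comap (algebraMap A 𝓕.extRees) with hq
  haveI : q.IsPrime := Ideal.comap_isPrime _ _
  haveI hpr : (q.map (algebraMap A A[T;T⁻¹])).IsPrime :=
    Groth.Agent.Lib.Helper52.LaurentCM.map_isPrime q
  set 𝔓₀ := q.map (algebraMap A A[T;T⁻¹]) with h𝔓₀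
  have hcomap : 𝔓₀.comap (algebraMap A A[T;T⁻¹]) = q :=
    Groth.Agent.Lib.Helper52.GrCoact.comap_map_algebraMap q
  set Q₀ : Ideal 𝓕.extRees := 𝔓₀.comap (algebraMap 𝓕.extRees A[T;T⁻¹]) with hQ₀
  have hFq : 𝓕.F 1 ≤ q := by
    intro a ha
    rw [hq, Ideal.mem_comap]
    apply hQ
    have h1 : algebraMap A 𝓕.extRees a = (reesToExt 𝓕).toRingHom (algebraMap A 𝓕.rees a) :=
      ((reesToExt 𝓕).commutes a).symm
    rw [h1]
    exact Ideal.mem_map_of_mem _ (algebraMap_mem_Jid 𝓕 a ha)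
  have hle : Q₀ ≤ Q := by
    intro x hx
    rw [hQ₀, Ideal.mem_comap, algebraMap_extRees_apply, h𝔓₀,
      Groth.Agent.Lib.Helper52.GrCoact.mem_map_algebraMap_iff] at hx
    refine ext_sum_induction 𝓕 (· ∈ Q) Q.zero_mem (fun _ _ => Q.add_mem) x ?_ ?_
    · intro n
      rcases Nat.eq_zero_or_pos n with rfl | hn
      · have h1 : reesToExt 𝓕 (mono 𝓕 0 ((x : A[T;T⁻¹]).coeff ((0 : ℕ) : ℤ)) (coeff_mem 𝓕 x 0)) =
            algebraMap A 𝓕.extRees ((x : A[T;T⁻¹]).coeff ((0 : ℕ) : ℤ)) := by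
          rw [mono_zero, AlgHom.commutes]
        rw [h1]
        exact hx _
      · apply hQ
        exact Ideal.mem_map_of_mem _ (mono_mem_Jid 𝓕 n hn _ _)
    · intro k _
      rw [Algebra.smul_def]
      exact Q.mul_mem_right _ (hx _)
  have h1 : (𝓕.F 1).height ≤ q.height := Ideal.height_mono hFq
  have h2 : q.height ≤ 𝔓₀.height := by
    haveI : 𝔓₀.LiesOver q := ⟨hcomap.symm⟩
    rw [Ideal.height_eq_height_add_of_liesOver_of_hasGoingDown q 𝔓₀]
    exact le_self_add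
  have h3 : Q₀.height = 𝔓₀.height := IsLocalization.height_under (Submonoid.powers 𝓕.u) 𝔓₀
  have h4 : Q₀.height ≤ Q.height := Ideal.height_mono hle
  calc 2 ≤ (𝓕.F 1).height := hht
    _ ≤ q.height := h1
    _ ≤ 𝔓₀.height := h2
    _ = Q₀.height := h3.symm
    _ ≤ Q.height := h4

theorem two_le_depth_ext [IsNoetherianRing 𝓕.extRees]
    (H : ∀ (Q : Ideal 𝓕.extRees) [Q.IsPrime], SkAt 2 (Localization.AtPrime Q))
    (hht : 2 ≤ (𝓕.F 1).height) (Q : Ideal 𝓕.extRees) [Q.IsPrime]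
    (hQ : (Jid 𝓕).map (reesToExt 𝓕).toRingHom ≤ Q) :
    (2 : ℕ∞) ≤ depth (Localization.AtPrime Q) (LocalizedModule Q.primeCompl 𝓕.extRees) := by
  rw [Groth.Agent.Lib.Helper56.depth_localizedModule_self]
  have h := le_depth_of_skAt 2 (Localization.AtPrime Q) (H Q) (by
    rw [IsLocalization.AtPrime.ringKrullDim_eq_height Q]
    have h2 := two_le_height 𝓕 hht Q hQ
    have h3 : ((2 : ℕ∞) : WithBot ℕ∞) ≤ ((Q.height : ℕ∞) : WithBot ℕ∞) :=
      WithBot.coe_le_coe.mpr h2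
    exact h3)
  exact_mod_cast h

theorem two_le_idealDepth_ext [IsNoetherianRing 𝓕.extRees]
    (H : ∀ (Q : Ideal 𝓕.extRees) [Q.IsPrime], SkAt 2 (Localization.AtPrime Q))
    (hht : 2 ≤ (𝓕.F 1).height) :
    (2 : ℕ∞) ≤ idealDepth ((Jid 𝓕).map (reesToExt 𝓕).toRingHom) 𝓕.extRees := by
  rw [Groth.Agent.Lib.Helper67.idealDepth_eq_iInf_depth_localization]
  exact le_iInf₂ (fun Q hQ => two_le_depth_ext 𝓕 H hht Q.asIdeal hQ)

theorem map_Jid_ne_top (hF : 𝓕.F 1 ≠ ⊤) : (Jid 𝓕).map (reesToExt 𝓕).toRingHom ≠ ⊤ := by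
  obtain ⟨m, hm, hFm⟩ := Ideal.exists_le_maximal _ hF
  haveI : m.IsPrime := hm.isPrime
  haveI hpr : (m.map (algebraMap A A[T;T⁻¹])).IsPrime :=
    Groth.Agent.Lib.Helper52.LaurentCM.map_isPrime m
  have hle : (Jid 𝓕).map (reesToExt 𝓕).toRingHom ≤
      (m.map (algebraMap A A[T;T⁻¹])).comap (algebraMap 𝓕.extRees A[T;T⁻¹]) := by
    rw [Ideal.map_le_iff_le_comap]
    intro f hf
    rw [Ideal.mem_comap, Ideal.mem_comap, algebraMap_extRees_apply,
      Groth.Agent.Lib.Helper52.GrCoact.mem_map_algebraMap_iff]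
    intro j
    show ((reesToExt 𝓕 f : 𝓕.extRees) : A[T;T⁻¹]).coeff j ∈ m
    rw [coe_reesToExt]
    by_cases hj : j < 0
    · rw [coeff_toLaurent_neg _ j hj]; exact m.zero_mem
    · push Not at hj
      obtain ⟨n, rfl⟩ := Int.eq_ofNat_of_zero_le hj
      rw [coeff_toLaurent_natCast]
      apply hFm
      rcases Nat.eq_zero_or_pos n with rfl | hn
      · exact (mem_Jid 𝓕 f).mp hf
      · exact 𝓕.antitone hn (f.2 n)
  intro htop
  rw [htop, top_le_iff] at hle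
  exact (Ideal.comap_isPrime (algebraMap 𝓕.extRees A[T;T⁻¹]) _).ne_top hle

/-- `E / R` has no `J`-torsion. -/
theorem torsion_quot (hΓ : ∀ c : A, (∃ n : ℕ, ∀ a ∈ (𝓕.F 1) ^ n, a • c = 0) → c = 0)
    (x : 𝓕.extRees) (k : ℕ)
    (hx : ∀ f ∈ Jid 𝓕 ^ k, reesToExt 𝓕 f * x ∈ Set.range (reesToExt 𝓕)) :
    x ∈ Set.range (reesToExt 𝓕) := by
  apply mem_range_of_neg_coeff_eq_zero
  intro j hj
  apply hΓ
  refine ⟨k, fun a ha => ?_⟩
  have h1 : algebraMap A 𝓕.rees a ∈ Jid 𝓕 ^ k :=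
    map_pow_le_Jid_pow 𝓕 k (Ideal.mem_map_of_mem _ ha)
  have h2 := neg_coeff_eq_zero_of_mem_range 𝓕 _ (hx _ h1) j hj
  rw [AlgHom.commutes, ← Algebra.smul_def] at h2
  have h3 : ((a • x : 𝓕.extRees) : A[T;T⁻¹]) = a • (x : A[T;T⁻¹]) := rfl
  rw [h3, AddMonoidAlgebra.coeff_smul_apply] at h2
  exact h2

variable [IsNoetherianRing 𝓕.rees] [IsNoetherianRing 𝓕.extRees]

/-- **`grade(J, R) ≥ 2`.** -/
theorem two_le_idealDepth_rees
    (H : ∀ (Q : Ideal 𝓕.extRees) [Q.IsPrime], SkAt 2 (Localization.AtPrime Q))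
    (hht : 2 ≤ (𝓕.F 1).height) (hF : 𝓕.F 1 ≠ ⊤)
    (hΓ : ∀ c : A, (∃ n : ℕ, ∀ a ∈ (𝓕.F 1) ^ n, a • c = 0) → c = 0) :
    (2 : ℕ∞) ≤ idealDepth (Jid 𝓕) 𝓕.rees := by
  letI := algRE 𝓕
  let e : 𝓕.rees →ₗ[𝓕.rees] 𝓕.extRees := Algebra.linearMap 𝓕.rees 𝓕.extRees
  have he : Function.Injective e := reesToExt_injective 𝓕
  have hS := sesOfInjective_shortExact e he
  have hmapne : (Jid 𝓕).map (algebraMap 𝓕.rees 𝓕.extRees) • (⊤ : Submodule 𝓕.extRees 𝓕.extRees) ≠ ⊤ := by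
    rw [Ideal.smul_top_eq_map, Algebra.algebraMap_self, Ideal.map_id]
    intro h
    apply map_Jid_ne_top 𝓕 hF
    rw [Submodule.restrictScalars_eq_top_iff] at h
    exact h
  have hE : ∀ i < 2, Subsingleton (LocCoh.H (Jid 𝓕) i 𝓕.extRees) := by
    intro i hi
    obtain ⟨φ, -⟩ := Helper98.CechRestrict.lc_restrict (R := 𝓕.rees) (R' := 𝓕.extRees)
      (Jid 𝓕) 𝓕.extRees i
    haveI : Subsingleton (LocCoh.H ((Jid 𝓕).map (algebraMap 𝓕.rees 𝓕.extRees)) i 𝓕.extRees) :=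
      subsingleton_of_lt_idealDepth ((Jid 𝓕).map (algebraMap 𝓕.rees 𝓕.extRees)) 2 𝓕.extRees
        hmapne (two_le_idealDepth_ext 𝓕 H hht) i hi
    exact φ.symm.toEquiv.subsingleton
  have h0Q : Subsingleton (LocCoh.H (Jid 𝓕) 0 (𝓕.extRees ⧸ LinearMap.range e)) := by
    apply subsingleton_H0_of_torsion
    intro m ⟨t, ht⟩
    obtain ⟨x, rfl⟩ := Submodule.Quotient.mk_surjective _ m
    rw [Submodule.Quotient.mk_eq_zero]
    have hx : x ∈ Set.range (reesToExt 𝓕) := by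
      apply torsion_quot 𝓕 hΓ x t
      intro f hf
      have := ht f hf
      rw [← Submodule.Quotient.mk_smul, Submodule.Quotient.mk_eq_zero] at this
      obtain ⟨r, hr⟩ := this
      exact ⟨r, hr⟩
    obtain ⟨r, hr⟩ := hx
    exact ⟨r, hr⟩
  have h0 : Subsingleton (LocCoh.H (Jid 𝓕) 0 𝓕.rees) := by
    haveI := hE 0 (by omega)
    exact (Hmap_f_zero_injective (Jid 𝓕) hS).subsingleton
  have h1 : Subsingleton (LocCoh.H (Jid 𝓕) 1 𝓕.rees) := by
    haveI := hE 1 (by omega)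
    suffices h : ∀ x : LocCoh.H (Jid 𝓕) 1 𝓕.rees, x = 0 from
      ⟨fun x y => (h x).trans (h y).symm⟩
    intro x
    obtain ⟨z, rfl⟩ := exact₁ (Jid 𝓕) 0 hS x (Subsingleton.elim _ _)
    haveI := h0Q
    rw [Subsingleton.elim z 0, map_zero]
  have hne : Jid 𝓕 • (⊤ : Submodule 𝓕.rees 𝓕.rees) ≠ ⊤ := by
    rw [Ideal.smul_top_eq_map, Algebra.algebraMap_self, Ideal.map_id]
    intro h
    apply Jid_ne_top 𝓕 hF
    rw [Submodule.restrictScalars_eq_top_iff] at h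
    exact h
  exact two_le_idealDepth (Jid 𝓕) 𝓕.rees hne h0 h1

end Rees

end Groth.Agent.Lib.Helper92.ReesS2
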