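import Mathlib.Tactic
import Mathlib.RingTheory.Flat.Basic
import Mathlib.RingTheory.Flat.Localization
import Mathlib.RingTheory.Flat.Stability
import Mathlib.LinearAlgebra.TensorProduct.Quotient
import Mathlib.LinearAlgebra.TensorProduct.RightExactness
import Mathlib.LinearAlgebra.TensorProduct.Tower
import Mathlib.Algebra.Module.Torsion.Basic

/-!
# Regularity of an element `t : S` on `N ⊗[R] S`

`Reg t N` says multiplication by `t` (on the right factor) is injective on `N ⊗[R] S`.
For `S` flat over `R` this is stable under submodules and extensions, and under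
flat base change of the module.
-/

set_option autoImplicit false
universe u

open TensorProduct

namespace Groth.Agent.Lib.Helper92.RegTensor

variable {R S : Type u} [CommRing R] [CommRing S] [Algebra R S] (t : S)

/-- multiplication by `t` on the right factor of `N ⊗[R] S` is injective. -/
def Reg (N : Type u) [AddCommGroup N] [Module R N] : Prop :=
  Function.Injective ((LinearMap.mulLeft R t).lTensor N)

variable {t}

theorem Reg.of_injective [Module.Flat R S] {N' N : Type u} [AddCommGroup N'] [Module R N']
    [AddCommGroup N] [Module R N] (f : N' →ₗ[R] N) (hf : Function.Injective f)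
    (h : Reg (R := R) t N) : Reg (R := R) t N' := by
  have hfS : Function.Injective (f.rTensor S) :=
    Module.Flat.rTensor_preserves_injective_linearMap f hf
  intro z z' hz
  apply hfS
  apply h
  have key : ∀ w, (LinearMap.mulLeft R t).lTensor N (f.rTensor S w) =
      f.rTensor S ((LinearMap.mulLeft R t).lTensor N' w) := by
    intro w
    rw [← LinearMap.comp_apply, ← LinearMap.comp_apply, LinearMap.lTensor_comp_rTensor,
      LinearMap.rTensor_comp_lTensor]
  rw [key, key, hz]

theorem Reg.of_exact [Module.Flat R S] {N' N N'' : Type u} [AddCommGroup N'] [Module R N']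
    [AddCommGroup N] [Module R N] [AddCommGroup N''] [Module R N'']
    (f : N' →ₗ[R] N) (g : N →ₗ[R] N'') (hf : Function.Injective f) (hg : Function.Surjective g)
    (hfg : Function.Exact f g)
    (h' : Reg (R := R) t N') (h'' : Reg (R := R) t N'') : Reg (R := R) t N := by
  have hfS : Function.Injective (f.rTensor S) :=
    Module.Flat.rTensor_preserves_injective_linearMap f hf
  have hex : Function.Exact (f.rTensor S) (g.rTensor S) := rTensor_exact S hfg hg
  have keyf : ∀ w, (LinearMap.mulLeft R t).lTensor N (f.rTensor S w) =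
      f.rTensor S ((LinearMap.mulLeft R t).lTensor N' w) := by
    intro w
    rw [← LinearMap.comp_apply, ← LinearMap.comp_apply, LinearMap.lTensor_comp_rTensor,
      LinearMap.rTensor_comp_lTensor]
  have keyg : ∀ w, (LinearMap.mulLeft R t).lTensor N'' (g.rTensor S w) =
      g.rTensor S ((LinearMap.mulLeft R t).lTensor N w) := by
    intro w
    rw [← LinearMap.comp_apply, ← LinearMap.comp_apply, LinearMap.lTensor_comp_rTensor,
      LinearMap.rTensor_comp_lTensor]
  rw [Reg, injective_iff_map_eq_zero]
  intro z hz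
  have h1 : g.rTensor S z = 0 := by
    apply h''
    rw [keyg, hz, map_zero, map_zero]
  obtain ⟨z', rfl⟩ := (hex z).1 h1
  rw [keyf] at hz
  have h2 : (LinearMap.mulLeft R t).lTensor N' z' = 0 := by
    apply hfS
    rw [hz, map_zero]
  have h3 : z' = 0 := by
    apply h'
    rw [h2, map_zero]
  rw [h3, map_zero]

/-- flat base change of the module -/
theorem Reg.of_flat {R' : Type u} [CommRing R'] [Algebra R R'] {M : Type u} [AddCommGroup M]
    [Module R M] [Module R' M] [IsScalarTower R R' M] [Module.Flat R' M]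
    (h : Reg (R := R) t R') : Reg (R := R) t M := by
  let τ : S →ₗ[R] S := LinearMap.mulLeft R t
  let τ' : R' ⊗[R] S →ₗ[R'] R' ⊗[R] S := τ.baseChange R'
  have hτ' : Function.Injective τ' := by
    have : (τ' : R' ⊗[R] S → R' ⊗[R] S) = τ.lTensor R' := LinearMap.baseChange_eq_ltensor _
    rw [this]
    exact h
  have hM : Function.Injective (τ'.lTensor M) :=
    Module.Flat.lTensor_preserves_injective_linearMap τ' hτ'
  let e := TensorProduct.AlgebraTensorModule.cancelBaseChange R R' R' M S
  have key : ∀ z, τ.lTensor M (e z) = e (τ'.lTensor M z) := by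
    intro z
    induction z using TensorProduct.induction_on with
    | zero => simp
    | add x y hx hy => simp only [map_add, hx, hy]
    | tmul m w =>
      induction w using TensorProduct.induction_on with
      | zero => simp
      | add x y hx hy => simp only [tmul_add, map_add, hx, hy]
      | tmul a s =>
        simp [e, τ', τ]
  intro z z' hz
  have hz2 : τ.lTensor M (e (e.symm z)) = τ.lTensor M (e (e.symm z')) := by
    simpa using hz
  rw [key, key] at hz2
  have := hM (e.injective hz2)
  exact e.symm.injective this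

theorem one_tmul_eq_zero_iff (I : Ideal R) (s : S) :
    ((1 : R ⧸ I) ⊗ₜ[R] s = 0) ↔ s ∈ I.map (algebraMap R S) := by
  have hmem : (Submodule.Quotient.mk s : S ⧸ (I • ⊤ : Submodule R S)) = 0 ↔
      s ∈ I.map (algebraMap R S) := by
    rw [Submodule.Quotient.mk_eq_zero, Ideal.smul_top_eq_map]
    rfl
  rw [← hmem, ← TensorProduct.quotTensorEquivQuotSMul_mk_one_tmul I s]
  exact (LinearEquiv.map_eq_zero_iff _).symm

/-- an element of `R` outside a prime `p` stays outside `p S` when `S` is flat and `p S ≠ ⊤`. -/
theorem algebraMap_notMem_map_of_flat [Module.Flat R S] (p : Ideal R) [p.IsPrime]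
    (hne : p.map (algebraMap R S) ≠ ⊤) {s : R} (hs : s ∉ p) :
    algebraMap R S s ∉ p.map (algebraMap R S) := by
  intro hmem
  let μ : (R ⧸ p) →ₗ[R] (R ⧸ p) := LinearMap.mulLeft R (Ideal.Quotient.mk p s)
  have hμ : Function.Injective μ := by
    intro a b hab
    have hs0 : Ideal.Quotient.mk p s ≠ 0 := by
      rwa [Ne, Ideal.Quotient.eq_zero_iff_mem]
    exact mul_left_cancel₀ hs0 hab
  have hμS : Function.Injective (μ.rTensor S) :=
    Module.Flat.rTensor_preserves_injective_linearMap μ hμ
  have h1 : μ.rTensor S ((1 : R ⧸ p) ⊗ₜ[R] (1 : S)) = (1 : R ⧸ p) ⊗ₜ[R] (algebraMap R S s) := by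
    rw [LinearMap.rTensor_tmul]
    change (Ideal.Quotient.mk p s * 1) ⊗ₜ[R] (1 : S) = _
    rw [mul_one, Algebra.algebraMap_eq_smul_one, ← TensorProduct.smul_tmul]
    congr 1
    rw [← Ideal.Quotient.algebraMap_eq, Algebra.algebraMap_eq_smul_one]
  have h2 : (1 : R ⧸ p) ⊗ₜ[R] (1 : S) = 0 := by
    apply hμS
    rw [h1, map_zero]
    exact (one_tmul_eq_zero_iff p _).2 hmem
  exact hne ((Ideal.eq_top_iff_one _).2 ((one_tmul_eq_zero_iff p 1).1 h2))

/-- translation for cyclic modules -/
theorem reg_quotient_iff (I : Ideal R) :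
    Reg (R := R) t (R ⧸ I) ↔
      ∀ s : S, t * s ∈ I.map (algebraMap R S) → s ∈ I.map (algebraMap R S) := by
  let e := TensorProduct.quotTensorEquivQuotSMul S I
  have hmem : ∀ s : S, (Submodule.Quotient.mk s : S ⧸ (I • ⊤ : Submodule R S)) = 0 ↔
      s ∈ I.map (algebraMap R S) := by
    intro s
    rw [Submodule.Quotient.mk_eq_zero, Ideal.smul_top_eq_map]
    rfl
  have hrep : ∀ z : (R ⧸ I) ⊗[R] S, ∃ s : S, z = 1 ⊗ₜ[R] s := by
    intro z
    obtain ⟨s, hs⟩ := Submodule.Quotient.mk_surjective _ (e z)
    refine ⟨s, ?_⟩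
    rw [← TensorProduct.quotTensorEquivQuotSMul_symm_mk I s, hs]
    exact (e.symm_apply_apply z).symm
  have hτ : ∀ s : S, (LinearMap.mulLeft R t).lTensor (R ⧸ I) (1 ⊗ₜ[R] s) = 1 ⊗ₜ[R] (t * s) := by
    intro s
    simp
  have hzero : ∀ s : S, ((1 : R ⧸ I) ⊗ₜ[R] s = 0) ↔ s ∈ I.map (algebraMap R S) := by
    intro s
    rw [← hmem, ← TensorProduct.quotTensorEquivQuotSMul_mk_one_tmul I s]
    exact (LinearEquiv.map_eq_zero_iff _).symm
  constructor
  · intro h s hs
    rw [← hzero] at hs ⊢
    apply h
    rw [hτ, hs, map_zero]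
  · intro h
    rw [Reg, injective_iff_map_eq_zero]
    intro z hz
    obtain ⟨s, rfl⟩ := hrep z
    rw [hτ, hzero] at hz
    rw [hzero]
    exact h s hz

end Groth.Agent.Lib.Helper92.RegTensor
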