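import Mathlib
set_option autoImplicit false
universe u
open scoped HomogeneousIdeal

namespace Groth.Agent.Lib.Helper92.VAG3

theorem irrelevant_le_map_of_surj_pos {T A : Type u} [CommRing T] [CommRing A] (𝒯 : ℕ → AddSubgroup T) [GradedRing 𝒯] (𝒜 : ℕ → AddSubgroup A) [GradedRing 𝒜] (φ : 𝒯 →+*ᵍ 𝒜) (hs : ∀ n, 0 < n → ∀ b ∈ 𝒜 n, ∃ a ∈ 𝒯 n, φ a = b) : (𝒜)₊ ≤ ((𝒯)₊).map φ := by
  classical
  intro x hx
  have h0 : (DirectSum.decompose 𝒜 x 0 : A) = 0 := by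
    have := (HomogeneousIdeal.mem_irrelevant_iff 𝒜 x).1 hx
    simpa [GradedRing.proj_apply] using this
  change x ∈ ((𝒯)₊.toIdeal.map φ)
  rw [← DirectSum.sum_support_decompose 𝒜 x]
  refine sum_mem ?_
  intro n hn
  by_cases hn0 : n = 0
  · subst hn0
    rw [h0]
    exact zero_mem _
  · obtain ⟨a, ha, hab⟩ := hs n (Nat.pos_of_ne_zero hn0) _ (DirectSum.decompose 𝒜 x n).2
    rw [← hab]
    have ha' : a ∈ (𝒯)₊ := HomogeneousIdeal.mem_irrelevant_of_mem 𝒯 (Nat.pos_of_ne_zero hn0) ha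
    exact Ideal.mem_map_of_mem _ ha'

end Groth.Agent.Lib.Helper92.VAG3
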